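import Cfsg.Agent.Lib.StdHe.TModel

/-!
Facts about the codes needed for the automorphisms.
-/

set_option autoImplicit false

namespace CfsgLib.StdHe

/-- The field automorphism or the identity. -/
def fp (s : Bool) (x : ℕ) : ℕ := if s then fq x else x

/-- The action scaling the two root parts. -/
def aD (s : Bool) (k₁ k₂ x : ℕ) : ℕ :=
  tc (fm (fm k₁ (fq k₂)) (fp s (cA x))) (fm (fm k₁ k₂) (fp s (cB x))) (fm k₁ (fp s (cL x))) (fm k₂ (fp s (cN x)))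

/-- The action of an automorphism normalising the Sylow subgroup and the torus. -/
def aMap (σ s : Bool) (k₁ k₂ x : ℕ) : ℕ := if σ then tMir (aD s k₁ k₂ x) else aD s k₁ k₂ x

/-- The torus element or its inverse. -/
def tEp (s : Bool) (x : ℕ) : ℕ := if s then tEta (tEta x) else tEta x

theorem fp_lt : ∀ s : Bool, ∀ a < 4, fp s a < 4 := by decide

theorem fp_xor : ∀ s : Bool, ∀ a < 4, ∀ b < 4, fp s (a ^^^ b) = fp s a ^^^ fp s b := by decide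

theorem aD_cross : ∀ s : Bool, ∀ k₁ < 4, ∀ k₂ < 4, ∀ l < 4, ∀ n < 4,
    fm (fm k₁ (fq k₂)) (fp s (fm l (fq n))) = fm (fm k₁ (fp s l)) (fq (fm k₂ (fp s n))) ∧
    fm (fm k₁ k₂) (fp s (fm l n)) = fm (fm k₁ (fp s l)) (fm k₂ (fp s n)) := by decide +kernel

theorem parts_aD (s : Bool) {k₁ k₂ : ℕ} (h₁ : k₁ < 4) (h₂ : k₂ < 4) (x : ℕ) :
    cA (aD s k₁ k₂ x) = fm (fm k₁ (fq k₂)) (fp s (cA x)) ∧ cB (aD s k₁ k₂ x) = fm (fm k₁ k₂) (fp s (cB x)) ∧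
      cL (aD s k₁ k₂ x) = fm k₁ (fp s (cL x)) ∧ cN (aD s k₁ k₂ x) = fm k₂ (fp s (cN x)) :=
  tc_parts (fm_lt _ (fm_lt _ h₁ _ (fq_lt h₂)) _ (fp_lt s _ (cA_lt x))) (fm_lt _ (fm_lt _ h₁ _ h₂) _ (fp_lt s _ (cB_lt x)))
    (fm_lt _ h₁ _ (fp_lt s _ (cL_lt x))) (fm_lt _ h₂ _ (fp_lt s _ (cN_lt x)))

theorem aD_lt (s : Bool) {k₁ k₂ : ℕ} (h₁ : k₁ < 4) (h₂ : k₂ < 4) (x : ℕ) : aD s k₁ k₂ x < 256 :=
  tc_lt (fm_lt _ (fm_lt _ h₁ _ (fq_lt h₂)) _ (fp_lt s _ (cA_lt x))) (fm_lt _ (fm_lt _ h₁ _ h₂) _ (fp_lt s _ (cB_lt x)))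
    (fm_lt _ h₁ _ (fp_lt s _ (cL_lt x))) (fm_lt _ h₂ _ (fp_lt s _ (cN_lt x)))

theorem aD_hom (s : Bool) {k₁ k₂ : ℕ} (h₁ : k₁ < 4) (h₂ : k₂ < 4) (x y : ℕ) :
    aD s k₁ k₂ (tmul x y) = tmul (aD s k₁ k₂ x) (aD s k₁ k₂ y) := by
  obtain ⟨a, b, l, n⟩ := parts_tmul x y
  obtain ⟨a₁, b₁, l₁, n₁⟩ := parts_aD s h₁ h₂ x
  obtain ⟨a₂, b₂, l₂, n₂⟩ := parts_aD s h₁ h₂ y
  have hl := cL_lt y
  have hn := cN_lt x
  obtain ⟨h, h'⟩ := aD_cross s k₁ h₁ k₂ h₂ _ hl _ hn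
  have hA := fm_lt _ h₁ _ (fq_lt h₂)
  have hB := fm_lt _ h₁ _ h₂
  show tc _ _ _ _ = tc _ _ _ _
  rw [a, b, l, n, a₁, a₂, b₁, b₂, l₁, l₂, n₁, n₂, ← h, ← h',
    fp_xor s _ (xor_lt_four _ (cA_lt _) _ (cA_lt _)) _ (fm_lt _ hl _ (fq_lt hn)), fp_xor s _ (cA_lt _) _ (cA_lt _),
    fp_xor s _ (xor_lt_four _ (cB_lt _) _ (cB_lt _)) _ (fm_lt _ hl _ hn), fp_xor s _ (cB_lt _) _ (cB_lt _),
    fp_xor s _ (cL_lt _) _ (cL_lt _), fp_xor s _ (cN_lt _) _ (cN_lt _),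
    fm_xor _ hA _ (xor_lt_four _ (fp_lt s _ (cA_lt _)) _ (fp_lt s _ (cA_lt _))) _ (fp_lt s _ (fm_lt _ hl _ (fq_lt hn))),
    fm_xor _ hA _ (fp_lt s _ (cA_lt _)) _ (fp_lt s _ (cA_lt _)),
    fm_xor _ hB _ (xor_lt_four _ (fp_lt s _ (cB_lt _)) _ (fp_lt s _ (cB_lt _))) _ (fp_lt s _ (fm_lt _ hl _ hn)),
    fm_xor _ hB _ (fp_lt s _ (cB_lt _)) _ (fp_lt s _ (cB_lt _)),
    fm_xor _ h₁ _ (fp_lt s _ (cL_lt _)) _ (fp_lt s _ (cL_lt _)),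
    fm_xor _ h₂ _ (fp_lt s _ (cN_lt _)) _ (fp_lt s _ (cN_lt _))]

theorem aMap_lt (σ s : Bool) {k₁ k₂ : ℕ} (h₁ : k₁ < 4) (h₂ : k₂ < 4) (x : ℕ) : aMap σ s k₁ k₂ x < 256 := by
  unfold aMap
  split
  · exact (tMir_spec _ (aD_lt s h₁ h₂ x)).1
  · exact aD_lt s h₁ h₂ x

theorem aMap_hom (σ s : Bool) {k₁ k₂ : ℕ} (h₁ : k₁ < 4) (h₂ : k₂ < 4) (x y : ℕ) :
    aMap σ s k₁ k₂ (tmul x y) = tmul (aMap σ s k₁ k₂ x) (aMap σ s k₁ k₂ y) := by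
  unfold aMap
  cases σ
  · simpa using aD_hom s h₁ h₂ x y
  · simpa [aD_hom s h₁ h₂] using tMir_hom (aD s k₁ k₂ x) (aD s k₁ k₂ y)

theorem centre_fact : ∀ x < 256, tmul x 16 = tmul 16 x → tmul x 64 = tmul 64 x → x < 16 := by decide +kernel

theorem centre_comm : ∀ x < 16, ∀ y < 256, tmul x y = tmul y x := by decide +kernel

theorem four_pow : ∀ x < 256, tmul (tmul x x) (tmul x x) = 0 := by decide +kernel

/-- A solution of `y · η(y)⁻¹ = a` up to the centre of the Sylow subgroup. -/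
def twist₀ (k : ℕ) (a : ℕ) : ℕ := tc 0 0 (fm k (cL a)) (fm k (cN a))

/-- A solution of `y · η(y)⁻¹ = a`. -/
def twist₁ (a : ℕ) : ℕ :=
  tmul (4 * fm 3 (cB (tmul (tinv (tmul (twist₀ 2 a) (tinv (tEta (twist₀ 2 a))))) a))) (twist₀ 2 a)

/-- A solution of `y · η²(y)⁻¹ = a`. -/
def twist₂ (a : ℕ) : ℕ :=
  tmul (4 * fm 2 (cB (tmul (tinv (tmul (twist₀ 3 a) (tinv (tEta (tEta (twist₀ 3 a)))))) a))) (twist₀ 3 a)

theorem twist_spec : ∀ a < 256,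
    (tmul a (tmul (tEta a) (tEta (tEta a))) = 0 →
      twist₁ a < 256 ∧ tmul (twist₁ a) (tinv (tEta (twist₁ a))) = a) ∧
    (tmul a (tmul (tEta (tEta a)) (tEta a)) = 0 →
      twist₂ a < 256 ∧ tmul (twist₂ a) (tinv (tEta (tEta (twist₂ a)))) = a) := by decide +kernel

theorem u_form : ∀ b < 4, tmul (tEta (4 * fm 3 b)) (4 * fm 3 b) = 4 * b := by decide

theorem root_form : ∀ l < 4, tmul (tEta (16 * fm 2 l)) (16 * fm 2 l) = 16 * l ∧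
    tmul (tEta (64 * fm 2 l)) (64 * fm 2 l) = 64 * l := by decide

theorem rt_fact : ∀ s : Bool, ∀ j < 256, tmul j j = 0 →
    cA (tmul (tEp s j) j) = 0 ∧ (cL (tmul (tEp s j) j) = 0 ∨ cN (tmul (tEp s j) j) = 0) ∧
    (j < 16 → tmul (tEp s j) j < 16) := by decide +kernel

/-- The inverse of a non-zero code. -/
def finv (a : ℕ) : ℕ := fq a

/-- A second kind element moved to the centre. -/
def lab₁ (l b : ℕ) : ℕ := tmul (tmul (64 * fm b (finv l)) (tc 0 b l 0)) (64 * fm b (finv l))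

/-- A second kind element moved to the centre. -/
def lab₂ (n b : ℕ) : ℕ := tmul (tmul (16 * fm b (finv n)) (tc 0 b 0 n)) (16 * fm b (finv n))

set_option synthInstance.maxSize 1024 in
theorem label_one : ∀ l < 4, ∀ b < 4, 1 ≤ l → 1 ≤ b →
    cN (lab₁ l b) = 0 ∧ tW1 (lab₁ l b) < 16 ∧ cA (tW1 (lab₁ l b)) ≠ 0 ∧ 4 ≤ tW1 (lab₁ l b) := by decide +kernel

set_option synthInstance.maxSize 1024 in
theorem label_two : ∀ n < 4, ∀ b < 4, 1 ≤ n → 1 ≤ b →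
    cL (lab₂ n b) = 0 ∧ tW2 (lab₂ n b) < 16 ∧ cA (tW2 (lab₂ n b)) ≠ 0 ∧ 4 ≤ tW2 (lab₂ n b) := by decide +kernel

theorem root_sq : ∀ l < 4, tmul (16 * l) (16 * l) = 0 ∧ tmul (64 * l) (64 * l) = 0 ∧
    tW1 (16 * l) = 4 * l ∧ tW2 (64 * l) = 4 * l ∧ (l ≠ 0 → 16 ≤ 16 * l ∧ 16 ≤ 64 * l) := by decide

/-- The commutator of two root elements. -/
def cm (l n : ℕ) : ℕ := tmul (tmul (64 * n) (16 * l)) (tmul (64 * n) (16 * l))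

/-- One of four commutators or the identity. -/
def bitc (b : Bool) (l n : ℕ) : ℕ := if b then cm l n else 0

theorem cm_span : ∀ r < 16, ∃ a b c d : Bool,
    tmul (tmul (bitc a 1 1) (bitc b 2 1)) (tmul (bitc c 1 2) (bitc d 2 2)) = r := by decide +kernel

theorem code_split : ∀ x < 256, tmul (x % 16) (tmul (16 * cL x) (64 * cN x)) = x := by decide +kernel

theorem roots_split : tmul 16 32 = 48 ∧ tmul 64 128 = 192 := by decide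

theorem aMap_roots : ∀ σ s : Bool, ∀ k₁ < 4, ∀ k₂ < 4,
    (aMap σ s k₁ k₂ 16 = if σ then 64 * k₁ else 16 * k₁) ∧ (aMap σ s k₁ k₂ 64 = if σ then 16 * k₂ else 64 * k₂) ∧
    aMap σ s k₁ k₂ 32 = tEp s (aMap σ s k₁ k₂ 16) ∧ aMap σ s k₁ k₂ 128 = tEp s (aMap σ s k₁ k₂ 64) ∧
    aMap σ s k₁ k₂ 0 = 0 := by
  decide +kernel

theorem roots_comm : ∀ k < 4, ∀ l < 4, tmul (16 * k) (16 * l) = tmul (16 * l) (16 * k) ∧
    tmul (64 * k) (64 * l) = tmul (64 * l) (64 * k) := by decide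

theorem tEta_facts : tEta 4 ≠ 4 ∧ tEta 16 = 32 ∧ tEta 64 = 128 ∧ tmul 16 64 ≠ tmul 64 16 := by decide

end CfsgLib.StdHe
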