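import Cfsg.Agent.Lib.StdHe.CBasic

/-!
The automorphisms induced on the coordinates.
-/

set_option autoImplicit false
set_option linter.unusedSectionVars false
set_option linter.style.haveILetI false

namespace CfsgLib.StdHe

open Subgroup
open scoped Pointwise

universe u

variable {G : Type u} [Group G] {L : Subgroup G}

theorem tc_root₁ {b l : ℕ} : tc 0 b l 0 = 4 * b + 16 * l := by unfold tc; omega

theorem bool_tEp (s : Bool) (x : ℕ) : tEp s x = if s then tEta (tEta x) else tEta x := rfl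

/-- A map of codes respecting the product is determined by four values. -/
theorem hom_eq {f g : ℕ → ℕ} (hf : ∀ x < 256, ∀ y < 256, f (tmul x y) = tmul (f x) (f y))
    (hg : ∀ x < 256, ∀ y < 256, g (tmul x y) = tmul (g x) (g y)) (h0 : f 0 = g 0)
    (h16 : f 16 = g 16) (h32 : f 32 = g 32) (h64 : f 64 = g 64) (h128 : f 128 = g 128) :
    ∀ x < 256, f x = g x := by
  have hm : ∀ {x y}, x < 256 → y < 256 → f x = g x → f y = g y → f (tmul x y) = g (tmul x y) :=
    fun hx hy ex ey => by rw [hf _ hx _ hy, hg _ hx _ hy, ex, ey]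
  have h48 := roots_split.1 ▸ hm (show 16 < 256 by norm_num) (show 32 < 256 by norm_num) h16 h32
  have h192 := roots_split.2 ▸ hm (show 64 < 256 by norm_num) (show 128 < 256 by norm_num) h64 h128
  have hl : ∀ l < 4, f (16 * l) = g (16 * l) ∧ f (64 * l) = g (64 * l) := by
    intro l hl
    interval_cases l
    exacts [⟨h0, h0⟩, ⟨h16, h64⟩, ⟨h32, h128⟩, ⟨h48, h192⟩]
  have hc : ∀ l < 4, ∀ n < 4, f (cm l n) = g (cm l n) := fun l hl' n hn => by
    have := hm (show 64 * n < 256 by omega) (show 16 * l < 256 by omega) (hl n hn).2 (hl l hl').1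
    exact hm (tmul_lt _ _) (tmul_lt _ _) this this
  have hb : ∀ (b : Bool), ∀ l < 4, ∀ n < 4, f (bitc b l n) = g (bitc b l n) ∧ bitc b l n < 256 := by
    intro b l hl n hn
    cases b
    · exact ⟨h0, by norm_num [bitc]⟩
    · exact ⟨hc l hl n hn, tmul_lt _ _⟩
  intro x hx
  obtain ⟨a, b, c, d, e⟩ := cm_span (x % 16) (Nat.mod_lt _ (by norm_num))
  have hr : f (x % 16) = g (x % 16) := by
    obtain ⟨e1, l1⟩ := hb a 1 (by norm_num) 1 (by norm_num)
    obtain ⟨e2, l2⟩ := hb b 2 (by norm_num) 1 (by norm_num)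
    obtain ⟨e3, l3⟩ := hb c 1 (by norm_num) 2 (by norm_num)
    obtain ⟨e4, l4⟩ := hb d 2 (by norm_num) 2 (by norm_num)
    rw [← e]
    exact hm (tmul_lt _ _) (tmul_lt _ _) (hm l1 l2 e1 e2) (hm l3 l4 e3 e4)
  have hL := cL_lt x
  have hN := cN_lt x
  rw [← code_split x hx]
  exact hm (by omega) (tmul_lt _ _) hr (hm (by omega) (by omega) (hl _ hL).1 (hl _ hN).2)

namespace Coord

variable (C : Coord L)

/-- The element acts on the coordinates by the given automorphism. -/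
structure HasAct (x : G) (σ s : Bool) (k₁ k₂ : ℕ) : Prop where
  mem : x ∈ normalizer (L : Set G)
  η : x * C.η * x⁻¹ = if s then C.η * C.η else C.η
  τ : ∀ i < 256, x * C.τ i * x⁻¹ = C.τ (aMap σ s k₁ k₂ i)
  k₁_mem : 1 ≤ k₁ ∧ k₁ < 4
  k₂_mem : 1 ≤ k₂ ∧ k₂ < 4

theorem conj_mem_L {x l : G} (hx : x ∈ normalizer (L : Set G)) (hl : l ∈ L) : x * l * x⁻¹ ∈ L :=
  (mem_normalizer_iff.1 hx l).1 hl

theorem inv_conj_mem_L {x l : G} (hx : x ∈ normalizer (L : Set G)) (hl : l ∈ L) : x⁻¹ * l * x ∈ L := by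
  have := conj_mem_L (inv_mem hx) hl
  rwa [inv_inv] at this

/-- Rigidity. -/
theorem mem_centralizer_of_trivial {x : G} (hx : x ∈ normalizer (L : Set G))
    (hT : ∀ i < 256, x * C.τ i * x⁻¹ = C.τ i) (hη : x * C.η * x⁻¹ = C.η) : x ∈ centralizer (L : Set G) := by
  have hw : ∀ (w : G) (f : ℕ → ℕ) (r : ℕ), w ∈ L → w * C.η * w⁻¹ = C.η * C.η → r < 256 → tmul r r = 0 →
      (w * C.τ r) ^ 3 = 1 → f 4 < 256 → w * C.τ 4 * w⁻¹ = C.τ (f 4) →
      x * w * x⁻¹ = w := by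
    intro w f r hwL hwη hr hr2 hbr hf hw4
    obtain ⟨d, hd⟩ : ∃ d, d = w⁻¹ * (x * w * x⁻¹) := ⟨_, rfl⟩
    have hdL : d ∈ L := hd ▸ mul_mem (inv_mem hwL) (conj_mem_L hx hwL)
    have h4 : d * C.τ 4 * d⁻¹ = C.τ 4 := by
      have h := congrArg (fun g => x * g * x⁻¹) hw4
      rw [hT _ hf, ← hw4] at h
      have e : x * (w * C.τ 4 * w⁻¹) * x⁻¹ = x * w * x⁻¹ * (x * C.τ 4 * x⁻¹) * (x * w * x⁻¹)⁻¹ := by group
      rw [e, hT 4 (by norm_num)] at h
      calc d * C.τ 4 * d⁻¹ = w⁻¹ * (x * w * x⁻¹ * C.τ 4 * (x * w * x⁻¹)⁻¹) * w := by rw [hd]; group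
        _ = _ := by rw [h]; group
    obtain ⟨y, hy, rfl⟩ := C.centr d hdL 4 (by norm_num) le_rfl (by
      show d * C.τ 4 = C.τ 4 * d
      exact mul_inv_eq_iff_eq_mul.1 h4)
    have hηy : C.η * C.τ y * C.η⁻¹ = C.τ y := by
      have h := congrArg (fun g => x * g * x⁻¹) hwη
      have e : x * (w * C.η * w⁻¹) * x⁻¹ = x * w * x⁻¹ * (x * C.η * x⁻¹) * (x * w * x⁻¹)⁻¹ := by group
      have e' : x * (C.η * C.η) * x⁻¹ = x * C.η * x⁻¹ * (x * C.η * x⁻¹) := by group
      rw [e, e', hη, ← hwη] at h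
      have h' : C.τ y * C.η * (C.τ y)⁻¹ = C.η := by
        calc C.τ y * C.η * (C.τ y)⁻¹ = w⁻¹ * (x * w * x⁻¹ * C.η * (x * w * x⁻¹)⁻¹) * w := by rw [hd]; group
          _ = _ := by rw [h]; group
      rw [← mul_inv_eq_iff_eq_mul.1 h', mul_inv_cancel_right]
    rw [C.η_conj] at hηy
    have hfix : ∀ y < 256, tEta y = y → y < 4 := by decide +kernel
    have hy4 := hfix y hy (C.inj _ (tEta_lt y) y hy hηy)
    have hz : C.τ y ∈ centralizer (L : Set G) := (C.center_iff _ (C.mem y)).2 ⟨y, hy4, rfl⟩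
    have hzc : ∀ g ∈ L, Commute g (C.τ y) := fun g hg => mem_centralizer_iff.1 hz g hg
    have hxw : x * w * x⁻¹ = w * C.τ y := by rw [hd, mul_inv_cancel_left]
    have hsq : C.τ y ^ 2 = 1 := by
      have hy2 : ∀ y < 4, tmul y y = 0 := by decide
      rw [sq, C.mul, hy2 y hy4, C.τ_zero]
    have hpow : (x * w * x⁻¹ * C.τ r) ^ 3 = (w * C.τ r) ^ 3 := by
      conv_lhs => rw [← hT r hr, show x * w * x⁻¹ * (x * C.τ r * x⁻¹) = x * (w * C.τ r) * x⁻¹ by group, conj_pow]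
      rw [hbr, mul_one, mul_inv_cancel]
    rw [hxw, show w * C.τ y * C.τ r = w * C.τ r * C.τ y by
      rw [mul_assoc, ← (hzc _ (C.mem r)).eq, ← mul_assoc], (hzc _ (mul_mem hwL (C.mem r))).mul_pow,
      mul_eq_left, pow_succ, hsq, one_mul] at hpow
    rw [hxw, hpow, mul_one]
  have e₁ := hw C.w₁ tW1 64 C.w₁_mem C.w₁_η (by norm_num) (by decide) C.w₁_braid
    (show tW1 4 < 256 by decide) (C.w₁_conj 4 (by decide))
  have e₂ := hw C.w₂ tW2 16 C.w₂_mem C.w₂_η (by norm_num) (by decide) C.w₂_braid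
    (show tW2 4 < 256 by decide) (C.w₂_conj 4 (by decide))
  rw [mem_centralizer_iff]
  intro l hl
  have : l ∈ centralizer ({x} : Set G) := by
    refine (closure_le _).2 ?_ (C.gen hl)
    rintro g (⟨i, hi, rfl⟩ | rfl | rfl)
    all_goals rw [SetLike.mem_coe, mem_centralizer_singleton_iff]
    · exact (mul_inv_eq_iff_eq_mul.1 (hT i hi)).symm
    · exact (mul_inv_eq_iff_eq_mul.1 e₁).symm
    · exact (mul_inv_eq_iff_eq_mul.1 e₂).symm
  exact mem_centralizer_singleton_iff.1 this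

include C in
/-- Frattini. -/
theorem exists_norm_T [Finite G] {g : G} (hg : g ∈ normalizer (L : Set G)) :
    ∃ l ∈ L, ∀ i < 256, ∃ j < 256, l * g * C.τ i * (l * g)⁻¹ = C.τ j := by
  haveI : Fact (Nat.Prime 2) := ⟨Nat.prime_two⟩
  let T' : Subgroup G := C.T.map (MulAut.conj g).toMonoidHom
  have hT' : T' ≤ L := by
    rintro _ ⟨t, ht, rfl⟩
    exact conj_mem_L hg (C.T_le ht)
  have hfac : (Nat.card L).factorization 2 = 8 := by
    rw [C.card, show 80640 = 2 ^ 8 * 315 by norm_num, Nat.factorization_mul (by norm_num) (by norm_num),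
      Nat.Prime.factorization_pow Nat.prime_two, Finsupp.add_apply, Finsupp.single_eq_same,
      Nat.factorization_eq_zero_of_not_dvd (by norm_num)]
  have c1 : Nat.card (C.T.subgroupOf L) = 2 ^ (Nat.card L).factorization 2 := by
    rw [Nat.card_congr (subgroupOfEquivOfLe C.T_le).toEquiv, C.card_T, hfac]; norm_num
  have c2 : Nat.card (T'.subgroupOf L) = 2 ^ (Nat.card L).factorization 2 := by
    rw [Nat.card_congr (subgroupOfEquivOfLe hT').toEquiv,
      ← Nat.card_congr (C.T.equivMapOfInjective _ (MulAut.conj g).injective).toEquiv, C.card_T, hfac]; norm_num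
  obtain ⟨l, hl⟩ := MulAction.exists_smul_eq L (Sylow.ofCard _ c2) (Sylow.ofCard _ c1)
  refine ⟨l, l.2, fun i hi => ?_⟩
  have h' := congrArg (fun S : Sylow 2 L => (S : Subgroup L)) hl
  simp only [Sylow.coe_subgroup_smul, Sylow.ofCard] at h'
  have hmem : (⟨g * C.τ i * g⁻¹, conj_mem_L hg (C.mem i)⟩ : L) ∈ T'.subgroupOf L :=
    ⟨C.τ i, C.τ_mem_T hi, rfl⟩
  have := Subgroup.smul_mem_pointwise_smul _ (MulAut.conj l) _ hmem
  rw [show MulAut.conj l • T'.subgroupOf L = C.T.subgroupOf L from h'] at this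
  obtain ⟨j, hj, e⟩ := this
  refine ⟨j, hj, ?_⟩
  rw [e]
  simp [mul_assoc]

include C in
/-- An element normalising the Sylow subgroup normalises the torus after a change inside it. -/
theorem exists_norm_η_of_norm [Finite G] {x : G} (hxN : x ∈ normalizer (L : Set G))
    (hT : ∀ i < 256, ∃ j < 256, x * C.τ i * x⁻¹ = C.τ j) :
    ∃ y < 256, ∃ s : Bool, (∀ i < 256, ∃ j < 256, C.τ y * x * C.τ i * (C.τ y * x)⁻¹ = C.τ j) ∧
      C.τ y * x * C.η * (C.τ y * x)⁻¹ = if s then C.η * C.η else C.η := by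
  choose! φ hφ hT' using hT
  have hsurj : ∀ j < 256, ∃ i < 256, φ i = j := by
    let f : Fin 256 → Fin 256 := fun i => ⟨φ i, hφ i i.2⟩
    have hf : Function.Surjective f := Finite.injective_iff_surjective.1 fun i j h => Fin.ext <| by
      have e : x * C.τ i * x⁻¹ = x * C.τ j * x⁻¹ := by rw [hT' i i.2, hT' j j.2, show φ i = φ j from congrArg Fin.val h]
      exact C.inj i i.2 j j.2 (mul_left_cancel (mul_right_cancel e))
    intro j hj
    obtain ⟨i, e⟩ := hf ⟨j, hj⟩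
    exact ⟨i, i.2, congrArg Fin.val e⟩
  obtain ⟨a, ha, i, hi, he⟩ := C.norm (x * C.η * x⁻¹) (conj_mem_L hxN C.η_mem) fun w hw => by
    obtain ⟨v, hv, rfl⟩ := hsurj w hw
    refine ⟨φ (tEta v), hφ _ (tEta_lt v), ?_⟩
    rw [← hT' v hv, ← hT' _ (tEta_lt v), ← C.η_conj]
    group
  have h3 : x * C.η * x⁻¹ * (x * C.η * x⁻¹ * (x * C.η * x⁻¹)) = 1 := by
    rw [show x * C.η * x⁻¹ * (x * C.η * x⁻¹ * (x * C.η * x⁻¹)) = x * (C.η * (C.η * C.η)) * x⁻¹ by group,
      C.η_three, mul_one, mul_inv_cancel]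
  rw [he] at h3
  have hne : C.τ a * C.η ^ i ≠ 1 := he ▸ fun h => C.η_ne_one (by
    rwa [mul_inv_eq_one, mul_eq_left] at h)
  obtain ⟨y, hy, s, hs⟩ : ∃ y < 256, ∃ s : Bool,
      C.τ y * (if s then C.η * C.η else C.η) * (C.τ y)⁻¹ = C.τ a * C.η ^ i := by
    have hi' : i = 0 ∨ i = 1 ∨ i = 2 := by omega
    rcases hi' with rfl | rfl | rfl
    · exfalso
      rw [pow_zero, mul_one] at h3 hne
      have h4 : C.τ a * C.τ a * (C.τ a * C.τ a) = 1 := by rw [C.mul, C.mul, four_pow a ha, C.τ_zero]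
      rw [mul_assoc, h3, mul_one] at h4
      exact hne h4
    · have hc : tmul a (tmul (tEta a) (tEta (tEta a))) = 0 := by
        refine C.inj _ (tmul_lt _ _) 0 (by norm_num) ?_
        rw [C.τ_zero, ← h3, pow_one, ← C.mul, ← C.mul, ← C.η_conj_two, ← C.η_conj]
        calc _ = C.τ a * C.η * (C.τ a * C.η * (C.τ a * C.η)) * (C.η * (C.η * C.η))⁻¹ := by group
          _ = _ := by rw [C.η_three, inv_one, mul_one]
      obtain ⟨hy, hy'⟩ := (twist_spec a ha).1 hc
      refine ⟨_, hy, false, ?_⟩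
      rw [if_neg Bool.false_ne_true, pow_one]
      conv_rhs => rw [← hy', ← C.mul, ← C.τ_tinv (tEta_lt _), ← C.η_conj]
      group
    · have hc : tmul a (tmul (tEta (tEta a)) (tEta a)) = 0 := by
        refine C.inj _ (tmul_lt _ _) 0 (by norm_num) ?_
        rw [C.τ_zero, ← h3, sq, ← C.mul, ← C.mul, ← C.η_conj_two]
        have hη : C.η * C.τ a * C.η⁻¹ = C.η * C.η * (C.η * C.η) * C.τ a * (C.η * C.η * (C.η * C.η))⁻¹ := by
          rw [show C.η * C.η * (C.η * C.η) = C.η * (C.η * C.η) * C.η by simp only [mul_assoc], C.η_three, one_mul]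
        rw [← C.η_conj, hη]
        calc _ = C.τ a * (C.η * C.η) * (C.τ a * (C.η * C.η) * (C.τ a * (C.η * C.η))) *
              ((C.η * (C.η * C.η)) * (C.η * (C.η * C.η)))⁻¹ := by simp [mul_assoc]
          _ = _ := by rw [C.η_three, mul_one, inv_one, mul_one]
      obtain ⟨hy, hy'⟩ := (twist_spec a ha).2 hc
      refine ⟨_, hy, true, ?_⟩
      rw [if_pos rfl, sq]
      conv_rhs => rw [← hy', ← C.mul, ← C.τ_tinv (tEta_lt _), ← C.η_conj_two]
      simp [mul_assoc]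
  refine ⟨tinv y, (tmul_group y hy).2.2.1, s, fun j hj => ?_, ?_⟩
  · refine ⟨tmul (tmul (tinv y) (φ j)) y, tmul_lt _ _, ?_⟩
    rw [← C.mul, ← C.mul, ← hT' j hj, ← C.τ_tinv hy]
    group
  · rw [← he] at hs
    rw [← C.τ_tinv hy]
    calc (C.τ y)⁻¹ * x * C.η * ((C.τ y)⁻¹ * x)⁻¹ = (C.τ y)⁻¹ * (x * C.η * x⁻¹) * C.τ y := by group
      _ = _ := by rw [← hs]; group

include C in
/-- The torus can be normalised, too. -/
theorem exists_norm_η [Finite G] {g : G} (hg : g ∈ normalizer (L : Set G)) :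
    ∃ l ∈ L, ∃ s : Bool, (∀ i < 256, ∃ j < 256, l * g * C.τ i * (l * g)⁻¹ = C.τ j) ∧
      l * g * C.η * (l * g)⁻¹ = if s then C.η * C.η else C.η := by
  obtain ⟨l, hl, hT⟩ := C.exists_norm_T hg
  obtain ⟨y, -, s, h1, h2⟩ := C.exists_norm_η_of_norm (mul_mem (le_normalizer hl) hg) hT
  exact ⟨C.τ y * l, mul_mem (C.mem y) hl, s, by simpa only [mul_assoc] using h1, by simpa only [mul_assoc] using h2⟩

/-- The form of an automorphism normalising the Sylow subgroup and the torus. -/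
theorem exists_act_of_norm {x : G} (hxN : x ∈ normalizer (L : Set G)) (s : Bool)
    (hT : ∀ i < 256, ∃ j < 256, x * C.τ i * x⁻¹ = C.τ j)
    (hη : x * C.η * x⁻¹ = if s then C.η * C.η else C.η) :
    ∃ (σ : Bool) (k₁ k₂ : ℕ), C.HasAct x σ s k₁ k₂ := by
  choose! φ hφ hT' using hT
  have hom : ∀ i < 256, ∀ j < 256, φ (tmul i j) = tmul (φ i) (φ j) := fun i hi j hj =>
    C.inj _ (hφ _ (tmul_lt i j)) _ (tmul_lt _ _) (by rw [← hT' _ (tmul_lt i j), ← C.mul, ← C.mul, ← hT' i hi, ← hT' j hj]; group)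
  have hinj : ∀ i < 256, ∀ j < 256, φ i = φ j → i = j := fun i hi j hj h =>
    C.inj i hi j hj (mul_left_cancel (mul_right_cancel (by rw [hT' i hi, hT' j hj, h] : x * C.τ i * x⁻¹ = x * C.τ j * x⁻¹)))
  have hsurj : ∀ j < 256, ∃ i < 256, φ i = j := by
    let f : Fin 256 → Fin 256 := fun i => ⟨φ i, hφ i i.2⟩
    have hf : Function.Surjective f := Finite.injective_iff_surjective.1 fun i j h =>
      Fin.ext (hinj i i.2 j j.2 (congrArg Fin.val h))
    intro j hj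
    obtain ⟨i, e⟩ := hf ⟨j, hj⟩
    exact ⟨i, i.2, congrArg Fin.val e⟩
  have hzero : φ 0 = 0 := C.inj _ (hφ 0 (by norm_num)) 0 (by norm_num) (by
    rw [← hT' 0 (by norm_num), C.τ_zero, mul_one, mul_inv_cancel])
  have hequ : ∀ i < 256, φ (tEta i) = tEp s (φ i) := fun i hi => by
    refine C.inj _ (hφ _ (tEta_lt i)) _ (by cases s <;> exact tEta_lt _) ?_
    rw [← hT' _ (tEta_lt i), ← C.η_conj, show x * (C.η * C.τ i * C.η⁻¹) * x⁻¹ =
      x * C.η * x⁻¹ * (x * C.τ i * x⁻¹) * (x * C.η * x⁻¹)⁻¹ by group, hη, hT' i hi]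
    cases s
    · simp [tEp, C.η_conj]
    · simp only [tEp, if_true]; rw [C.η_conj_two]
  have hR : ∀ i < 256, i < 16 → φ i < 16 := by
    intro i hi hi16
    have hc : ∀ j < 256, tmul (φ i) j = tmul j (φ i) := fun j hj => by
      obtain ⟨k, hk, rfl⟩ := hsurj j hj
      rw [← hom i hi k hk, ← hom k hk i hi, centre_comm i hi16 k hk]
    exact centre_fact _ (hφ i hi) (hc 16 (by norm_num)) (hc 64 (by norm_num))
  have hR' : ∀ i < 256, 16 ≤ i → 16 ≤ φ i := by
    intro i hi hi16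
    by_contra! hlt
    have hc : ∀ j < 256, tmul i j = tmul j i := fun j hj => hinj _ (tmul_lt _ _) _ (tmul_lt _ _)
      (by rw [hom i hi j hj, hom j hj i hi, centre_comm _ hlt _ (hφ j hj)])
    have := centre_fact i hi (hc 16 (by norm_num)) (hc 64 (by norm_num))
    omega
  have hU : ∀ b < 4, b ≠ 0 → φ (4 * b) < 16 ∧ 4 ≤ φ (4 * b) ∧ cA (φ (4 * b)) = 0 := by
    intro b hb hb0
    have h3 : fm 3 b < 4 := fm_lt 3 (by norm_num) b hb
    have hj : φ (4 * fm 3 b) < 16 := hR _ (by omega) (by omega)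
    have hj2 : tmul (φ (4 * fm 3 b)) (φ (4 * fm 3 b)) = 0 := by
      have hsq : ∀ b < 4, tmul (4 * b) (4 * b) = 0 := by decide
      rw [← hom _ (by omega) _ (by omega), hsq _ h3, hzero]
    have e := congrArg φ (u_form b hb)
    rw [hom _ (tEta_lt _) _ (by omega), hequ _ (by omega)] at e
    obtain ⟨r1, -, r3⟩ := rt_fact s _ (hφ _ (by omega)) hj2
    rw [← e]
    refine ⟨r3 hj, ?_, r1⟩
    by_contra! hlt
    have h0 : φ (4 * b) = 0 := by rw [← e]; unfold cA at r1; omega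
    have := hinj _ (by omega) 0 (by norm_num) (h0.trans hzero.symm)
    omega
  have hlab : ∀ g : G, C.Lab₀ g → C.Lab₀ (x * g * x⁻¹) := by
    rintro g ⟨c, hc, r, hr, hr4, hr0, e⟩
    have hr' : r = 4 * cB r := by unfold cA cB at *; omega
    obtain ⟨u1, u2, u3⟩ := hU (cB r) (cB_lt r) (by omega)
    refine ⟨x * c * x⁻¹, conj_mem_L hxN hc, φ (4 * cB r), u1, u2, u3, ?_⟩
    rw [← hr', ← hT' r (by omega), ← e]
    group
  have hroot : ∀ i, (i = 16 ∨ i = 64) → ∃ k, 1 ≤ k ∧ k < 4 ∧ (φ i = 16 * k ∨ φ i = 64 * k) := by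
    intro i hi
    have hq : ∃ q < 256, tmul (tEta q) q = i ∧ tmul q q = 0 := by
      have r := root_form 1 (by norm_num)
      have q2 : fm 2 1 < 4 := by decide
      have sq := root_sq _ q2
      rcases hi with rfl | rfl
      · exact ⟨16 * fm 2 1, by omega, r.1, sq.1⟩
      · exact ⟨64 * fm 2 1, by omega, r.2, sq.2.1⟩
    obtain ⟨q, hq, hqe, hq2⟩ := hq
    have hi256 : i < 256 := by omega
    have e := congrArg φ hqe
    rw [hom _ (tEta_lt _) _ hq, hequ q hq] at e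
    obtain ⟨r1, r2, -⟩ := rt_fact s _ (hφ q hq) (by rw [← hom q hq q hq, hq2, hzero])
    rw [e] at r1 r2
    have h16 := hR' i hi256 (by omega)
    have hlab0 : C.Lab₀ (C.τ (φ i)) := by
      rw [← hT' i hi256]
      refine hlab _ ?_
      rcases hi with rfl | rfl
      · exact (C.lab₀_root (show 1 < 4 by norm_num) one_ne_zero).1
      · exact (C.lab₀_root (show 1 < 4 by norm_num) one_ne_zero).2
    have hb := cB_lt (φ i)
    have hl := cL_lt (φ i)
    have hn := cN_lt (φ i)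
    have hs := tc_self (hφ i hi256)
    rw [r1] at hs
    rcases r2 with r2 | r2
    · rw [r2] at hs
      have hn0 : 1 ≤ cN (φ i) := by unfold tc at hs; omega
      refine ⟨cN (φ i), hn0, hn, .inr ?_⟩
      have hb0 : cB (φ i) = 0 := by
        by_contra hne
        exact (C.not_lab₀_one hn hb hn0 (by omega)).2 (hs.symm ▸ hlab0)
      unfold tc at hs; omega
    · rw [r2] at hs
      have hl0 : 1 ≤ cL (φ i) := by unfold tc at hs; omega
      refine ⟨cL (φ i), hl0, hl, .inl ?_⟩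
      have hb0 : cB (φ i) = 0 := by
        by_contra hne
        exact (C.not_lab₀_one hl hb hl0 (by omega)).1 (hs.symm ▸ hlab0)
      unfold tc at hs; omega
  obtain ⟨k₁, h₁, h₁', e₁⟩ := hroot 16 (.inl rfl)
  obtain ⟨k₂, h₂, h₂', e₂⟩ := hroot 64 (.inr rfl)
  have hnc : tmul (φ 16) (φ 64) ≠ tmul (φ 64) (φ 16) := fun h => tEta_facts.2.2.2
    (hinj _ (tmul_lt _ _) _ (tmul_lt _ _) (by
      rw [hom 16 (by norm_num) 64 (by norm_num), hom 64 (by norm_num) 16 (by norm_num), h]))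
  obtain ⟨σ, hσ₁, hσ₂⟩ : ∃ σ : Bool, (φ 16 = if σ then 64 * k₁ else 16 * k₁) ∧
      φ 64 = if σ then 16 * k₂ else 64 * k₂ := by
    rcases e₁ with e₁ | e₁ <;> rcases e₂ with e₂ | e₂
    · exact absurd (by rw [e₁, e₂]; exact (roots_comm _ h₁' _ h₂').1) hnc
    · exact ⟨false, by simp [e₁], by simp [e₂]⟩
    · exact ⟨true, by simp [e₁], by simp [e₂]⟩
    · exact absurd (by rw [e₁, e₂]; exact (roots_comm _ h₁' _ h₂').2) hnc
  obtain ⟨f16, f64, f32, f128, f0⟩ := aMap_roots σ s k₁ h₁' k₂ h₂'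
  have h32 : φ 32 = aMap σ s k₁ k₂ 32 := by
    rw [f32, f16, ← hσ₁, ← hequ 16 (by norm_num), tEta_facts.2.1]
  have h128 : φ 128 = aMap σ s k₁ k₂ 128 := by
    rw [f128, f64, ← hσ₂, ← hequ 64 (by norm_num), tEta_facts.2.2.1]
  have hall := hom_eq hom (fun i _ j _ => aMap_hom σ s h₁' h₂' i j) (hzero.trans f0.symm) (hσ₁.trans f16.symm) h32
    (hσ₂.trans f64.symm) h128
  exact ⟨σ, k₁, k₂, hxN, hη, fun i hi => by rw [hT' i hi, hall i hi], ⟨h₁, h₁'⟩, h₂, h₂'⟩

include C in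
/-- An element normalising the Sylow subgroup acts, after a change inside it, by one of 36 automorphisms. -/
theorem exists_act_T [Finite G] {x : G} (hxN : x ∈ normalizer (L : Set G))
    (hT : ∀ i < 256, ∃ j < 256, x * C.τ i * x⁻¹ = C.τ j) :
    ∃ y < 256, ∃ (σ s : Bool) (k₁ k₂ : ℕ), C.HasAct (C.τ y * x) σ s k₁ k₂ := by
  obtain ⟨y, hy, s, h1, h2⟩ := C.exists_norm_η_of_norm hxN hT
  obtain ⟨σ, k₁, k₂, h⟩ := C.exists_act_of_norm (mul_mem (le_normalizer (C.mem y)) hxN) s h1 h2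
  exact ⟨y, hy, σ, s, k₁, k₂, h⟩

include C in
/-- Every element of the normaliser acts, up to an inner automorphism, by one of 36 automorphisms. -/
theorem exists_act [Finite G] {g : G} (hg : g ∈ normalizer (L : Set G)) :
    ∃ l ∈ L, ∃ (σ s : Bool) (k₁ k₂ : ℕ), C.HasAct (l * g) σ s k₁ k₂ := by
  obtain ⟨l, hl, s, hT, hη⟩ := C.exists_norm_η hg
  obtain ⟨σ, k₁, k₂, h⟩ := C.exists_act_of_norm (mul_mem (le_normalizer hl) hg) s hT hη
  exact ⟨l, hl, σ, s, k₁, k₂, h⟩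

/-- Two elements with the same action differ by the centraliser. -/
theorem HasAct.inv_mul {x y : G} {σ s : Bool} {k₁ k₂ : ℕ} (hx : C.HasAct x σ s k₁ k₂)
    (hy : C.HasAct y σ s k₁ k₂) : x⁻¹ * y ∈ centralizer (L : Set G) := by
  refine C.mem_centralizer_of_trivial (mul_mem (inv_mem hx.mem) hy.mem) (fun i hi => ?_) ?_
  · calc x⁻¹ * y * C.τ i * (x⁻¹ * y)⁻¹ = x⁻¹ * (y * C.τ i * y⁻¹) * x := by group
      _ = _ := by rw [hy.τ i hi, ← hx.τ i hi]; group
  · calc x⁻¹ * y * C.η * (x⁻¹ * y)⁻¹ = x⁻¹ * (y * C.η * y⁻¹) * x := by group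
      _ = _ := by rw [hy.η, ← hx.η]; group

theorem aMap_one : ∀ i < 256, aMap false false 1 1 i = i := by decide +kernel

theorem HasAct.mem_centralizer {x : G} (hx : C.HasAct x false false 1 1) : x ∈ centralizer (L : Set G) :=
  C.mem_centralizer_of_trivial hx.mem (fun i hi => by rw [hx.τ i hi, aMap_one i hi]) (by simpa using hx.η)

end Coord

end CfsgLib.StdHe
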