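import Cfsg.Agent.Lib.StdHe.Coord
import Cfsg.Agent.Lib.StdHe.AModel
import Mathlib.GroupTheory.Sylow

/-!
Consequences of coordinates.
-/

set_option autoImplicit false
set_option linter.unusedSectionVars false

namespace CfsgLib.StdHe

universe u

variable {G : Type u} [Group G] {L : Subgroup G}

namespace Coord

variable (C : Coord L)

theorem τ_zero : C.τ 0 = 1 := by
  have h := C.mul 0 0
  rw [show tmul 0 0 = 0 from rfl] at h
  exact mul_left_cancel (h.trans (mul_one _).symm)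

theorem τ_tinv {x : ℕ} (hx : x < 256) : (C.τ x)⁻¹ = C.τ (tinv x) :=
  inv_eq_of_mul_eq_one_right (by rw [C.mul, (tmul_group x hx).2.2.2.1, C.τ_zero])

/-- The Sylow subgroup. -/
def T : Subgroup G where
  carrier := {g | ∃ x < 256, C.τ x = g}
  one_mem' := ⟨0, by norm_num, C.τ_zero⟩
  mul_mem' := by
    rintro _ _ ⟨x, -, rfl⟩ ⟨y, -, rfl⟩
    exact ⟨tmul x y, tmul_lt x y, (C.mul x y).symm⟩
  inv_mem' := by
    rintro _ ⟨x, hx, rfl⟩
    exact ⟨tinv x, (tmul_group x hx).2.2.1, (C.τ_tinv hx).symm⟩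

theorem mem_T {g : G} : g ∈ C.T ↔ ∃ x < 256, C.τ x = g := Iff.rfl

theorem τ_mem_T {x : ℕ} (hx : x < 256) : C.τ x ∈ C.T := ⟨x, hx, rfl⟩

theorem T_le : C.T ≤ L := by
  rintro _ ⟨x, -, rfl⟩
  exact C.mem x

theorem card_T : Nat.card C.T = 256 := by
  let f : Fin 256 → C.T := fun i => ⟨C.τ i, C.τ_mem_T i.2⟩
  have hf : Function.Bijective f :=
    ⟨fun i j h => Fin.ext (C.inj i i.2 j j.2 (congrArg Subtype.val h)),
      fun ⟨g, x, hx, e⟩ => ⟨⟨x, hx⟩, Subtype.ext e⟩⟩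
  rw [← Nat.card_congr (Equiv.ofBijective f hf), Nat.card_fin]

theorem centre_comm' {x y : ℕ} (hx : x < 16) (hy : y < 256) : Commute (C.τ x) (C.τ y) := by
  show _ = _
  rw [C.mul, C.mul, centre_comm x hx y hy]

theorem sq_eq_one {x : ℕ} (hx : x < 256) (h : C.τ x * C.τ x = 1) : tmul x x = 0 := by
  refine C.inj _ (tmul_lt x x) 0 (by norm_num) ?_
  rw [← C.mul, h, C.τ_zero]

theorem η_pow_two : C.η ^ 2 = C.η * C.η := sq C.η

theorem η_conj_two (x : ℕ) : C.η * C.η * C.τ x * (C.η * C.η)⁻¹ = C.τ (tEta (tEta x)) := by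
  rw [← C.η_conj, ← C.η_conj]; group

theorem η_ne_one : C.η ≠ 1 := fun h => by
  have := C.η_conj 4
  rw [h, one_mul, inv_one, mul_one] at this
  exact tEta_facts.1 (C.inj _ (tEta_lt 4) 4 (by norm_num) this.symm)

/-- A conjugating element between two elements of the centre of the Sylow subgroup normalises it. -/
theorem conj_center {c : G} (hc : c ∈ L) {x y : ℕ} (hx : x < 16) (hy : y < 16) (hy4 : 4 ≤ y)
    (h : c * C.τ x * c⁻¹ = C.τ y) : ∃ z < 256, ∃ i < 3, c = C.τ z * C.η ^ i := by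
  refine C.norm c hc fun w hw => ?_
  obtain ⟨v, hv, e⟩ := C.centr (c * C.τ w * c⁻¹) (mul_mem (mul_mem hc (C.mem w)) (inv_mem hc)) y hy hy4
    (h ▸ (Commute.conj_iff c).2 (C.centre_comm' hx hw).symm)
  exact ⟨v, hv, e.symm⟩

theorem conj_form {z : ℕ} (hz : z < 256) (i : ℕ) (hi : i < 3) {x : ℕ} (hx : x < 16) :
    ∃ y < 16, cA y = cA x ∧ C.τ z * C.η ^ i * C.τ x * (C.τ z * C.η ^ i)⁻¹ = C.τ y := by
  have key : ∀ {x : ℕ}, x < 16 → tEta x < 16 ∧ cA (tEta x) = cA x := by decide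
  have h : ∀ y < 16, C.τ z * C.τ y * (C.τ z)⁻¹ = C.τ y := fun y hy => by
    rw [← (C.centre_comm' hy hz).eq, mul_inv_cancel_right]
  obtain ⟨y, hy, hy', e⟩ : ∃ y < 16, cA y = cA x ∧ C.η ^ i * C.τ x * (C.η ^ i)⁻¹ = C.τ y := by
    interval_cases i
    · exact ⟨x, hx, rfl, by simp⟩
    · exact ⟨_, (key hx).1, (key hx).2, by rw [pow_one, C.η_conj]⟩
    · exact ⟨_, (key (key hx).1).1, (key (key hx).1).2.trans (key hx).2, by rw [sq, C.η_conj_two]⟩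
  refine ⟨y, hy, hy', ?_⟩
  rw [← h y hy, ← e]
  group

/-- The label is well defined. -/
theorem label_eq {c : G} (hc : c ∈ L) {x y : ℕ} (hx : x < 16) (hy : y < 16) (hy4 : 4 ≤ y)
    (h : c * C.τ x * c⁻¹ = C.τ y) : cA x = cA y := by
  obtain ⟨z, hz, i, hi, rfl⟩ := C.conj_center hc hx hy hy4 h
  obtain ⟨y', hy', e, e'⟩ := C.conj_form hz i hi hx
  rw [h] at e'
  rw [C.inj y (by omega) y' (by omega) e', e]

/-- Conjugate in `L` to an element of the moved part of the centre of the Sylow subgroup. -/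
def Lab₀ (g : G) : Prop := ∃ c ∈ L, ∃ x < 16, 4 ≤ x ∧ cA x = 0 ∧ c * g * c⁻¹ = C.τ x

theorem not_lab₀ {g c : G} (hc : c ∈ L) {x : ℕ} (hx : x < 16) (h : c * g * c⁻¹ = C.τ x) (hA : cA x ≠ 0) :
    ¬ C.Lab₀ g := by
  rintro ⟨d, hd, y, hy, hy4, hy0, e⟩
  refine hA ((C.label_eq (mul_mem hd (inv_mem hc)) hx hy hy4 ?_).trans hy0)
  rw [← e, ← h]; group

theorem lab₀_root {l : ℕ} (hl : l < 4) (h0 : l ≠ 0) : C.Lab₀ (C.τ (16 * l)) ∧ C.Lab₀ (C.τ (64 * l)) := by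
  have h := root_sq l hl
  have hA : cA (4 * l) = 0 := by unfold cA; omega
  have hn : cN (16 * l) = 0 := by unfold cN; omega
  have hl' : cL (64 * l) = 0 := by unfold cL; omega
  exact ⟨⟨C.w₁, C.w₁_mem, 4 * l, by omega, by omega, hA, by rw [C.w₁_conj _ hn, h.2.2.1]⟩,
    ⟨C.w₂, C.w₂_mem, 4 * l, by omega, by omega, hA, by rw [C.w₂_conj _ hl', h.2.2.2.1]⟩⟩

/-- An involution of the second kind. -/
theorem not_lab₀_one {l b : ℕ} (hl : l < 4) (hb : b < 4) (hl0 : 1 ≤ l) (hb0 : 1 ≤ b) :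
    ¬ C.Lab₀ (C.τ (tc 0 b l 0)) ∧ ¬ C.Lab₀ (C.τ (tc 0 b 0 l)) := by
  constructor
  · obtain ⟨h1, h2, h3, -⟩ := label_one l hl b hb hl0 hb0
    refine C.not_lab₀ (mul_mem C.w₁_mem (C.mem (64 * fm b (finv l)))) h2 ?_ h3
    have hsq : C.τ (64 * fm b (finv l)) * C.τ (64 * fm b (finv l)) = 1 := by
      rw [C.mul, (root_sq _ (fm_lt _ hb _ (show finv l < 4 from fq_lt hl))).2.1, C.τ_zero]
    have hconj : C.τ (64 * fm b (finv l)) * C.τ (tc 0 b l 0) * (C.τ (64 * fm b (finv l)))⁻¹ = C.τ (lab₁ l b) := by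
      rw [inv_eq_of_mul_eq_one_right hsq, C.mul, C.mul, lab₁]
    rw [← C.w₁_conj _ h1, ← hconj]
    group
  · obtain ⟨h1, h2, h3, -⟩ := label_two l hl b hb hl0 hb0
    refine C.not_lab₀ (mul_mem C.w₂_mem (C.mem (16 * fm b (finv l)))) h2 ?_ h3
    have hsq : C.τ (16 * fm b (finv l)) * C.τ (16 * fm b (finv l)) = 1 := by
      rw [C.mul, (root_sq _ (fm_lt _ hb _ (show finv l < 4 from fq_lt hl))).1, C.τ_zero]
    have hconj : C.τ (16 * fm b (finv l)) * C.τ (tc 0 b 0 l) * (C.τ (16 * fm b (finv l)))⁻¹ = C.τ (lab₂ l b) := by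
      rw [inv_eq_of_mul_eq_one_right hsq, C.mul, C.mul, lab₂]
    rw [← C.w₂_conj _ h1, ← hconj]
    group

end Coord

end CfsgLib.StdHe
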