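import Cfsg.Agent.Lib.StdHe.AModel

/-!
Commutators of pairs of involutions of the Sylow subgroup.
-/

set_option autoImplicit false
set_option synthInstance.maxSize 4096

namespace CfsgLib.StdHe

theorem invol_side : ∀ p < 256, tmul p p = 0 → cL p = 0 ∨ cN p = 0 := by decide +kernel

theorem pure_fact : ∀ lp < 4, ∀ np < 4, ∀ lq < 4, ∀ nq < 4,
    ((Nat.beq lp 0 || Nat.beq np 0) && (Nat.beq lq 0 || Nat.beq nq 0)) = true →
      Nat.beq (fm lq np ^^^ fm lp nq) 0 = Nat.beq (fm lq (fq np) ^^^ fm lp (fq nq)) 0 := by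
  decide +kernel

theorem mixed_cm : ∀ y < 16, 1 ≤ cA y → 1 ≤ cB y →
    ∃ l < 4, ∃ n < 4, tmul (64 * n) (16 * l) = tmul y (tmul (16 * l) (64 * n)) := by
  decide +kernel

/-- A central element arising from two involutions has both parts or none. -/
theorem pure_comm {p q z : ℕ} (hp : p < 256) (hq : q < 256) (hp2 : tmul p p = 0) (hq2 : tmul q q = 0) (hz : z < 16)
    (h : tmul p q = tmul z (tmul q p)) : cA z = 0 ↔ cB z = 0 := by
  obtain ⟨a1, b1, -, -⟩ := parts_tmul p q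
  obtain ⟨a2, b2, -, -⟩ := parts_tmul q p
  obtain ⟨a3, b3, -, -⟩ := parts_tmul z (tmul q p)
  have hzn : cN z = 0 := by unfold cN; omega
  have f0 : ∀ a < 4, fm a (fq 0) = 0 ∧ fm a 0 = 0 := by decide
  rw [← h, a1, a2, hzn, (f0 _ (cL_lt (tmul q p))).1, Nat.xor_zero] at a3
  rw [← h, b1, b2, hzn, (f0 _ (cL_lt (tmul q p))).2, Nat.xor_zero] at b3
  have hA : cA z = fm (cL q) (fq (cN p)) ^^^ fm (cL p) (fq (cN q)) := by
    have := congrArg (fun v => v ^^^ (cA q ^^^ cA p ^^^ fm (cL p) (fq (cN q)))) a3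
    simp only [Nat.xor_assoc, Nat.xor_self, Nat.xor_zero] at this
    rw [← this]
    calc _ = (cA p ^^^ cA p) ^^^ (cA q ^^^ cA q) ^^^ (fm (cL q) (fq (cN p)) ^^^ fm (cL p) (fq (cN q))) := by ac_rfl
      _ = _ := by simp
  have hB : cB z = fm (cL q) (cN p) ^^^ fm (cL p) (cN q) := by
    have := congrArg (fun v => v ^^^ (cB q ^^^ cB p ^^^ fm (cL p) (cN q))) b3
    simp only [Nat.xor_assoc, Nat.xor_self, Nat.xor_zero] at this
    rw [← this]
    calc _ = (cB p ^^^ cB p) ^^^ (cB q ^^^ cB q) ^^^ (fm (cL q) (cN p) ^^^ fm (cL p) (cN q)) := by ac_rfl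
      _ = _ := by simp
  have hside : ((Nat.beq (cL p) 0 || Nat.beq (cN p) 0) && (Nat.beq (cL q) 0 || Nat.beq (cN q) 0)) = true := by
    rcases invol_side p hp hp2 with e | e <;> rcases invol_side q hq hq2 with e' | e' <;> simp [e, e']
  have := pure_fact _ (cL_lt p) _ (cN_lt p) _ (cL_lt q) _ (cN_lt q) hside
  rw [← hA, ← hB] at this
  rw [← Nat.beq_eq (x := cA z) (y := 0), ← Nat.beq_eq (x := cB z) (y := 0), this]

end CfsgLib.StdHe
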