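import Cfsg.Agent.Lib.StdHe.AModel

/-!
Facts about the codes for the fused case.
-/

set_option autoImplicit false
set_option synthInstance.maxSize 4096
set_option synthInstance.maxHeartbeats 400000
set_option maxRecDepth 20000

namespace CfsgLib.StdHe

/-- Commutation of two codes. -/
def tcomm (x y : ℕ) : Bool := Nat.beq (tmul x y) (tmul y x)

theorem trio : ∀ y < 256, 16 ≤ y → ∃ p ∈ [(16, 32), (64, 128), (16, 64), (32, 128), (16, 128), (32, 64)],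
    tcomm y p.1 = false ∧ tcomm y p.2 = false ∧ tcomm y (tmul p.1 p.2) = false := by
  decide +kernel

theorem trio_lt : ∀ p ∈ [(16, 32), (64, 128), (16, 64), (32, 128), (16, 128), (32, 64)],
    (p.1 : ℕ) < 256 ∧ (p.2 : ℕ) < 256 := by decide

theorem cube_lin : ∀ σ : Bool, ∀ k < 4, ∀ m < 4, 1 ≤ k → 1 ≤ m → ∀ a < 4,
    aMap σ σ k m (aMap σ σ k m (aMap σ σ k m a)) = a := by decide +kernel

theorem aMap_fix_R' : ∀ σ s : Bool, ∀ k < 4, ∀ m < 4, 1 ≤ k → 1 ≤ m →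
    (Nat.beq (aMap σ s k m 1) 1 && Nat.beq (aMap σ s k m 2) 2 && Nat.beq (aMap σ s k m 4) 4 &&
      Nat.beq (aMap σ s k m 8) 8) = true → (!σ && !s && Nat.beq k 1 && Nat.beq m 1) = true := by
  decide +kernel

theorem aMap_fix_R (σ s : Bool) (k : ℕ) (hk : k < 4) (m : ℕ) (hm : m < 4) (hk0 : 1 ≤ k) (hm0 : 1 ≤ m)
    (h1 : aMap σ s k m 1 = 1) (h2 : aMap σ s k m 2 = 2) (h4 : aMap σ s k m 4 = 4) (h8 : aMap σ s k m 8 = 8) :
    σ = false ∧ s = false ∧ k = 1 ∧ m = 1 := by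
  have := aMap_fix_R' σ s k hk m hm hk0 hm0 (by rw [h1, h2, h4, h8]; rfl)
  simpa [and_assoc] using this

theorem small_facts : (∀ c < 4, ∀ a < 4, tmul c a < 4 ∧ (tmul c a = 0 → c = a)) ∧
    (∀ y < 16, ∀ d < 4, tmul y d < 16 ∧ cB (tmul y d) = cB y ∧ cA (tmul y d) = cA y ^^^ d) ∧
    (∀ y < 16, ∀ y' < 16, tmul y y' < 16 ∧ cB (tmul y y') = cB y ^^^ cB y' ∧ (cB y = cB y' → tmul y y' < 4)) ∧
    (∀ y < 16, tmul (4 * cB y) (cA y) = y ∧ (4 ≤ y ↔ cB y ≠ 0)) := by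
  decide +kernel

theorem two_span : ∀ b < 4, 2 ≤ b → (b = 2 ∧ (8 : ℕ) = 4 * b) ∨ (b = 3 ∧ (8 : ℕ) = tmul 4 (4 * b)) := by decide

theorem three_split : ∀ c < 4, ∀ b < 4, 1 ≤ c → 2 ≤ b → c = 1 ∨ c = b ∨ c = 1 ^^^ b := by decide

end CfsgLib.StdHe
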