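import Cfsg.Agent.Lib.StdHe.NBasic
import Cfsg.Agent.Lib.StdHe.FModel

/-!
Elements of the normaliser centralising the centre of the Sylow subgroup.
-/

set_option autoImplicit false
set_option linter.unusedSectionVars false

namespace CfsgLib.StdHe

open Subgroup

universe u

variable {G : Type u} [Group G] {L : Subgroup G}

theorem bit₂_mul_self : ∀ p : Multiplicative (ZMod 2), p * p = 1 := by decide

namespace Std

variable [Finite G] (S : Std L)

include S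

/-- An element fixing a moved central element normalises the Sylow subgroup. -/
theorem norm_T_of_fix {x : G} (hx : x ∈ normalizer (L : Set G)) {y z : ℕ} (hy : y < 16) (hz : z < 16) (hz4 : 4 ≤ z)
    (h : x * S.C.τ y * x⁻¹ = S.C.τ z) : ∀ i < 256, ∃ j < 256, x * S.C.τ i * x⁻¹ = S.C.τ j := fun i hi => by
  obtain ⟨j, hj, e⟩ := S.C.centr (x * S.C.τ i * x⁻¹) (conj_mem_L hx (S.C.mem i)) z hz hz4
    (h ▸ (Commute.conj_iff x).2 (S.C.centre_comm' hy hi).symm)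
  exact ⟨j, hj, e.symm⟩

/-- An element of the normaliser centralising the centre of the Sylow subgroup. -/
theorem act_centR {x : G} (hx : x ∈ normalizer (L : Set G)) (hZ : S.CentZ x) (h4 : Commute x (S.C.τ 4))
    (h8 : Commute x (S.C.τ 8)) : ∃ y < 256, ∃ k ∈ centralizer (L : Set G), S.C.τ y * k = x := by
  obtain ⟨y, hy, σ, s, k, m, hA⟩ := S.C.exists_act_T hx (S.norm_T_of_fix hx (y := 4) (z := 4) (by norm_num)
    (by norm_num) le_rfl (by rw [h4.eq, mul_inv_cancel_right]))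
  have hfix : ∀ r < 16, Commute x (S.C.τ r) → aMap σ s k m r = r := fun r hr hc => by
    refine S.C.inj _ (aMap_lt σ s hA.k₁_mem.2 hA.k₂_mem.2 r) r (by omega) ?_
    rw [← hA.τ r (by omega), show S.C.τ y * x * S.C.τ r * (S.C.τ y * x)⁻¹ =
      S.C.τ y * (x * S.C.τ r * x⁻¹) * (S.C.τ y)⁻¹ by group, hc.eq, mul_inv_cancel_right,
      ← (S.C.centre_comm' hr hy).eq, mul_inv_cancel_right]
  obtain ⟨rfl, rfl, rfl, rfl⟩ := aMap_fix_R σ s k hA.k₁_mem.2 m hA.k₂_mem.2 hA.k₁_mem.1 hA.k₂_mem.1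
    (hfix 1 (by norm_num) (hZ 1 (by norm_num))) (hfix 2 (by norm_num) (hZ 2 (by norm_num)))
    (hfix 4 (by norm_num) h4) (hfix 8 (by norm_num) h8)
  exact ⟨tinv y, (tmul_group y hy).2.2.1, _, Coord.HasAct.mem_centralizer S.C hA,
    by rw [← S.C.τ_tinv hy, inv_mul_cancel_left]⟩

/-- A 2-element with equal signs centralises the centre. -/
theorem centZ_of_two {x : G} (hx : x ∈ normalizer (L : Set G)) (h : (S.sgn ⟨x, hx⟩).1 = (S.sgn ⟨x, hx⟩).2) {n : ℕ}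
    (hn : x ^ 2 ^ n = 1) : S.CentZ x := by
  obtain ⟨l, hl, σ, s, a, b, hA⟩ := S.C.exists_act hx
  rw [S.sgn_act hx ⟨l, hl, hA⟩] at h
  have he : σ = s := by revert h; cases σ <;> cases s <;> decide
  subst he
  have hlt : ∀ j < 4, aMap σ σ a b j < 4 := fun j hj =>
    (aMap_centre σ σ a hA.k₁_mem.2 b hA.k₂_mem.2 hA.k₁_mem.1 hA.k₂_mem.1 j (by omega)).2.1 hj
  have hA' := fun j (hj : j < 4) => Coord.Act.centre S.C ⟨l, hl, hA⟩ hj
  obtain ⟨m, hm⟩ := exists_pow_eq_self_of_coprime (x := x) (n := 3)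
    (Nat.Coprime.coprime_dvd_right (orderOf_dvd_of_pow_eq_one hn) (Nat.Coprime.pow_right n (by norm_num)))
  intro j hj
  rw [← hm]
  refine Commute.pow_left (mul_inv_eq_iff_eq_mul.1 ?_) m
  rw [conj_cube, hA' j hj, hA' _ (hlt j hj), hA' _ (hlt _ (hlt j hj)),
    cube_lin σ a hA.k₁_mem.2 b hA.k₂_mem.2 hA.k₁_mem.1 hA.k₂_mem.1 j hj]

theorem sgn_eq_of_centZ {x : G} (hx : x ∈ normalizer (L : Set G)) (h : S.CentZ x) :
    (S.sgn ⟨x, hx⟩).1 = (S.sgn ⟨x, hx⟩).2 := by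
  obtain ⟨l, hl, σ, s, a, b, hA⟩ := S.C.exists_act hx
  rw [S.sgn_act hx ⟨l, hl, hA⟩, S.centZ_bits h ⟨l, hl, hA⟩]

theorem τ_four_pow {p : ℕ} (hp : p < 256) : S.C.τ p ^ 2 ^ 2 = 1 := by
  rw [show S.C.τ p ^ 2 ^ 2 = S.C.τ p * S.C.τ p * (S.C.τ p * S.C.τ p) by simp [pow_succ, mul_assoc],
    S.C.mul, S.C.mul, four_pow p hp, S.C.τ_zero]

end Std

end CfsgLib.StdHe
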