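import Cfsg.Agent.Lib.StdHe.TModel

/-!
Coordinates on a subgroup of type `2².L₃(4)`.
-/

set_option autoImplicit false

namespace CfsgLib.StdHe

universe u

/-- The coordinates: a Sylow subgroup, the torus element and two monomial elements. -/
structure Coord {G : Type u} [Group G] (L : Subgroup G) where
  /-- the element of a code -/
  τ : ℕ → G
  /-- the torus element -/
  η : G
  /-- the first monomial element -/
  w₁ : G
  /-- the second monomial element -/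
  w₂ : G
  mem : ∀ x, τ x ∈ L
  mul : ∀ x y, τ x * τ y = τ (tmul x y)
  inj : ∀ x < 256, ∀ y < 256, τ x = τ y → x = y
  center_iff : ∀ g ∈ L, g ∈ Subgroup.centralizer (L : Set G) ↔ ∃ a < 4, τ a = g
  η_mem : η ∈ L
  η_three : η * (η * η) = 1
  η_conj : ∀ x, η * τ x * η⁻¹ = τ (tEta x)
  w₁_mem : w₁ ∈ L
  w₁_sq : w₁ * w₁ = 1
  w₁_η : w₁ * η * w₁⁻¹ = η * η
  w₁_conj : ∀ x, cN x = 0 → w₁ * τ x * w₁⁻¹ = τ (tW1 x)
  w₁_braid : (w₁ * τ 64) ^ 3 = 1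
  w₂_mem : w₂ ∈ L
  w₂_sq : w₂ * w₂ = 1
  w₂_η : w₂ * η * w₂⁻¹ = η * η
  w₂_conj : ∀ x, cL x = 0 → w₂ * τ x * w₂⁻¹ = τ (tW2 x)
  w₂_braid : (w₂ * τ 16) ^ 3 = 1
  gen : L ≤ Subgroup.closure ({g | ∃ x < 256, τ x = g} ∪ {w₁, w₂})
  card : Nat.card L = 80640
  perfect : commutator L = ⊤
  centr : ∀ l ∈ L, ∀ x < 16, 4 ≤ x → Commute l (τ x) → ∃ y < 256, τ y = l
  norm : ∀ l ∈ L, (∀ x < 256, ∃ y < 256, l * τ x * l⁻¹ = τ y) → ∃ x < 256, ∃ i < 3, l = τ x * η ^ i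
  sq_center : ∀ l ∈ L, l * l ∈ Subgroup.centralizer (L : Set G) → l * l = 1
  inv_conj : ∀ l ∈ L, l * l = 1 → ∃ c ∈ L, ∃ x < 16, c * l * c⁻¹ = τ x

end CfsgLib.StdHe
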