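import Cfsg.Agent.Lib.HeldRecog.Classes

/-!
A standard subgroup of type `2².L₃(4)`: the data handed to the final step.

An involution `z` with a subgroup `H` of its centraliser mapping onto the centraliser of a transvection of
`SL(5, 2)` with kernel of odd order, and the fusion of the involutions of `H` into two classes.
-/

set_option autoImplicit false

namespace CfsgLib.StdHe

open Subgroup CfsgLib.HeldRecog CfsgLib.HeCent

universe u

variable {G : Type u} [Group G]

/-- A conjugate of `t`. -/
def IsT (t a : G) : Prop := ∃ g : G, g * t * g⁻¹ = a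

/-- A conjugate of `t` whose product with `z` is one, too. -/
def IsP (t z a : G) : Prop := IsT t a ∧ IsT t (a * z)

/-- A conjugate of `t` whose product with `z` is not one. -/
def IsQ (t z a : G) : Prop := IsT t a ∧ ¬ IsT t (a * z)

/-- The element is carried to a conjugate of the representative of a class of the model. -/
def InCls (k : ℕ) (y : HS) : Prop := ∃ c : HS, y = c * rep k * c⁻¹

/-- The data reached from a standard subgroup `L` of type `2².L₃(4)`. -/
structure Core (L : Subgroup G) (t z : G) where
  /-- the part of the centraliser of `z` -/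
  H : Subgroup G
  /-- the map to the model -/
  ρ : H →* HS
  surj : Function.Surjective ρ
  ker_odd : Odd (Nat.card ρ.ker)
  le_cent : H ≤ centralizer ({z} : Set G)
  z_mem : z ∈ H
  ρ_z : ρ ⟨z, z_mem⟩ = Zh
  z_ord : orderOf z = 2
  t_ord : orderOf t = 2
  t_mem : t ∈ H
  not_T : ¬ IsT t z
  /-- the class of the elements of the second type -/
  kQ : ℕ
  kQ_mem : kQ = 1 ∨ kQ = 4
  p_iff : ∀ x : H, x * x = 1 → x ≠ 1 → (IsP t z (x : G) ↔ InCls 0 (ρ x))
  q_iff : ∀ x : H, x * x = 1 → x ≠ 1 → (IsQ t z (x : G) ↔ InCls kQ (ρ x))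
  cent_le : ∀ a ∈ H, IsP t z a ∨ IsQ t z a → centralizer ({z} : Set G) ⊓ centralizer ({a} : Set G) ≤ H
  /-- the odd kernel is normalised by the centraliser of `t` -/
  cent_norm : centralizer ({t} : Set G) ≤ normalizer ((ρ.ker.map H.subtype : Subgroup G) : Set G)
  /-- the two classes, with conjugators normalising the odd kernel -/
  classes : ∀ x : H, x * x = 1 → x ≠ 1 →
    ∃ m ∈ normalizer ((ρ.ker.map H.subtype : Subgroup G) : Set G), m * (x : G) * m⁻¹ = t ∨ m * (x : G) * m⁻¹ = z
  L_le : L ≤ centralizer ({t} : Set G)
  L_perfect : commutator L = ⊤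
  L_card : Nat.card L = 80640

end CfsgLib.StdHe
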