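import Cfsg.Agent.Lib.StdHe.RecBasic

/-!
Invariant sets of involutions in the model are determined by their size.
-/

set_option autoImplicit false
set_option linter.style.haveILetI false
set_option maxRecDepth 100000

namespace CfsgLib.StdHe

open Subgroup CfsgLib.HeldRecog CfsgLib.HeCent

/-- The size of a class. -/
def clsSize (k : ℕ) : ℕ := [42, 84, 14, 14, 84, 168, 1, 168].getD k 0

theorem finite_HS : Finite HS := Nat.finite_of_card_ne_zero (by rw [card_HS]; norm_num)

theorem inCls_unique {k l : ℕ} (hk : k < 8) (hl : l < 8) {y : HS} (h : InCls k y) (h' : InCls l y) : k = l := by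
  obtain ⟨c, hc⟩ := exists_code y
  rw [← clsOf_of_inCls hk h hc, clsOf_of_inCls hl h' hc]

theorem card_class_mul {M : Type*} [Group M] [Finite M] (r : M) :
    Nat.card {y : M // ∃ c, y = c * r * c⁻¹} * Nat.card {c : M // c * r = r * c} = Nat.card M := by
  classical
  haveI := Fintype.ofFinite M
  let f : M → {y : M // ∃ c, y = c * r * c⁻¹} := fun c => ⟨c * r * c⁻¹, c, rfl⟩
  have hsum : Nat.card M = ∑ y : {y : M // ∃ c, y = c * r * c⁻¹}, Nat.card {c : M // f c = y} := by
    rw [← Nat.card_sigma, Nat.card_congr (Equiv.sigmaFiberEquiv f)]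
  have hfib : ∀ y, Nat.card {c : M // f c = y} = Nat.card {c : M // c * r = r * c} := by
    rintro ⟨y, d, rfl⟩
    refine Nat.card_congr
      { toFun := fun c => ⟨d⁻¹ * c.1, ?_⟩
        invFun := fun c => ⟨d * c.1, ?_⟩
        left_inv := fun c => Subtype.ext (mul_inv_cancel_left d c.1)
        right_inv := fun c => Subtype.ext (inv_mul_cancel_left d c.1) }
    · have e : c.1 * r * c.1⁻¹ = d * r * d⁻¹ := congrArg Subtype.val c.2
      calc d⁻¹ * c.1 * r = d⁻¹ * (c.1 * r * c.1⁻¹) * c.1 := by group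
        _ = _ := by rw [e]; group
    · refine Subtype.ext ?_
      show d * c.1 * r * (d * c.1)⁻¹ = d * r * d⁻¹
      rw [show d * c.1 * r * (d * c.1)⁻¹ = d * (c.1 * r) * c.1⁻¹ * d⁻¹ by group, c.2]
      group
  rw [hsum, Finset.sum_congr rfl fun y _ => hfib y, Finset.sum_const, Finset.card_univ, ← Nat.card_eq_fintype_card,
    smul_eq_mul]

attribute [local irreducible] rep Zh wEl

theorem card_cls {k : ℕ} (hk : k < 8) : Nat.card {y : HS // InCls k y} = clsSize k := by
  haveI := finite_HS
  have h : Nat.card {y : HS // InCls k y} * centSize.getD k 0 = 21504 := by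
    rw [← card_cent_rep hk, ← card_HS]
    exact card_class_mul (rep k)
  generalize Nat.card {y : HS // InCls k y} = n at h ⊢
  interval_cases k <;> simp [centSize, clsSize] at h ⊢ <;> omega

/-- The size of a union of classes. -/
def bitSum (b : Fin 8 → Bool) : ℕ := ((List.finRange 8).map fun k => if b k then clsSize k else 0).sum

theorem sum_cases : ∀ b : Fin 8 → Bool, b 6 = false →
    (bitSum b = 42 → ((List.finRange 8).all fun k => b k == decide ((k : ℕ) = 0)) = true) ∧
    (bitSum b = 84 → ((List.finRange 8).all fun k => b k == decide ((k : ℕ) = 1)) = true ∨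
      ((List.finRange 8).all fun k => b k == decide ((k : ℕ) = 4)) = true) := by
  decide +kernel

theorem card_invariant (X : HS → Prop) (hinv : ∀ c y : HS, X y → X (c * y * c⁻¹))
    (hsq : ∀ y, X y → y * y = 1 ∧ y ≠ 1) (b : Fin 8 → Bool) (hb : ∀ k : Fin 8, b k = true ↔ X (rep k)) :
    Nat.card {y : HS // X y} = bitSum b ∧ ∀ y, X y → ∃ k : Fin 8, b k = true ∧ InCls k y := by
  classical
  haveI := finite_HS
  have hcls : ∀ y, X y → ∃ k : Fin 8, b k = true ∧ InCls k y := fun y hy => by
    obtain ⟨k, hk, c, rfl⟩ := inv_cases (hsq y hy).1 (hsq y hy).2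
    refine ⟨⟨k, hk⟩, (hb _).2 ?_, c, rfl⟩
    have := hinv c⁻¹ _ hy
    rwa [show c⁻¹ * (c * rep k * c⁻¹) * c⁻¹⁻¹ = rep k by group] at this
  refine ⟨?_, hcls⟩
  have hX : ∀ (k : Fin 8) (y : HS), b k = true → InCls k y → X y := by
    rintro k y hk ⟨c, rfl⟩
    exact hinv c _ ((hb k).1 hk)
  haveI : ∀ k : Fin 8, Fintype {y : HS // b k = true ∧ InCls k y} := fun k => Fintype.ofFinite _
  have e : Nat.card {y : HS // X y} = Nat.card (Σ k : Fin 8, {y : HS // b k = true ∧ InCls k y}) := by
    refine (Nat.card_eq_of_bijective (fun p => (⟨p.2.1, hX p.1 _ p.2.2.1 p.2.2.2⟩ : {y : HS // X y})) ⟨?_, ?_⟩).symm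
    · rintro ⟨k, y, hy⟩ ⟨l, y', hy'⟩ e
      have e' : y = y' := congrArg Subtype.val e
      subst e'
      obtain rfl : k = l := Fin.ext (inCls_unique k.2 l.2 hy.2 hy'.2)
      rfl
    · rintro ⟨y, hy⟩
      obtain ⟨k, hk, hc⟩ := hcls y hy
      exact ⟨⟨k, y, hk, hc⟩, rfl⟩
  rw [e, Nat.card_sigma, bitSum, ← List.ofFn_eq_map, List.sum_ofFn]
  refine Finset.sum_congr rfl fun k _ => ?_
  cases hbk : b k
  · rw [if_neg Bool.false_ne_true, Nat.card_eq_zero]
    exact .inl ⟨fun y => Bool.false_ne_true y.2.1⟩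
  · rw [if_pos rfl, ← card_cls k.2]
    exact Nat.card_congr (Equiv.subtypeEquivRight fun y => ⟨fun h => h.2, fun h => ⟨rfl, h⟩⟩)

/-- A set of size 42 avoiding the central involution and two small classes is the class with that size. -/
theorem eq_cls_zero (X : HS → Prop) (hinv : ∀ c y : HS, X y → X (c * y * c⁻¹)) (hsq : ∀ y, X y → y * y = 1 ∧ y ≠ 1)
    (hz : ¬ X Zh) (hc : Nat.card {y : HS // X y} = 42) : ∀ y, X y ↔ InCls 0 y := by
  classical
  obtain ⟨h1, h2⟩ := card_invariant X hinv hsq (fun k => decide (X (rep k))) fun k => decide_eq_true_iff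
  rw [h1] at hc
  have h6 : decide (X (rep ((6 : Fin 8) : ℕ))) = false := decide_eq_false (by rw [show ((6 : Fin 8) : ℕ) = 6 from rfl, rep_six]; exact hz)
  have h := (sum_cases _ h6).1 hc
  rw [List.all_eq_true] at h
  intro y
  constructor
  · intro hy
    obtain ⟨k, hk, hcl⟩ := h2 y hy
    have := h k (List.mem_finRange k)
    rw [hk, beq_iff_eq, eq_comm, decide_eq_true_iff] at this
    rwa [this] at hcl
  · rintro ⟨c, rfl⟩
    refine hinv c _ ?_
    have := h 0 (List.mem_finRange _)
    simpa using this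

/-- A set of size 84 avoiding the first class and two small classes is one of two classes. -/
theorem eq_cls_Q (X : HS → Prop) (hinv : ∀ c y : HS, X y → X (c * y * c⁻¹)) (hsq : ∀ y, X y → y * y = 1 ∧ y ≠ 1)
    (hz : ¬ X Zh) (hc : Nat.card {y : HS // X y} = 84) :
    ∃ k, (k = 1 ∨ k = 4) ∧ ∀ y, X y ↔ InCls k y := by
  classical
  obtain ⟨h1, h2⟩ := card_invariant X hinv hsq (fun k => decide (X (rep k))) fun k => decide_eq_true_iff
  rw [h1] at hc
  have h6 : decide (X (rep ((6 : Fin 8) : ℕ))) = false := decide_eq_false (by rw [show ((6 : Fin 8) : ℕ) = 6 from rfl, rep_six]; exact hz)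
  have done : ∀ j : Fin 8, ((List.finRange 8).all fun k => decide (X (rep (k : ℕ))) == decide ((k : ℕ) = (j : ℕ))) = true →
      ∀ y, X y ↔ InCls j y := by
    intro j h y
    rw [List.all_eq_true] at h
    constructor
    · intro hy
      obtain ⟨k, hk, hcl⟩ := h2 y hy
      have := h k (List.mem_finRange k)
      rw [hk, beq_iff_eq, eq_comm, decide_eq_true_iff] at this
      rwa [this] at hcl
    · rintro ⟨c, rfl⟩
      refine hinv c _ ?_
      have := h j (List.mem_finRange _)
      rw [decide_eq_true (rfl : (j : ℕ) = j), beq_iff_eq, decide_eq_true_iff] at this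
      exact this
  rcases (sum_cases _ h6).2 hc with h | h
  · exact ⟨1, .inl rfl, done 1 h⟩
  · exact ⟨4, .inr rfl, done 4 h⟩

end CfsgLib.StdHe
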