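import Cfsg.Agent.Lib.StdHe.CzShape
import Cfsg.Agent.Lib.StdHe.CzHS

/-!
The two kinds of involutions in the group inside the centraliser.
-/

set_option autoImplicit false
set_option maxRecDepth 100000
set_option synthInstance.maxSize 4096
set_option linter.style.haveILetI false

namespace CfsgLib.StdHe

open Subgroup CfsgLib.Order168Model

universe u

/-- One move; `2000` if it is not allowed. -/
def moveC (k a : ℕ) : ℕ :=
  if Nat.blt a 1024 then
    (if Nat.beq k 0 then (if Nat.blt a 256 then tEta a else 2000)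
    else if Nat.beq k 1 then scj 512 a
    else if Nat.beq k 2 then (if Nat.blt a 256 && Nat.beq (cN a) 0 then tW1 a else 2000)
    else if Nat.beq k 3 then (if Nat.blt a 256 && Nat.beq (cL a) 0 then tW2 a else 2000)
    else if Nat.beq k 4 then scj 256 a
    else if Nat.beq k 5 then (if inLst listR a then mI a else 2000)
    else if Nat.beq k 6 then (if inLst listR a then m₂I a else 2000)
    else if Nat.beq k 7 then (if Nat.beq a 19 then 896 else 2000)
    else if Nat.blt (k - 8) 256 then scj (k - 8) a else 2000)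
  else 2000

/-- A sequence of moves. -/
def runC (a : ℕ) : List ℕ → ℕ
  | [] => a
  | k :: ks => runC (moveC k a) ks

/-- The representative conjugate to an involution of the table. -/
def rootC (n : ℕ) : ℕ :=
  match conjTab.find? fun e => Nat.beq e.1 n with
  | some e => e.2.1
  | none => 0

/-- The code is of the first kind. -/
def isPc (n : ℕ) : Bool := Nat.beq (rootC n) 1 && Nat.beq (rootC (smul n 5)) 1

/-- The code is of the second kind. -/
def isQc (n : ℕ) : Bool := Nat.beq (rootC n) 1 && !Nat.beq (rootC (smul n 5)) 1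

/-- The involutions of the two cosets. -/
def invList : List ℕ := (listR ++ coset128).filter fun n => Nat.beq (smul n n) 0 && !Nat.beq n 0

/-- The checks on the table. -/
def tabOK : Bool :=
  conjTab.all (fun e => (Nat.beq e.2.1 1 || Nat.beq e.2.1 5) && Nat.beq (runC e.2.1 e.2.2) e.1) &&
    invList.all (fun n => (conjTab.any fun e => Nat.beq e.1 n) &&
      (Nat.beq n 5 || conjTab.any fun e => Nat.beq e.1 (smul n 5))) &&
    listR.all (fun r => inLst coset128 (smul 128 r)) &&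
    Nat.beq (rootC 5) 5 && Nat.beq (rootC 1) 1 &&
    (invList.all fun n => !isPc n || inLst listR n) && (invList.all fun n => !isQc n || inLst coset128 n) &&
    Nat.beq (invList.filter isPc).length 42 && Nat.beq (invList.filter isQc).length 4 &&
    inLst (invList.filter isPc) 1 && inLst (invList.filter isQc) 128 &&
    coset128.all (fun n => !inLst listR n)

theorem tab_ok : tabOK = true := by decide +kernel

/-- The two small classes do not meet the two kinds. -/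
theorem nodup_inv : invList.Nodup ∧ ∀ n ∈ invList, n < 1024 := by decide +kernel

namespace Rel

variable {M : Type u} [Group M] (W : Rel M)

/-- Conjugacy of two coded elements. -/
def Cj (a b : ℕ) : Prop := ∃ g : M, g * W.el a * g⁻¹ = W.el b

theorem cj_seed : W.Cj 19 896 := by
  obtain ⟨-, h2, -⟩ := W.mu₂_facts
  have f : tW2 128 = 8 ∧ cL 128 = 0 ∧ pm 8 = 12 ∧ hm 12 = 3 ∧ tW2 3 = 3 ∧ cL 3 = 0 := by decide
  obtain ⟨f1, f2, f3, f4, f5, f6⟩ := f
  have c2 : W.h * W.p * (W.h * W.p) = 1 := by rw [W.comm.symm.mul_mul_mul_comm, W.h_sq, W.p_sq, one_mul]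
  obtain ⟨c, hc⟩ : ∃ c, c = W.h * W.p := ⟨_, rfl⟩
  rw [← hc] at c2
  have hcube : W.w₂ * c * (W.w₂ * c) * (W.w₂ * c) = 1 := by
    rw [hc, ← mul_assoc W.w₂ W.h W.p, ← sq, ← pow_succ]; exact W.cube₂
  have hci : c⁻¹ = c := inv_eq_of_mul_eq_one_right c2
  have e1 : c * W.w₂ * c * W.w₂ * c = W.w₂ := by
    have : W.w₂ * (c * W.w₂ * c * W.w₂ * c) = 1 := by rw [← hcube]; simp only [mul_assoc]
    exact (eq_inv_of_mul_eq_one_right this).trans W.w₂_inv
  have e2 : W.w₂ * W.τ 16 * W.w₂ * W.τ 16 * W.w₂ = W.τ 16 := by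
    have : W.w₂ * W.τ 16 * W.w₂ * W.τ 16 * W.w₂ * W.τ 16 = 1 := by
      rw [← W.w₂_braid, pow_three]; simp only [mul_assoc]
    exact (eq_inv_of_mul_eq_one_left this).trans (inv_eq_of_mul_eq_one_right W.τ_sq_root.2)
  have e3 : (c * W.w₂) * W.τ 128 * (c * W.w₂)⁻¹ = W.τ 3 := by
    rw [hc, show W.h * W.p * W.w₂ * W.τ 128 * (W.h * W.p * W.w₂)⁻¹ =
      W.h * (W.p * (W.w₂ * W.τ 128 * W.w₂⁻¹) * W.p⁻¹) * W.h⁻¹ by group, W.w₂_conj 128 (by norm_num) f2, f1,
      W.p_conj 8 (by norm_num), f3, W.h_conj 12 (by norm_num), f4]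
  have e4 : (W.w₂ * W.τ 16) * W.τ 3 * (W.w₂ * W.τ 16)⁻¹ = W.τ 3 := by
    rw [show W.w₂ * W.τ 16 * W.τ 3 * (W.w₂ * W.τ 16)⁻¹ = W.w₂ * (W.τ 16 * W.τ 3 * (W.τ 16)⁻¹) * W.w₂⁻¹ by group,
      W.τ_conj (show 16 < 256 by norm_num), show tmul (tmul 16 3) (tinv 16) = 3 by decide, W.w₂_conj 3 (by norm_num) f6,
      f5]
  refine ⟨((W.w₂ * W.τ 16) * (c * W.w₂))⁻¹, ?_⟩
  have h896 : W.el 896 = W.τ 128 * c := by
    rw [show (896 : ℕ) = scode 128 3 from rfl, W.el_scode (by norm_num) (by norm_num), hc, W.comm.eq]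
    simp [out]
  rw [h896, W.el_τ (show 19 < 256 by norm_num)]
  have key : W.w₂ * W.τ 16 * (c * W.w₂) * (W.τ 128 * c) * (W.w₂ * W.τ 16 * (c * W.w₂))⁻¹ = W.τ 19 := by
    rw [show W.w₂ * W.τ 16 * (c * W.w₂) * (W.τ 128 * c) * (W.w₂ * W.τ 16 * (c * W.w₂))⁻¹ =
      W.w₂ * W.τ 16 * ((c * W.w₂ * W.τ 128 * (c * W.w₂)⁻¹) * (c * W.w₂ * c * (c * W.w₂)⁻¹)) * (W.w₂ * W.τ 16)⁻¹ by group,
      e3, show c * W.w₂ * c * (c * W.w₂)⁻¹ = W.w₂ by
        rw [mul_inv_rev, hci, W.w₂_inv, ← mul_assoc]; exact e1,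
      show W.w₂ * W.τ 16 * (W.τ 3 * W.w₂) * (W.w₂ * W.τ 16)⁻¹ =
        W.w₂ * W.τ 16 * W.τ 3 * (W.w₂ * W.τ 16)⁻¹ * (W.w₂ * W.τ 16 * W.w₂ * (W.w₂ * W.τ 16)⁻¹) by group, e4,
      show W.w₂ * W.τ 16 * W.w₂ * (W.w₂ * W.τ 16)⁻¹ = W.τ 16 by
        rw [mul_inv_rev, W.w₂_inv, inv_eq_of_mul_eq_one_right W.τ_sq_root.2, ← mul_assoc]; exact e2,
      W.mul, show tmul 3 16 = 19 by decide]
  rw [← key]
  group

theorem cj_move {k a : ℕ} (h : moveC k a < 1024) : a < 1024 ∧ W.Cj a (moveC k a) := by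
  unfold moveC at h ⊢
  split_ifs at h ⊢ with ha h0 ha0 h1 h2 hc2 h3 hc3 h4 h5 hc5 h6 hc6 h7 hc7 h8
  all_goals first
    | omega
    | skip
  all_goals refine ⟨list_facts.blt_iff'.1 ha, ?_⟩
  · have ha' := list_facts.blt_iff'.1 ha0
    exact ⟨W.η, by rw [W.el_τ ha', W.η_conj a ha', W.el_τ (tEta_lt a)]⟩
  · exact ⟨_, W.el_conj (by norm_num) (list_facts.blt_iff'.1 ha)⟩
  · simp only [Bool.and_eq_true, Nat.beq_eq] at hc2
    have ha' := list_facts.blt_iff'.1 hc2.1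
    exact ⟨W.w₁, by rw [W.el_τ ha', W.w₁_conj a ha' hc2.2, W.el_τ (tW_lt a).1]⟩
  · simp only [Bool.and_eq_true, Nat.beq_eq] at hc3
    have ha' := list_facts.blt_iff'.1 hc3.1
    exact ⟨W.w₂, by rw [W.el_τ ha', W.w₂_conj a ha' hc3.2, W.el_τ (tW_lt a).2]⟩
  · exact ⟨_, W.el_conj (by norm_num) (list_facts.blt_iff'.1 ha)⟩
  · exact ⟨_, W.mu₁_R (inLst_iff.1 hc5)⟩
  · exact ⟨_, W.mu₂_R (inLst_iff.1 hc6)⟩
  · rw [Nat.eq_of_beq_eq_true hc7]
    exact W.cj_seed
  · exact ⟨_, W.el_conj (by have := list_facts.blt_iff'.1 h8; omega) (list_facts.blt_iff'.1 ha)⟩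

theorem cj_run : ∀ (ks : List ℕ) (a : ℕ), runC a ks < 1024 → a < 1024 ∧ W.Cj a (runC a ks) := by
  intro ks
  induction ks with
  | nil => exact fun a h => ⟨h, 1, by simp [runC]⟩
  | cons k ks ih =>
    intro a h
    obtain ⟨hlt, g, hg⟩ := ih (moveC k a) h
    obtain ⟨ha, g', hg'⟩ := W.cj_move hlt
    exact ⟨ha, g * g', by rw [runC, ← hg, ← hg']; group⟩

theorem cj_root {n : ℕ} (hn : conjTab.any (fun e => Nat.beq e.1 n) = true) (hlt : n < 1024) :
    W.Cj (rootC n) n ∧ (rootC n = 1 ∨ rootC n = 5) := by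
  obtain ⟨e, he⟩ : ∃ e : ℕ × ℕ × List ℕ, conjTab.find? (fun e : ℕ × ℕ × List ℕ => Nat.beq e.1 n) = some e := by
    rw [← Option.isSome_iff_exists, List.find?_isSome]
    exact List.any_eq_true.1 hn
  have h := tab_ok
  simp only [tabOK, Bool.and_eq_true, List.all_eq_true, Nat.beq_eq, Bool.or_eq_true] at h
  obtain ⟨h1, h2⟩ := h.1.1.1.1.1.1.1.1.1.1.1 e (List.mem_of_find?_eq_some he)
  have h3 : e.1 = n := Nat.eq_of_beq_eq_true (List.find?_some (p := fun e : ℕ × ℕ × List ℕ => Nat.beq e.1 n) he)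
  have hr : rootC n = e.2.1 := by rw [rootC, he]
  refine ⟨?_, hr ▸ h1⟩
  obtain ⟨-, hc⟩ := W.cj_run e.2.2 e.2.1 (by rw [h2, h3]; exact hlt)
  rw [h2, h3] at hc
  rwa [hr]

/-- A predicate separating the two representatives. -/
structure Sep (T : M → Prop) : Prop where
  conj : ∀ g x : M, T x → T (g * x * g⁻¹)
  one : T (W.τ 1)
  five : ¬ T (W.τ 5)
  one_false : ¬ T 1

/-- The first kind. -/
def PP (T : M → Prop) (x : M) : Prop := T x ∧ T (x * W.τ 5)

/-- The second kind. -/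
def QQ (T : M → Prop) (x : M) : Prop := T x ∧ ¬ T (x * W.τ 5)

variable {W} {T : M → Prop} (hT : W.Sep T)

include hT

theorem Sep.root {n : ℕ} (hn : conjTab.any (fun e => Nat.beq e.1 n) = true) (hlt : n < 1024) :
    T (W.el n) ↔ rootC n = 1 := by
  obtain ⟨⟨g, e⟩, hr⟩ := W.cj_root hn hlt
  rcases hr with h | h <;> rw [h] at e ⊢
  · rw [← e, W.el_τ (show 1 < 256 by norm_num)]
    exact iff_of_true (hT.conj _ _ hT.one) rfl
  · refine iff_of_false (fun hx => hT.five ?_) (by norm_num)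
    rw [← e, W.el_τ (show 5 < 256 by norm_num)] at hx
    have := hT.conj g⁻¹ _ hx
    rwa [show g⁻¹ * (g * W.τ 5 * g⁻¹) * g⁻¹⁻¹ = W.τ 5 by group] at this

theorem Sep.kinds {n : ℕ} (hn : n ∈ invList) :
    (W.PP T (W.el n) ↔ isPc n = true) ∧ (W.QQ T (W.el n) ↔ isQc n = true) := by
  have hlt := nodup_inv.2 n hn
  have h := tab_ok
  simp only [tabOK, Bool.and_eq_true, List.all_eq_true, Bool.or_eq_true] at h
  obtain ⟨h1, h2⟩ := h.1.1.1.1.1.1.1.1.1.1.2 n hn
  have e1 := hT.root h1 hlt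
  have h5 : W.el n * W.τ 5 = W.el (smul n 5) := by
    rw [← W.el_τ (show 5 < 256 by norm_num), W.el_mul hlt (by norm_num)]
  have e2 : T (W.el (smul n 5)) ↔ rootC (smul n 5) = 1 := by
    rcases h2 with h2 | h2
    · rw [Nat.eq_of_beq_eq_true h2, show smul 5 5 = 0 by decide +kernel, W.el_zero]
      exact iff_of_false hT.one_false (by decide +kernel)
    · exact hT.root h2 (smul_lt hlt (by norm_num))
  unfold PP QQ isPc isQc
  rw [h5, e1, e2, Bool.and_eq_true, Bool.and_eq_true, Nat.beq_eq, Nat.beq_eq, Bool.not_eq_true',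
    ← Bool.not_eq_true, Nat.beq_eq]
  exact ⟨Iff.rfl, Iff.rfl⟩

end Rel

end CfsgLib.StdHe
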