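/-!
Lists for the finite part of the centraliser of an involution: the subgroups of order 128 and 16, images of
generators, words, and paths between involutions.
-/

set_option autoImplicit false

namespace CfsgLib.StdHe

/-- The normal subgroup of order 128. -/
def listR : List Nat := [
    0, 1, 4, 5, 10, 11, 14, 15, 16, 17, 20, 21, 26, 27, 30, 31, 64, 65, 68, 69, 74, 75, 78, 79, 80, 81,
    84, 85, 90, 91, 94, 95, 256, 257, 260, 261, 266, 267, 270, 271, 272, 273, 276, 277, 282, 283, 286,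
    287, 320, 321, 324, 325, 330, 331, 334, 335, 336, 337, 340, 341, 346, 347, 350, 351, 512, 513, 516,
    517, 522, 523, 526, 527, 528, 529, 532, 533, 538, 539, 542, 543, 576, 577, 580, 581, 586, 587, 590,
    591, 592, 593, 596, 597, 602, 603, 606, 607, 768, 769, 772, 773, 778, 779, 782, 783, 784, 785, 788,
    789, 794, 795, 798, 799, 832, 833, 836, 837, 842, 843, 846, 847, 848, 849, 852, 853, 858, 859, 862,
    863]

/-- The first elementary abelian subgroup. -/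
def listA : List Nat := [
    0, 5, 11, 14, 17, 20, 26, 31, 832, 837, 843, 846, 849, 852, 858, 863]

/-- The second elementary abelian subgroup. -/
def listB : List Nat := [
    0, 5, 10, 15, 65, 68, 75, 78, 528, 533, 538, 543, 593, 596, 603, 606]

/-- Generators of the normal subgroup. -/
def gensR : List Nat := [
    1, 4, 10, 16, 64, 256, 512]

/-- Words in the generators, in the order of the list. -/
def wordsR : List (List Nat) := [
    [],
    [0],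
    [1],
    [0, 1],
    [2],
    [0, 2],
    [1, 2],
    [0, 1, 2],
    [3],
    [0, 3],
    [1, 3],
    [0, 1, 3],
    [2, 3],
    [0, 2, 3],
    [1, 2, 3],
    [0, 1, 2, 3],
    [4],
    [0, 4],
    [1, 4],
    [0, 1, 4],
    [2, 4],
    [0, 2, 4],
    [1, 2, 4],
    [0, 1, 2, 4],
    [3, 4],
    [0, 3, 4],
    [0, 4, 3],
    [4, 3],
    [2, 3, 4],
    [0, 2, 3, 4],
    [0, 2, 4, 3],
    [2, 4, 3],
    [5],
    [0, 5],
    [1, 5],
    [0, 1, 5],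
    [2, 5],
    [0, 2, 5],
    [0, 5, 2],
    [5, 2],
    [3, 5],
    [0, 3, 5],
    [1, 3, 5],
    [0, 1, 3, 5],
    [2, 3, 5],
    [0, 2, 3, 5],
    [0, 3, 5, 2],
    [3, 5, 2],
    [4, 5],
    [0, 4, 5],
    [1, 4, 5],
    [0, 1, 4, 5],
    [2, 4, 5],
    [0, 2, 4, 5],
    [0, 4, 5, 2],
    [4, 5, 2],
    [3, 4, 5],
    [0, 3, 4, 5],
    [0, 4, 3, 5],
    [4, 3, 5],
    [2, 3, 4, 5],
    [0, 2, 3, 4, 5],
    [0, 2, 4, 3, 5],
    [2, 4, 3, 5],
    [6],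
    [0, 6],
    [1, 6],
    [0, 1, 6],
    [2, 6],
    [0, 2, 6],
    [1, 2, 6],
    [0, 1, 2, 6],
    [3, 6],
    [0, 3, 6],
    [1, 3, 6],
    [0, 1, 3, 6],
    [2, 3, 6],
    [0, 2, 3, 6],
    [1, 2, 3, 6],
    [0, 1, 2, 3, 6],
    [4, 6],
    [0, 4, 6],
    [1, 4, 6],
    [0, 1, 4, 6],
    [2, 4, 6],
    [0, 2, 4, 6],
    [1, 2, 4, 6],
    [0, 1, 2, 4, 6],
    [3, 4, 6],
    [0, 3, 4, 6],
    [0, 4, 3, 6],
    [4, 3, 6],
    [2, 3, 4, 6],
    [0, 2, 3, 4, 6],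
    [0, 2, 4, 3, 6],
    [2, 4, 3, 6],
    [5, 6],
    [0, 5, 6],
    [1, 5, 6],
    [0, 1, 5, 6],
    [2, 5, 6],
    [0, 2, 5, 6],
    [0, 5, 2, 6],
    [5, 2, 6],
    [3, 5, 6],
    [0, 3, 5, 6],
    [1, 3, 5, 6],
    [0, 1, 3, 5, 6],
    [2, 3, 5, 6],
    [0, 2, 3, 5, 6],
    [0, 3, 5, 2, 6],
    [3, 5, 2, 6],
    [4, 5, 6],
    [0, 4, 5, 6],
    [1, 4, 5, 6],
    [0, 1, 4, 5, 6],
    [2, 4, 5, 6],
    [0, 2, 4, 5, 6],
    [0, 4, 5, 2, 6],
    [4, 5, 2, 6],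
    [3, 4, 5, 6],
    [0, 3, 4, 5, 6],
    [0, 4, 3, 5, 6],
    [4, 3, 5, 6],
    [2, 3, 4, 5, 6],
    [0, 2, 3, 4, 5, 6],
    [0, 2, 4, 3, 5, 6],
    [2, 4, 3, 5, 6]]

/-- The images of the generators under the first monomial element. -/
def imgM : List Nat := [
    16, 21, 10, 1, 512, 256, 64]

/-- The images of the generators under the second monomial element. -/
def imgM₂ : List Nat := [
    64, 69, 75, 768, 1, 256, 272]

/-- The coset of an outer involution. -/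
def coset128 : List Nat := [
    128, 129, 132, 133, 138, 139, 142, 143, 144, 145, 148, 149, 154, 155, 158, 159, 192, 193, 196, 197,
    202, 203, 206, 207, 208, 209, 212, 213, 218, 219, 222, 223, 384, 385, 388, 389, 394, 395, 398, 399,
    400, 401, 404, 405, 410, 411, 414, 415, 448, 449, 452, 453, 458, 459, 462, 463, 464, 465, 468, 469,
    474, 475, 478, 479, 640, 641, 644, 645, 650, 651, 654, 655, 656, 657, 660, 661, 666, 667, 670, 671,
    704, 705, 708, 709, 714, 715, 718, 719, 720, 721, 724, 725, 730, 731, 734, 735, 896, 897, 900, 901,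
    906, 907, 910, 911, 912, 913, 916, 917, 922, 923, 926, 927, 960, 961, 964, 965, 970, 971, 974, 975,
    976, 977, 980, 981, 986, 987, 990, 991]

/-- The involutions of the first type. -/
def mP : Nat := 1878765338742034982780985318198552208282869500858241304274923294694482938077574634170170937649051022854179456432479568762295507449335385129073356044773573287906133442566047522575153906563454254003158064110475094669436747941240486211413409810

/-- The involutions of the second type. -/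
def mQ : Nat := 106867657044958240007810924721230791600132686157407793887318284

/-- The involutions conjugate to a central element of the subgroup. -/
def mTcls : Nat := 1878765338742034982780985318198552208282869500858241304274923294694482938077574634170170937649051022854179456432479568762295507449335385129073356044773573287906133442566047522575260774220499212243165875035196325461036880627397894005300728094

/-- The images of generators in the simple group of order 168. -/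
def tGens : List Nat := [309, 275, 277, 281, 161]

/-- Words for the elements of the simple group of order 168. -/
def tWords : List (List Nat) := [
    [2, 4, 3, 1, 4],
    [4, 3, 1, 4],
    [0, 3, 1, 4, 3, 1],
    [1, 4, 3, 1, 4],
    [0, 4, 3, 1, 4],
    [3, 4, 3, 4, 0],
    [0, 1, 4, 3, 1, 4],
    [3, 1, 4, 3, 1],
    [2, 4, 3, 1],
    [4, 3, 1],
    [1, 2, 4, 3, 1],
    [1, 4, 3, 1],
    [0, 4, 3, 1],
    [0, 2, 4, 3, 1],
    [0, 1, 4, 3, 1],
    [1, 0, 4, 3, 1],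
    [0, 3, 4, 3, 1],
    [1, 4, 3, 4, 0],
    [2, 4, 3, 4, 0],
    [4, 3, 4, 0],
    [2, 3, 4, 3, 1],
    [3, 4, 3, 1],
    [0, 4, 3, 4, 0],
    [3, 4, 3, 1, 4],
    [1, 3, 1, 4],
    [3, 1, 4],
    [1, 2, 3, 1, 4],
    [2, 3, 1, 4],
    [1, 0, 3, 1, 4],
    [3, 1, 0, 4],
    [0, 1, 3, 1, 4],
    [0, 3, 1, 4],
    [4],
    [2, 4],
    [1, 4],
    [1, 2, 4],
    [3, 4],
    [2, 3, 4],
    [1, 3, 4],
    [1, 2, 3, 4],
    [0, 2, 4],
    [0, 4],
    [1, 0, 4],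
    [0, 1, 4],
    [0, 2, 3, 4],
    [0, 3, 4],
    [1, 0, 3, 4],
    [0, 1, 3, 4],
    [1, 3, 1, 4, 3],
    [3, 1, 4, 3],
    [2, 3, 1, 4, 3],
    [1, 2, 3, 1, 4, 3],
    [1, 0, 3, 1, 4, 3],
    [3, 1, 0, 4, 3],
    [0, 3, 1, 4, 3],
    [4, 0, 3, 1, 4],
    [4, 3],
    [2, 4, 3],
    [1, 4, 3],
    [1, 2, 4, 3],
    [3, 4, 3],
    [2, 3, 4, 3],
    [1, 3, 4, 3],
    [1, 2, 3, 4, 3],
    [0, 2, 3, 4, 3],
    [0, 3, 4, 3],
    [1, 0, 3, 4, 3],
    [0, 1, 3, 4, 3],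
    [0, 2, 4, 3],
    [0, 4, 3],
    [1, 0, 4, 3],
    [0, 1, 4, 3],
    [1, 3, 1],
    [3, 1],
    [1, 2, 3, 1],
    [2, 3, 1],
    [],
    [1],
    [2],
    [1, 2],
    [3],
    [1, 3],
    [2, 3],
    [1, 2, 3],
    [1, 0, 3, 1],
    [3, 1, 0],
    [0, 1, 3, 1],
    [0, 3, 1],
    [0, 2],
    [1, 0],
    [0],
    [0, 1],
    [0, 2, 3],
    [1, 0, 3],
    [0, 3],
    [0, 1, 3],
    [0, 4, 0, 3, 1],
    [3, 1, 4, 3, 4],
    [0, 4, 3, 1, 0],
    [0, 2, 4, 0, 3, 1],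
    [4, 3, 4],
    [1, 4, 3, 4],
    [2, 4, 3, 4],
    [1, 2, 4, 3, 4],
    [3, 4, 3, 4],
    [1, 3, 4, 3, 4],
    [2, 3, 4, 3, 4],
    [3, 4, 0, 3, 1],
    [2, 4, 0, 3, 1],
    [4, 3, 1, 0],
    [2, 4, 3, 1, 0],
    [4, 0, 3, 1],
    [4, 3, 1, 4, 0],
    [0, 3, 4, 0, 3, 1],
    [0, 3, 4, 3, 4],
    [0, 1, 3, 4, 3, 4],
    [0, 2, 4, 3, 4],
    [1, 0, 4, 3, 4],
    [0, 4, 3, 4],
    [0, 1, 4, 3, 4],
    [1, 2, 3, 4, 0],
    [2, 3, 4, 0],
    [1, 3, 4, 0],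
    [3, 4, 0],
    [0, 4, 0, 1],
    [0, 4, 0],
    [0, 2, 4, 0],
    [0, 1, 4, 0],
    [2, 3, 4, 0, 1],
    [4, 0, 3, 4, 3],
    [1, 3, 4, 0, 1],
    [3, 4, 0, 1],
    [1, 4, 0],
    [2, 4, 0],
    [4, 0],
    [4, 0, 1],
    [3, 1, 4, 0],
    [0, 1, 3, 4, 0, 1],
    [1, 3, 1, 4, 0],
    [2, 3, 1, 4, 0],
    [0, 1, 3, 4, 0],
    [0, 3, 4, 0],
    [1, 0, 3, 4, 0],
    [0, 2, 3, 4, 0],
    [2, 3, 4, 0, 3],
    [3, 4, 0, 3, 4],
    [1, 3, 4, 0, 3],
    [3, 4, 0, 3],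
    [1, 4, 0, 3, 4],
    [4, 0, 3, 4],
    [2, 4, 0, 3, 4],
    [3, 4, 0, 1, 3],
    [0, 4, 0, 1, 3],
    [0, 4, 0, 3],
    [0, 2, 4, 0, 3],
    [0, 1, 4, 0, 3],
    [1, 4, 0, 3],
    [2, 4, 0, 3],
    [4, 0, 3],
    [4, 0, 1, 3],
    [3, 1, 4, 0, 3],
    [0, 2, 4, 0, 3, 4],
    [0, 4, 0, 3, 4],
    [0, 1, 4, 0, 3, 4],
    [0, 3, 4, 0, 3],
    [4, 0, 3, 4, 0],
    [0, 3, 4, 0, 3, 4],
    [0, 2, 3, 4, 0, 3]]

/-- Paths from the two representatives to the involutions. -/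
def conjTab : List (Nat × Nat × List Nat) := [
    (1, 1, []),
    (4, 1, [1]),
    (5, 5, []),
    (10, 5, [3, 40, 6]),
    (11, 5, [2, 136, 5]),
    (14, 5, [2, 200, 5]),
    (15, 5, [0, 1, 0]),
    (16, 1, [5]),
    (17, 5, [2]),
    (20, 5, [2, 1]),
    (21, 1, [1, 5]),
    (26, 5, [2, 136]),
    (27, 1, [5, 136]),
    (30, 1, [5, 200]),
    (31, 5, [2, 200]),
    (64, 1, [6]),
    (65, 5, [3]),
    (68, 5, [3, 1]),
    (69, 1, [1, 6]),
    (74, 1, [6, 40]),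
    (75, 5, [3, 40]),
    (78, 5, [3, 56]),
    (79, 1, [6, 56]),
    (128, 1, [6, 0]),
    (129, 5, [3, 0]),
    (132, 5, [0, 3, 1]),
    (133, 5, [0, 1, 3, 0, 56]),
    (138, 5, [3, 0, 24]),
    (139, 1, [6, 0, 24]),
    (142, 5, [0, 1, 3, 0, 40]),
    (143, 5, [0, 3, 1, 24]),
    (192, 1, [1, 0, 3]),
    (193, 5, [0, 3]),
    (196, 5, [3, 0, 1]),
    (197, 5, [0, 3, 1, 0, 56]),
    (202, 5, [3, 0, 1, 24]),
    (203, 5, [0, 3, 1, 0, 40]),
    (206, 1, [1, 0, 3, 24]),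
    (207, 5, [0, 3, 24]),
    (256, 1, [5, 6, 5, 136]),
    (257, 1, [5, 6, 5, 6]),
    (260, 1, [5, 6, 5, 144]),
    (261, 1, [5, 6, 5, 146]),
    (272, 1, [6, 5, 6]),
    (273, 1, [5, 6, 5, 170]),
    (276, 1, [5, 6, 5, 176]),
    (277, 1, [1, 6, 5, 6]),
    (320, 1, [5, 6, 5]),
    (321, 1, [5, 6, 5, 10]),
    (324, 1, [5, 6, 5, 16]),
    (325, 1, [1, 5, 6, 5]),
    (346, 1, [5, 6, 5, 50]),
    (347, 1, [5, 6, 5, 48]),
    (350, 1, [5, 6, 5, 42]),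
    (351, 1, [5, 6, 5, 40]),
    (512, 1, [6, 5]),
    (517, 1, [1, 6, 5]),
    (522, 1, [6, 5, 10]),
    (527, 1, [6, 5, 11]),
    (528, 5, [3, 5]),
    (533, 5, [3, 1, 5]),
    (538, 5, [3, 5, 10]),
    (543, 5, [3, 5, 11]),
    (576, 1, [6, 5, 136]),
    (581, 1, [6, 5, 137]),
    (586, 1, [6, 5, 138]),
    (591, 1, [6, 5, 139]),
    (593, 5, [3, 5, 138]),
    (596, 5, [3, 5, 139]),
    (603, 5, [3, 5, 136]),
    (606, 5, [3, 5, 137]),
    (768, 1, [5, 6]),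
    (773, 1, [1, 5, 6]),
    (779, 1, [5, 6, 11]),
    (782, 1, [5, 6, 10]),
    (784, 1, [5, 6, 40]),
    (789, 1, [5, 6, 41]),
    (795, 1, [5, 6, 43]),
    (798, 1, [5, 6, 42]),
    (832, 5, [2, 6]),
    (837, 5, [2, 1, 6]),
    (843, 5, [2, 6, 11]),
    (846, 5, [2, 6, 10]),
    (849, 5, [2, 6, 42]),
    (852, 5, [2, 6, 43]),
    (858, 5, [2, 6, 41]),
    (863, 5, [2, 6, 40]),
    (896, 5, [0, 1, 2, 7]),
    (901, 5, [0, 1, 2, 7, 9]),
    (907, 5, [0, 1, 2, 7, 11]),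
    (910, 5, [0, 1, 2, 7, 10]),
    (960, 5, [0, 1, 2, 7, 1]),
    (965, 5, [0, 1, 2, 7, 1, 9]),
    (971, 5, [0, 1, 2, 7, 1, 11]),
    (974, 5, [0, 1, 2, 7, 1, 10])]

end CfsgLib.StdHe
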