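import Cfsg.Agent.Lib.StdHe.SwModel
import Cfsg.Agent.Lib.StdHe.CzData
import Cfsg.Agent.Lib.SmallSimple.Order168Model

/-!
Codes for the Sylow subgroup extended by the two outer involutions: `x + 256 o` stands for `τ x · p^(o % 2) · h^(o / 2)`.
-/

set_option autoImplicit false
set_option maxRecDepth 100000
set_option synthInstance.maxSize 4096

namespace CfsgLib.StdHe

/-- The action of the field automorphism. -/
def pm (x : ℕ) : ℕ := aMap false true 1 1 x

/-- The action of an outer part. -/
def actS (o x : ℕ) : ℕ :=
  if Nat.beq (o % 2) 1 then (if Nat.beq (o / 2) 1 then hm (pm x) else pm x)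
  else (if Nat.beq (o / 2) 1 then hm x else x % 256)

/-- The code of a pair. -/
def scode (x o : ℕ) : ℕ := x % 256 + 256 * o

/-- The product of codes. -/
def smul (n m : ℕ) : ℕ :=
  scode (tmul (n % 256) (actS (n / 256) (m % 256))) ((n / 256) ^^^ (m / 256))

/-- The inverse of a code. -/
def sinv (n : ℕ) : ℕ := scode (actS (n / 256) (tinv (n % 256))) (n / 256)

/-- A conjugate. -/
def scj (g n : ℕ) : ℕ := smul (smul g n) (sinv g)

/-- The value of a word in the given elements. -/
def sev (img : List ℕ) : List ℕ → ℕ
  | [] => 0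
  | i :: w => smul (img.getD i 0) (sev img w)

/-- The image of an element of the normal subgroup under a map given on the generators. -/
def imgR (img : List ℕ) (n : ℕ) : ℕ :=
  match (List.zip listR wordsR).find? fun e => Nat.beq e.1 n with
  | some e => sev img e.2
  | none => n

/-- The first monomial map. -/
def mI (n : ℕ) : ℕ := imgR imgM n

/-- The second monomial map. -/
def m₂I (n : ℕ) : ℕ := imgR imgM₂ n

/-- Membership in a list. -/
def inLst (l : List ℕ) (n : ℕ) : Bool := l.any fun a => Nat.beq a n

theorem inLst_iff {l : List ℕ} {n : ℕ} : inLst l n = true ↔ n ∈ l := by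
  rw [inLst, List.any_eq_true]
  exact ⟨fun ⟨a, ha, e⟩ => Nat.eq_of_beq_eq_true e ▸ ha, fun h => ⟨n, h, Nat.beq_refl n⟩⟩

theorem pm_lt (x : ℕ) : pm x < 256 := aMap_lt _ _ (by norm_num) (by norm_num) x

theorem pm_hom (x y : ℕ) : pm (tmul x y) = tmul (pm x) (pm y) := aMap_hom _ _ (by norm_num) (by norm_num) x y

theorem actS_lt (o x : ℕ) : actS o x < 256 := by
  unfold actS
  split_ifs
  exacts [hm_lt _, pm_lt _, hm_lt _, Nat.mod_lt _ (by norm_num)]

theorem outer_facts : (∀ o < 4, ∀ o' < 4, o ^^^ o' < 4 ∧ (o ^^^ o') % 2 = (o % 2 + o' % 2) % 2 ∧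
      (o ^^^ o') / 2 = (o / 2 + o' / 2) % 2) ∧
    (∀ x < 256, hm (pm x) = pm (hm x) ∧ pm (pm x) = x) := by
  decide +kernel

theorem scode_parts {x o : ℕ} (hx : x < 256) (ho : o < 4) :
    scode x o % 256 = x ∧ scode x o / 256 = o ∧ scode x o < 1024 := by
  unfold scode; omega

theorem smul_lt {n m : ℕ} (hn : n < 1024) (hm : m < 1024) : smul n m < 1024 :=
  (scode_parts (tmul_lt _ _) ((outer_facts.1 _ (by omega) _ (by omega)).1)).2.2

theorem sinv_lt {n : ℕ} (hn : n < 1024) : sinv n < 1024 := (scode_parts (actS_lt _ _) (by omega)).2.2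

theorem sinv_spec : ∀ n < 1024, smul n (sinv n) = 0 := by decide +kernel

theorem scj_lt {g n : ℕ} (hg : g < 1024) (hn : n < 1024) : scj g n < 1024 :=
  smul_lt (smul_lt hg hn) (sinv_lt hg)

/-- The lists consist of codes and are closed. -/
def czListsOK : Bool :=
  (listR ++ coset128).all (fun n => Nat.blt n 1024) &&
    Nat.beq listR.length 128 && Nat.beq listA.length 16 && Nat.beq listB.length 16 &&
    (List.zip listR wordsR).all (fun e => Nat.beq (sev gensR e.2) e.1 && e.2.all fun i => Nat.blt i 7) &&
    Nat.beq wordsR.length 128 && gensR.all (fun g => inLst listR g) &&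
    imgM.all (fun g => inLst listR g) && imgM₂.all (fun g => inLst listR g) &&
    listA.all (fun a => inLst listR a && listA.all fun b => inLst listA (smul a b)) &&
    listB.all (fun a => inLst listR a && listB.all fun b => inLst listB (smul a b)) &&
    listA.all (fun a => inLst listA (sinv a) && inLst listA (mI a) && inLst listA (m₂I a) && Nat.beq (smul a a) 0 &&
      [32, 128, 2].all fun g => inLst listA (scj g a)) &&
    listB.all (fun a => inLst listB (sinv a) && inLst listB (mI a) && inLst listB (m₂I a) && Nat.beq (smul a a) 0 &&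
      [32, 128, 2].all fun g => inLst listB (scj g a))

theorem lists_ok : czListsOK = true := by decide +kernel

/-- The normal subgroup is closed. -/
def closedR : Bool := listR.all fun a => listR.all fun b => inLst listR (smul a b)

theorem closed_R : closedR = true := by decide +kernel

end CfsgLib.StdHe
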