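import Cfsg.Agent.Lib.StdHe.CzClass

/-!
The two kinds form single classes.
-/

set_option autoImplicit false
set_option maxRecDepth 100000
set_option synthInstance.maxSize 4096
set_option linter.style.haveILetI false
set_option linter.unusedSectionVars false

namespace CfsgLib.StdHe

open Subgroup CfsgLib.Order168Model CfsgLib.HeldRecog CfsgLib.HeCent

universe u

attribute [local irreducible] rep Zh wEl

namespace Rel

variable {M : Type u} [Group M] {W : Rel M} (hfix : W.Fix) {T : M → Prop} (hT : W.Sep T)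

include hfix

theorem finite_HM : Finite W.HM := by
  haveI hR : Finite W.F.ker := Nat.finite_of_card_ne_zero (by
    rw [show W.F.ker = (W.shape hfix).R from rfl, (W.shape hfix).card_R]; norm_num)
  exact Finite.of_injective (fun μ : W.HM => (W.F μ, (⟨(Function.surjInv W.F_surj (W.F μ))⁻¹ * μ, by
    rw [MonoidHom.mem_ker, map_mul, map_inv, Function.surjInv_eq W.F_surj, inv_mul_cancel]⟩ : W.F.ker)))
    fun μ ν e => by
      obtain ⟨e1, e2⟩ := Prod.ext_iff.1 e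
      have e2' := congrArg Subtype.val e2
      dsimp only at e1 e2'
      rw [e1] at e2'
      exact mul_left_cancel e2'

theorem el_invList {n : ℕ} (hn : n ∈ invList) :
    W.el n ∈ W.HM ∧ W.el n * W.el n = 1 ∧ W.el n ≠ 1 := by
  have hlt := nodup_inv.2 n hn
  simp only [invList, List.mem_filter, Bool.and_eq_true, Bool.not_eq_true', ← Bool.not_eq_true, Nat.beq_eq] at hn
  obtain ⟨hm, h2, h0⟩ := hn
  refine ⟨?_, by rw [W.el_mul hlt hlt, h2, W.el_zero], fun e => h0 (W.el_eq_one hlt e)⟩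
  rcases List.mem_append.1 hm with hm | hm
  · exact W.el_mem_HM (List.mem_append_left _ hm)
  · have key : coset128.all (fun n => inLst listR (smul (sinv 128) n) && Nat.beq (smul 128 (smul (sinv 128) n)) n) = true := by
      decide +kernel
    have h := List.all_eq_true.1 key n hm
    rw [Bool.and_eq_true, inLst_iff, Nat.beq_eq] at h
    rw [← h.2, ← W.el_mul (by norm_num) (R_lt h.1)]
    exact mul_mem (W.el_mem_HM (by simp)) (W.el_mem_HM (List.mem_append_left _ h.1))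

/-- An involution of the group is conjugate to one in the two cosets. -/
theorem exists_invList (μ : W.HM) (h2 : μ * μ = 1) (h1 : μ ≠ 1) :
    (W.F μ = 1 ∧ ∃ n ∈ invList, n ∈ listR ∧ W.el n = (μ : M)) ∨
      (W.F μ ^ 2 = 1 ∧ W.F μ ≠ 1 ∧ ∃ c : W.HM, ∃ n ∈ invList, n ∈ coset128 ∧ W.el n = ((c * μ * c⁻¹ : W.HM) : M)) := by
  have inL : ∀ {n : ℕ} (ν : W.HM), ν * ν = 1 → ν ≠ 1 → n ∈ listR ++ coset128 → W.el n = (ν : M) → n ∈ invList := by
    intro n ν hν2 hν1 hn e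
    have hlt : n < 1024 := list_facts.1 n hn
    simp only [invList, List.mem_filter, Bool.and_eq_true, Bool.not_eq_true', ← Bool.not_eq_true, Nat.beq_eq]
    refine ⟨hn, W.el_eq_one (smul_lt hlt hlt) ?_, fun h0 => hν1 (Subtype.ext ?_)⟩
    · rw [← W.el_mul hlt hlt, e]; exact congrArg Subtype.val hν2
    · rw [← e, h0, W.el_zero]; rfl
  by_cases hF : W.F μ = 1
  · obtain ⟨n, hn, e⟩ := W.ker_F hfix hF
    exact .inl ⟨hF, n, inL μ h2 h1 (List.mem_append_left _ hn) e, hn, e⟩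
  · have hF2 : W.F μ ^ 2 = 1 := by rw [sq, ← map_mul, h2, map_one]
    obtain ⟨c₀, hc₀⟩ := conj_two _ hF2 hF
    obtain ⟨c, rfl⟩ := W.F_surj c₀
    refine .inr ⟨hF2, hF, c, ?_⟩
    have h128 : W.el 128 ∈ W.HM := W.el_mem_HM (by simp)
    have hF128 : W.F ⟨_, h128⟩ = mkT 275 := by
      rw [W.F_eq (g := 275) (by norm_num) (by decide +kernel) (W.genF.1 (128, 275) (by decide))]
      exact Subtype.ext (Fin.ext (by decide +kernel))
    obtain ⟨r, hr, e⟩ := W.ker_F hfix (μ := (⟨_, h128⟩ : W.HM)⁻¹ * (c * μ * c⁻¹)) (by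
      rw [map_mul, map_mul, map_mul, map_inv, map_inv, hF128, hc₀, inv_mul_cancel])
    have e' : W.el (smul 128 r) = ((c * μ * c⁻¹ : W.HM) : M) := by
      rw [← W.el_mul (by norm_num) (R_lt hr), e, Subgroup.coe_mul, Subgroup.coe_inv, mul_inv_cancel_left]
    have h := tab_ok
    simp only [tabOK, Bool.and_eq_true, List.all_eq_true, inLst_iff] at h
    have hmem : smul 128 r ∈ coset128 := h.1.1.1.1.1.1.1.1.1.2 r hr
    refine ⟨_, inL _ ?_ (fun e1 => h1 ?_) (List.mem_append_right _ hmem) e', hmem, e'⟩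
    · rw [show c * μ * c⁻¹ * (c * μ * c⁻¹) = c * (μ * μ) * c⁻¹ by group, h2]; group
    · rw [show μ = c⁻¹ * (c * μ * c⁻¹) * c by group, e1]; group

include hT

theorem PP_conj (c μ : W.HM) :
    (W.PP T ((c * μ * c⁻¹ : W.HM) : M) ↔ W.PP T (μ : M)) ∧ (W.QQ T ((c * μ * c⁻¹ : W.HM) : M) ↔ W.QQ T (μ : M)) := by
  have hc5 : (c : M)⁻¹ * W.τ 5 = W.τ 5 * (c : M)⁻¹ :=
    (show Commute (c : M) (W.τ 5) from (W.mem_HM.1 c.2).1).inv_left.eq
  have key : ∀ x : M, T ((c : M) * x * (c : M)⁻¹) ↔ T x := fun x =>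
    ⟨fun h => by simpa [mul_assoc] using hT.conj (c : M)⁻¹ _ h, hT.conj _ _⟩
  have e : ((c * μ * c⁻¹ : W.HM) : M) * W.τ 5 = (c : M) * ((μ : M) * W.τ 5) * (c : M)⁻¹ := by
    push_cast
    rw [mul_assoc ((c : M) * μ), hc5]
    simp only [mul_assoc]
  have e' : ((c * μ * c⁻¹ : W.HM) : M) = (c : M) * (μ : M) * (c : M)⁻¹ := rfl
  unfold PP QQ
  rw [e, e', key, key]
  exact ⟨Iff.rfl, Iff.rfl⟩

theorem kinds_place {μ : W.HM} (h2 : μ * μ = 1) (h1 : μ ≠ 1) :
    (W.PP T (μ : M) → ∃ n ∈ invList.filter isPc, W.el n = (μ : M)) ∧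
      (W.QQ T (μ : M) → W.F μ ^ 2 = 1 ∧ W.F μ ≠ 1 ∧
        ∃ c : W.HM, ∃ n ∈ invList.filter isQc, W.el n = ((c * μ * c⁻¹ : W.HM) : M)) := by
  have h := tab_ok
  simp only [tabOK, Bool.and_eq_true, List.all_eq_true, Bool.or_eq_true, Bool.not_eq_true', inLst_iff] at h
  have hP := h.1.1.1.1.1.1.2
  have hQ := h.1.1.1.1.1.2
  have hdis := h.2
  rcases exists_invList hfix μ h2 h1 with ⟨-, n, hn, hR, e⟩ | ⟨hF2, hF, c, n, hn, hC, e⟩
  · obtain ⟨k1, k2⟩ := hT.kinds hn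
    rw [← e]
    refine ⟨fun hP' => ⟨n, List.mem_filter.2 ⟨hn, k1.1 hP'⟩, rfl⟩, fun hQ' => ?_⟩
    exfalso
    rcases hQ n hn with hq | hq
    · rw [k2.1 hQ'] at hq; exact Bool.noConfusion hq
    · exact absurd (inLst_iff.2 hR) (by rw [hdis n hq]; exact Bool.false_ne_true)
  · obtain ⟨k1, k2⟩ := hT.kinds hn
    obtain ⟨c1, c2⟩ := PP_conj hfix hT c μ
    rw [← e] at c1 c2
    refine ⟨fun hP' => ?_, fun hQ' => ⟨hF2, hF, c, n, List.mem_filter.2 ⟨hn, k2.1 (c2.2 hQ')⟩, e⟩⟩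
    exfalso
    rcases hP n hn with hp | hp
    · rw [k1.1 (c1.2 hP')] at hp; exact Bool.noConfusion hp
    · exact absurd (inLst_iff.2 hp) (by rw [hdis n hC]; exact Bool.false_ne_true)

theorem card_PP : Nat.card {μ : W.HM // μ * μ = 1 ∧ μ ≠ 1 ∧ W.PP T (μ : M)} = 42 := by
  classical
  have h := tab_ok
  simp only [tabOK, Bool.and_eq_true, Nat.beq_eq] at h
  rw [← h.1.1.1.1.2]
  let f : {n // n ∈ invList.filter isPc} → {μ : W.HM // μ * μ = 1 ∧ μ ≠ 1 ∧ W.PP T (μ : M)} := fun n =>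
    ⟨⟨W.el n.1, (el_invList hfix (List.mem_filter.1 n.2).1).1⟩, Subtype.ext (el_invList hfix (List.mem_filter.1 n.2).1).2.1,
      fun e => (el_invList hfix (List.mem_filter.1 n.2).1).2.2 (congrArg Subtype.val e),
      (hT.kinds (List.mem_filter.1 n.2).1).1.2 (List.mem_filter.1 n.2).2⟩
  have hf : Function.Bijective f := by
    refine ⟨fun a b e => Subtype.ext (W.el_inj (nodup_inv.2 _ (List.mem_filter.1 a.2).1)
      (nodup_inv.2 _ (List.mem_filter.1 b.2).1)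
      (congrArg (fun x : {μ : W.HM // μ * μ = 1 ∧ μ ≠ 1 ∧ W.PP T (μ : M)} => ((x : W.HM) : M)) e)), fun μ => ?_⟩
    obtain ⟨n, hn, e⟩ := (kinds_place hfix hT μ.2.1 μ.2.2.1).1 μ.2.2.2
    exact ⟨⟨n, hn⟩, Subtype.ext (Subtype.ext e)⟩
  rw [← Nat.card_congr (Equiv.ofBijective f hf), Nat.card_eq_fintype_card,
    Fintype.card_of_subtype (invList.filter isPc).toFinset (fun x => List.mem_toFinset),
    List.toFinset_card_of_nodup (nodup_inv.1.filter _)]

theorem card_QQ : Nat.card {μ : W.HM // μ * μ = 1 ∧ μ ≠ 1 ∧ W.QQ T (μ : M)} = 84 := by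
  classical
  haveI := finite_HM hfix
  let Qs := {μ : W.HM // μ * μ = 1 ∧ μ ≠ 1 ∧ W.QQ T (μ : M)}
  let Is := {g : CfsgLib.Order168Model.T // g ^ 2 = 1 ∧ g ≠ 1}
  let f : Qs → Is := fun μ => ⟨W.F μ.1, ((kinds_place hfix hT μ.2.1 μ.2.2.1).2 μ.2.2.2).1,
    ((kinds_place hfix hT μ.2.1 μ.2.2.1).2 μ.2.2.2).2.1⟩
  have hfib : ∀ g : Is, Nat.card {μ : Qs // f μ = g} = Nat.card {μ : Qs // W.F μ.1 = mkT 275} := by
    rintro ⟨g, hg2, hg1⟩
    obtain ⟨c₀, hc₀⟩ := conj_two g hg2 hg1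
    obtain ⟨c, rfl⟩ := W.F_surj c₀
    have mk : ∀ (d : W.HM) (μ : Qs), d * μ.1 * d⁻¹ * (d * μ.1 * d⁻¹) = 1 ∧ d * μ.1 * d⁻¹ ≠ 1 ∧
        W.QQ T ((d * μ.1 * d⁻¹ : W.HM) : M) := fun d μ => ⟨by
      rw [show d * μ.1 * d⁻¹ * (d * μ.1 * d⁻¹) = d * (μ.1 * μ.1) * d⁻¹ by group, μ.2.1]; group,
      fun e => μ.2.2.1 (by rw [show μ.1 = d⁻¹ * (d * μ.1 * d⁻¹) * d by group, e]; group),
      (PP_conj hfix hT d μ.1).2.2 μ.2.2.2⟩
    exact Nat.card_congr
      { toFun := fun μ => ⟨⟨c * μ.1.1 * c⁻¹, mk c μ.1⟩, by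
          show W.F (c * μ.1.1 * c⁻¹) = mkT 275
          rw [map_mul, map_mul, map_inv, show W.F μ.1.1 = g from congrArg Subtype.val μ.2, hc₀]⟩
        invFun := fun μ => ⟨⟨c⁻¹ * μ.1.1 * c⁻¹⁻¹, mk c⁻¹ μ.1⟩, Subtype.ext (by
          show W.F (c⁻¹ * μ.1.1 * c⁻¹⁻¹) = g
          rw [map_mul, map_mul, map_inv, map_inv, map_inv, μ.2, ← hc₀]; group)⟩
        left_inv := fun μ => Subtype.ext (Subtype.ext (by dsimp only; group))
        right_inv := fun μ => Subtype.ext (Subtype.ext (by dsimp only; group)) }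
  have hfib128 : Nat.card {μ : Qs // W.F μ.1 = mkT 275} = 4 := by
    have h := tab_ok
    simp only [tabOK, Bool.and_eq_true, Nat.beq_eq] at h
    rw [← h.1.1.1.2]
    have hF : ∀ n ∈ invList.filter isQc, ∀ hm : W.el n ∈ W.HM, W.F ⟨_, hm⟩ = mkT 275 := by
      intro n hn hm
      have key : (invList.filter isQc).all (fun n => inLst listR (smul (sinv 128) n) &&
          Nat.beq (smul 128 (smul (sinv 128) n)) n) = true := by decide +kernel
      have hk := List.all_eq_true.1 key n hn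
      rw [Bool.and_eq_true, inLst_iff, Nat.beq_eq] at hk
      have h128 : W.el 128 ∈ W.HM := W.el_mem_HM (by simp)
      have hr : W.el (smul (sinv 128) n) ∈ W.HM := W.el_mem_HM (List.mem_append_left _ hk.1)
      rw [show (⟨W.el n, hm⟩ : W.HM) = ⟨_, h128⟩ * ⟨_, hr⟩ from Subtype.ext (by
        show W.el n = W.el 128 * W.el (smul (sinv 128) n)
        rw [W.el_mul (by norm_num) (R_lt hk.1), hk.2]), map_mul,
        (W.mem_kerF hfix ⟨_, hr⟩).2 ⟨_, hk.1, rfl⟩, mul_one,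
        W.F_eq (g := 275) (by norm_num) (by decide +kernel) (W.genF.1 (128, 275) (by decide))]
      exact Subtype.ext (Fin.ext (by decide +kernel))
    let e : {n // n ∈ invList.filter isQc} → {μ : Qs // W.F μ.1 = mkT 275} := fun n =>
      ⟨⟨⟨W.el n.1, (el_invList hfix (List.mem_filter.1 n.2).1).1⟩, Subtype.ext (el_invList hfix (List.mem_filter.1 n.2).1).2.1,
        fun e => (el_invList hfix (List.mem_filter.1 n.2).1).2.2 (congrArg Subtype.val e),
        (hT.kinds (List.mem_filter.1 n.2).1).2.2 (List.mem_filter.1 n.2).2⟩,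
        hF n.1 n.2 (el_invList hfix (List.mem_filter.1 n.2).1).1⟩
    have he : Function.Bijective e := by
      refine ⟨fun a b e => Subtype.ext (W.el_inj (nodup_inv.2 _ (List.mem_filter.1 a.2).1)
        (nodup_inv.2 _ (List.mem_filter.1 b.2).1)
        (congrArg (fun x : {μ : Qs // W.F μ.1 = mkT 275} => ((x.1.1 : W.HM) : M)) e)), fun ⟨⟨μ, hμ⟩, hF'⟩ => ?_⟩
      obtain ⟨r, hr, e⟩ := W.ker_F hfix (μ := (⟨W.el 128, W.el_mem_HM (by simp)⟩ : W.HM)⁻¹ * μ) (by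
        rw [map_mul, map_inv, hF', W.F_eq (g := 275) (by norm_num) (by decide +kernel) (W.genF.1 (128, 275) (by decide)),
          inv_mul_eq_one]
        exact Subtype.ext (Fin.ext (by decide +kernel)))
      have e' : W.el (smul 128 r) = (μ : M) := by
        rw [← W.el_mul (by norm_num) (R_lt hr), e, Subgroup.coe_mul, Subgroup.coe_inv, mul_inv_cancel_left]
      have h' := tab_ok
      simp only [tabOK, Bool.and_eq_true, List.all_eq_true, inLst_iff] at h'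
      have hmem : smul 128 r ∈ coset128 := h'.1.1.1.1.1.1.1.1.1.2 r hr
      have hlt : smul 128 r < 1024 := list_facts.1 _ (List.mem_append_right _ hmem)
      have hinv : smul 128 r ∈ invList := by
        simp only [invList, List.mem_filter, Bool.and_eq_true, Bool.not_eq_true', ← Bool.not_eq_true, Nat.beq_eq]
        refine ⟨List.mem_append_right _ hmem, W.el_eq_one (smul_lt hlt hlt) ?_, fun h0 => hμ.2.1 (Subtype.ext ?_)⟩
        · rw [← W.el_mul hlt hlt, e']; exact congrArg Subtype.val hμ.1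
        · rw [← e', h0, W.el_zero]; rfl
      refine ⟨⟨_, List.mem_filter.2 ⟨hinv, (hT.kinds hinv).2.1 ?_⟩⟩, Subtype.ext (Subtype.ext (Subtype.ext e'))⟩
      rw [e']; exact hμ.2.2
    rw [← Nat.card_congr (Equiv.ofBijective e he), Nat.card_eq_fintype_card,
      Fintype.card_of_subtype (invList.filter isQc).toFinset (fun x => List.mem_toFinset),
      List.toFinset_card_of_nodup (nodup_inv.1.filter _)]
  have h21 : Nat.card Is = 21 := Nat.card_eq_fintype_card.trans counts.1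
  haveI : Fintype Is := Fintype.ofFinite Is
  rw [← Nat.card_congr (Equiv.sigmaFiberEquiv f), Nat.card_sigma, Finset.sum_congr rfl fun g _ => hfib g,
    Finset.sum_const, hfib128, Finset.card_univ, ← Nat.card_eq_fintype_card, smul_eq_mul, h21]

/-- The two kinds are classes of the model. -/
theorem exists_iso : ∃ e : W.HM ≃* HS, (∀ h : W.el 5 ∈ W.HM, e ⟨_, h⟩ = Zh) ∧ ∃ k, (k = 1 ∨ k = 4) ∧
    ∀ μ : W.HM, μ * μ = 1 → μ ≠ 1 → (W.PP T (μ : M) ↔ InCls 0 (e μ)) ∧ (W.QQ T (μ : M) ↔ InCls k (e μ)) := by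
  haveI := finite_HM hfix
  obtain ⟨e⟩ := (W.shape hfix).equiv sTr mat_transvection
  have hz : ∀ h : W.el 5 ∈ W.HM, e ⟨_, h⟩ = Zh := fun h => by
    refine eq_Zh_of_central (fun y => ?_) fun e1 => ?_
    · obtain ⟨μ, rfl⟩ := e.surjective y
      rw [← map_mul, ← map_mul]
      exact congrArg e ((W.shape hfix).z_comm μ).symm
    · exact (W.shape hfix).z_ne (e.injective (e1.trans (map_one e).symm))
  refine ⟨e, hz, ?_⟩
  have hX : ∀ (Y : M → Prop), (∀ c μ : W.HM, Y ((c * μ * c⁻¹ : W.HM) : M) ↔ Y (μ : M)) →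
      let X : HS → Prop := fun y => e.symm y * e.symm y = 1 ∧ e.symm y ≠ 1 ∧ Y (e.symm y : M)
      (∀ c y : HS, X y → X (c * y * c⁻¹)) ∧ (∀ y, X y → y * y = 1 ∧ y ≠ 1) ∧
        Nat.card {y : HS // X y} = Nat.card {μ : W.HM // μ * μ = 1 ∧ μ ≠ 1 ∧ Y (μ : M)} := by
    intro Y hY
    refine ⟨fun c y ⟨h1, h2, h3⟩ => ?_, fun y ⟨h1, h2, _⟩ => ⟨?_, fun h => h2 (by rw [h, map_one])⟩, ?_⟩
    · beta_reduce
      rw [map_mul, map_mul, map_inv]
      exact ⟨by rw [show e.symm c * e.symm y * (e.symm c)⁻¹ * (e.symm c * e.symm y * (e.symm c)⁻¹) =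
        e.symm c * (e.symm y * e.symm y) * (e.symm c)⁻¹ by group, h1]; group,
        fun h => h2 (by rw [show e.symm y = (e.symm c)⁻¹ * (e.symm c * e.symm y * (e.symm c)⁻¹) * e.symm c by group, h]; group),
        (hY _ _).2 h3⟩
    · have := congrArg e h1
      rwa [map_mul, map_one, MulEquiv.apply_symm_apply] at this
    · exact Nat.card_congr (Equiv.subtypeEquiv e.symm.toEquiv fun y => Iff.rfl)
  obtain ⟨p1, p2, p3⟩ := hX (W.PP T) fun c μ => (PP_conj hfix hT c μ).1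
  obtain ⟨q1, q2, q3⟩ := hX (W.QQ T) fun c μ => (PP_conj hfix hT c μ).2
  have hz5 : ∀ (y : HS), y = Zh → (e.symm y : M) = W.τ 5 := fun y hy => by
    have h5 : W.el 5 ∈ W.HM := (W.shape hfix).z.2
    rw [hy, ← hz h5, MulEquiv.symm_apply_apply]
    exact W.el_τ (by norm_num)
  have hP := eq_cls_zero _ p1 p2 (fun ⟨_, _, h⟩ => hT.five (hz5 _ rfl ▸ h.1)) (p3.trans (card_PP hfix hT))
  obtain ⟨k, hk, hQ⟩ := eq_cls_Q _ q1 q2 (fun ⟨_, _, h⟩ => hT.five (hz5 _ rfl ▸ h.1)) (q3.trans (card_QQ hfix hT))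
  refine ⟨k, hk, fun μ h2 h1 => ⟨?_, ?_⟩⟩
  · rw [← hP, MulEquiv.symm_apply_apply]
    exact ⟨fun h => ⟨h2, h1, h⟩, fun h => h.2.2⟩
  · rw [← hQ, MulEquiv.symm_apply_apply]
    exact ⟨fun h => ⟨h2, h1, h⟩, fun h => h.2.2⟩

end Rel

end CfsgLib.StdHe
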