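import Cfsg.Agent.Lib.StdHe.Rel

/-!
The group generated inside the centraliser of the involution: normalisers of the two elementary subgroups.
-/

set_option autoImplicit false
set_option maxRecDepth 100000
set_option synthInstance.maxSize 4096
set_option linter.style.haveILetI false

namespace CfsgLib.StdHe

open Subgroup

universe u

/-- The formula for the first monomial map. -/
def m₁x (x : ℕ) : ℕ := tW1 (hm (tmul (tmul 64 (tW1 x)) (tinv 64)))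

/-- The formula for the second monomial map. -/
def m₂x (x : ℕ) : ℕ := tW2 (hm (pm (tmul (tmul 16 (tW2 x)) (tinv 16))))

/-- The checks for the images of the generators. -/
def imgOK : Bool :=
  ([0, 1, 2, 3].all fun i => Nat.beq (cN (gensR.getD i 0)) 0 &&
    Nat.beq (cN (hm (tmul (tmul 64 (tW1 (gensR.getD i 0))) (tinv 64)))) 0 &&
    Nat.beq (m₁x (gensR.getD i 0)) (imgM.getD i 0)) &&
  ([0, 1, 2, 4].all fun i => Nat.beq (cL (gensR.getD i 0)) 0 &&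
    Nat.beq (cL (hm (pm (tmul (tmul 16 (tW2 (gensR.getD i 0))) (tinv 16))))) 0 &&
    Nat.beq (m₂x (gensR.getD i 0)) (imgM₂.getD i 0))

theorem img_ok : imgOK = true := by decide +kernel

theorem gens_values : gensR = [1, 4, 10, 16, 64, 256, 512] ∧ imgM.drop 4 = [512, 256, 64] ∧
    imgM₂.getD 3 0 = 768 ∧ imgM₂.getD 5 0 = 256 ∧ imgM₂.getD 6 0 = smul 16 256 ∧ smul 768 256 = 512 ∧
    mI 5 = 5 ∧ m₂I 5 = 5 ∧ hm 64 = 64 ∧ hm (pm 16) = 16 ∧ pm 16 = 16 ∧ pm 64 = 64 := by decide +kernel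

/-- The normal subgroup fixes the elementary subgroups and the involution. -/
def normOK : Bool :=
  (listR ++ [32, 128, 2]).all fun g => Nat.blt g 1024 && Nat.beq (scj g 5) 5 &&
    listA.all (fun a => inLst listA (scj g a)) && listB.all fun b => inLst listB (scj g b)

theorem norm_ok : normOK = true := by decide +kernel

theorem list_facts : (∀ n ∈ listR ++ coset128, n < 1024) ∧
    (∀ e ∈ List.zip listR wordsR, sev gensR e.2 = e.1 ∧ ∀ i ∈ e.2, i < 7) ∧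
    (∀ g ∈ gensR ++ imgM ++ imgM₂, g ∈ listR) ∧
    (∀ a ∈ listA, a ∈ listR ∧ (∀ b ∈ listA, smul a b ∈ listA) ∧ mI a ∈ listA ∧ m₂I a ∈ listA ∧ smul a a = 0) ∧
    (∀ a ∈ listB, a ∈ listR ∧ (∀ b ∈ listB, smul a b ∈ listB) ∧ mI a ∈ listB ∧ m₂I a ∈ listB ∧ smul a a = 0) ∧
    listR.length = 128 ∧ wordsR.length = 128 := by
  have h := lists_ok
  simp only [czListsOK, Bool.and_eq_true, List.all_eq_true, Nat.beq_eq, inLst_iff, blt_iff'] at h
  obtain ⟨⟨⟨⟨⟨⟨⟨⟨⟨⟨⟨⟨h1, h2⟩, -⟩, -⟩, h5⟩, h6⟩, h7⟩, h8⟩, h9⟩, hA⟩, hB⟩, hA'⟩, hB'⟩ := h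
  refine ⟨h1, h5, fun g hg => ?_, fun a ha => ⟨(hA a ha).1, (hA a ha).2, (hA' a ha).1.1.1.2, (hA' a ha).1.1.2, (hA' a ha).1.2⟩,
    fun a ha => ⟨(hB a ha).1, (hB a ha).2, (hB' a ha).1.1.1.2, (hB' a ha).1.1.2, (hB' a ha).1.2⟩, h2, h6⟩
  rcases List.mem_append.1 hg with hg | hg
  · rcases List.mem_append.1 hg with hg | hg
    exacts [h7 g hg, h8 g hg]
  · exact h9 g hg
where
  blt_iff' {a b : ℕ} : Nat.blt a b = true ↔ a < b := by simp [Nat.blt, Nat.ble_eq]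

namespace Rel

variable {M : Type u} [Group M] (W : Rel M)

theorem R_lt {n : ℕ} (hn : n ∈ listR) : n < 1024 := list_facts.1 n (List.mem_append_left _ hn)

theorem R_smul {n m : ℕ} (hn : n ∈ listR) (hm : m ∈ listR) : smul n m ∈ listR := by
  have h := closed_R
  simp only [closedR, List.all_eq_true, inLst_iff] at h
  exact h n hn m hm

/-- The value of a word. -/
def wval (img : List ℕ) : List ℕ → M
  | [] => 1
  | i :: w => W.el (img.getD i 0) * wval img w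

theorem el_sev {img : List ℕ} (h : ∀ g ∈ img, g ∈ listR) : ∀ w : List ℕ, (∀ i ∈ w, i < img.length) →
    sev img w < 1024 ∧ W.el (sev img w) = W.wval img w := by
  intro w
  induction w with
  | nil => exact fun _ => ⟨by norm_num [sev], W.el_zero⟩
  | cons i w ih =>
    intro hw
    obtain ⟨hlt, e⟩ := ih fun j hj => hw j (List.mem_cons_of_mem _ hj)
    have hi : img.getD i 0 < 1024 := R_lt (h _ (by
      rw [List.getD_eq_getElem _ _ (hw i List.mem_cons_self)]; exact List.getElem_mem _))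
    exact ⟨smul_lt hi hlt, by rw [sev, wval, ← W.el_mul hi hlt, e]⟩

theorem R_word {n : ℕ} (hn : n ∈ listR) :
    ∃ w : List ℕ, (∀ i ∈ w, i < 7) ∧ sev gensR w = n ∧ ∀ img, imgR img n = sev img w := by
  obtain ⟨e, he⟩ : ∃ e : ℕ × List ℕ, (List.zip listR wordsR).find? (fun e => Nat.beq e.1 n) = some e := by
    rw [← Option.isSome_iff_exists, List.find?_isSome]
    obtain ⟨i, hi, rfl⟩ := List.getElem_of_mem hn
    obtain ⟨-, -, -, -, -, l1, l2⟩ := list_facts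
    exact ⟨(listR[i], wordsR[i]'(by omega)), List.mem_iff_getElem.2 ⟨i, by simp [l1, l2] at hi ⊢; omega, by simp⟩,
      Nat.beq_refl _⟩
  obtain ⟨h1, h2⟩ := list_facts.2.1 e (List.mem_of_find?_eq_some he)
  have h3 : e.1 = n := Nat.eq_of_beq_eq_true (List.find?_some (p := fun e : ℕ × List ℕ => Nat.beq e.1 n) he)
  exact ⟨e.2, h2, h1.trans h3, fun img => by rw [imgR, he]⟩

/-- A map given on the generators. -/
theorem conj_R {μ : M} {img : List ℕ} (himg : ∀ g ∈ img, g ∈ listR) (hlen : img.length = 7)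
    (h : ∀ i < 7, μ * W.el (gensR.getD i 0) * μ⁻¹ = W.el (img.getD i 0)) {n : ℕ} (hn : n ∈ listR) :
    μ * W.el n * μ⁻¹ = W.el (imgR img n) := by
  obtain ⟨w, hw, e, e'⟩ := R_word hn
  rw [e' img, (W.el_sev himg w (fun i hi => hlen ▸ hw i hi)).2, ← e,
    (W.el_sev (fun g hg => list_facts.2.2.1 g (List.mem_append_left _ (List.mem_append_left _ hg))) w
    (fun i hi => by rw [gens_values.1]; exact hw i hi)).2]
  clear e e'
  induction w with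
  | nil => simp [wval]
  | cons i w ih =>
    rw [wval, wval, ← h i (hw i List.mem_cons_self), ← ih fun j hj => hw j (List.mem_cons_of_mem _ hj)]
    group

/-- The first monomial element of the centraliser. -/
def mu₁ : M := W.w₁ * W.h * W.τ 64 * W.w₁

/-- The second monomial element of the centraliser. -/
def mu₂ : M := W.w₂ * (W.h * W.p) * W.τ 16 * W.w₂

theorem w₁_inv : W.w₁⁻¹ = W.w₁ := inv_eq_of_mul_eq_one_right W.w₁_sq

theorem w₂_inv : W.w₂⁻¹ = W.w₂ := inv_eq_of_mul_eq_one_right W.w₂_sq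

theorem τ_conj {a x : ℕ} (ha : a < 256) : W.τ a * W.τ x * (W.τ a)⁻¹ = W.τ (tmul (tmul a x) (tinv a)) := by
  rw [inv_eq_of_mul_eq_one_right (show W.τ a * W.τ (tinv a) = 1 by rw [W.mul, (tmul_group a ha).2.2.2.1, W.τ_zero]),
    W.mul, W.mul]

theorem tW_lt (x : ℕ) : tW1 x < 256 ∧ tW2 x < 256 :=
  ⟨tc_lt (cA_lt x) (cL_lt x) (cB_lt x) (by norm_num), tc_lt (cA_lt x) (cN_lt x) (by norm_num) (cB_lt x)⟩

theorem mu₁_τ {x : ℕ} (hx : x < 256) (h1 : cN x = 0) (h2 : cN (hm (tmul (tmul 64 (tW1 x)) (tinv 64))) = 0) :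
    W.mu₁ * W.τ x * W.mu₁⁻¹ = W.τ (m₁x x) := by
  rw [mu₁, show W.w₁ * W.h * W.τ 64 * W.w₁ * W.τ x * (W.w₁ * W.h * W.τ 64 * W.w₁)⁻¹ =
    W.w₁ * (W.h * (W.τ 64 * (W.w₁ * W.τ x * W.w₁⁻¹) * (W.τ 64)⁻¹) * W.h⁻¹) * W.w₁⁻¹ by group,
    W.w₁_conj x hx h1, W.τ_conj (by norm_num), W.h_conj _ (tmul_lt _ _), W.w₁_conj _ (hm_lt _) h2, m₁x]

theorem mu₂_τ {x : ℕ} (hx : x < 256) (h1 : cL x = 0) (h2 : cL (hm (pm (tmul (tmul 16 (tW2 x)) (tinv 16)))) = 0) :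
    W.mu₂ * W.τ x * W.mu₂⁻¹ = W.τ (m₂x x) := by
  rw [mu₂, show W.w₂ * (W.h * W.p) * W.τ 16 * W.w₂ * W.τ x * (W.w₂ * (W.h * W.p) * W.τ 16 * W.w₂)⁻¹ =
    W.w₂ * (W.h * (W.p * (W.τ 16 * (W.w₂ * W.τ x * W.w₂⁻¹) * (W.τ 16)⁻¹) * W.p⁻¹) * W.h⁻¹) * W.w₂⁻¹ by group,
    W.w₂_conj x hx h1, W.τ_conj (by norm_num), W.p_conj _ (tmul_lt _ _), W.h_conj _ (pm_lt _),
    W.w₂_conj _ (hm_lt _) h2, m₂x]

theorem τ_sq_root : W.τ 64 * W.τ 64 = 1 ∧ W.τ 16 * W.τ 16 = 1 := by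
  constructor <;> rw [W.mul] <;> exact W.τ_zero

theorem h_τ64 : Commute W.h (W.τ 64) :=
  mul_inv_eq_iff_eq_mul.1 (by rw [W.h_conj 64 (by norm_num)]; exact congrArg W.τ (by decide))

theorem hp_τ16 : Commute (W.h * W.p) (W.τ 16) :=
  mul_inv_eq_iff_eq_mul.1 (by
    rw [show W.h * W.p * W.τ 16 * (W.h * W.p)⁻¹ = W.h * (W.p * W.τ 16 * W.p⁻¹) * W.h⁻¹ by group,
      W.p_conj 16 (by norm_num), W.h_conj _ (pm_lt _)]
    exact congrArg W.τ (by decide))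

theorem mu₁_facts : W.mu₁ * W.τ 64 * W.mu₁⁻¹ = W.h ∧ W.mu₁ * W.h * W.mu₁⁻¹ = W.τ 64 ∧ W.mu₁ * W.mu₁ = 1 :=
  braid_swap W.τ_sq_root.1 W.w₁_sq W.h_sq W.h_τ64.symm W.w₁_braid W.cube₁

theorem mu₂_facts : W.mu₂ * W.τ 16 * W.mu₂⁻¹ = W.h * W.p ∧ W.mu₂ * (W.h * W.p) * W.mu₂⁻¹ = W.τ 16 ∧
    W.mu₂ * W.mu₂ = 1 :=
  braid_swap W.τ_sq_root.2 W.w₂_sq (by rw [W.comm.symm.mul_mul_mul_comm, W.h_sq, W.p_sq, one_mul]) W.hp_τ16.symm
    W.w₂_braid (by rw [← mul_assoc]; exact W.cube₂)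

theorem mu_p : Commute W.mu₁ W.p ∧ Commute W.mu₂ W.p := by
  have h64 : Commute W.p (W.τ 64) := mul_inv_eq_iff_eq_mul.1 (by
    rw [W.p_conj 64 (by norm_num)]; exact congrArg W.τ (by decide))
  have h16 : Commute W.p (W.τ 16) := mul_inv_eq_iff_eq_mul.1 (by
    rw [W.p_conj 16 (by norm_num)]; exact congrArg W.τ (by decide))
  exact ⟨(((W.p_w₁.mul_right W.comm.symm).mul_right h64).mul_right W.p_w₁).symm,
    (((W.p_w₂.mul_right (W.comm.symm.mul_right (Commute.refl _))).mul_right h16).mul_right W.p_w₂).symm⟩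

theorem mu₁_R {n : ℕ} (hn : n ∈ listR) : W.mu₁ * W.el n * W.mu₁⁻¹ = W.el (mI n) := by
  have h := img_ok
  simp only [imgOK, Bool.and_eq_true, List.all_eq_true, Nat.beq_eq] at h
  obtain ⟨g1, g2, -⟩ := gens_values
  refine W.conj_R (fun g hg => list_facts.2.2.1 g (List.mem_append_left _ (List.mem_append_right _ hg))) rfl
    (fun i hi => ?_) hn
  by_cases h4 : i < 4
  · obtain ⟨⟨a, b⟩, c⟩ := h.1 i (by simp; omega)
    have hx : gensR.getD i 0 < 256 := by rw [g1]; interval_cases i <;> decide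
    rw [W.el_τ hx, W.mu₁_τ hx a b, c, W.el_τ (by rw [← c]; exact (tW_lt _).1)]
  · interval_cases i
    · rw [show gensR.getD 4 0 = 64 from rfl, show imgM.getD 4 0 = 512 from rfl, W.el_h, W.el_τ (by norm_num)]
      exact W.mu₁_facts.1
    · rw [show gensR.getD 5 0 = 256 from rfl, show imgM.getD 5 0 = 256 from rfl, W.el_p, W.mu_p.1.eq, mul_inv_cancel_right]
    · rw [show gensR.getD 6 0 = 512 from rfl, show imgM.getD 6 0 = 64 from rfl, W.el_h, W.el_τ (by norm_num)]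
      exact W.mu₁_facts.2.1

theorem mu₂_R {n : ℕ} (hn : n ∈ listR) : W.mu₂ * W.el n * W.mu₂⁻¹ = W.el (m₂I n) := by
  have h := img_ok
  simp only [imgOK, Bool.and_eq_true, List.all_eq_true, Nat.beq_eq] at h
  obtain ⟨g1, -, g3, g5, g6, g7, -⟩ := gens_values
  refine W.conj_R (fun g hg => list_facts.2.2.1 g (List.mem_append_right _ hg)) rfl (fun i hi => ?_) hn
  by_cases h4 : i = 0 ∨ i = 1 ∨ i = 2 ∨ i = 4
  · obtain ⟨⟨a, b⟩, c⟩ := h.2 i (by simpa using h4)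
    have hx : gensR.getD i 0 < 256 := by rw [g1]; rcases h4 with rfl | rfl | rfl | rfl <;> decide
    rw [W.el_τ hx, W.mu₂_τ hx a b, c, W.el_τ (by rw [← c]; exact (tW_lt _).2)]
  · have hp : W.mu₂ * W.p * W.mu₂⁻¹ = W.p := by rw [W.mu_p.2.eq, mul_inv_cancel_right]
    rcases (by omega : i = 3 ∨ i = 5 ∨ i = 6) with rfl | rfl | rfl
    · rw [show gensR.getD 3 0 = 16 from rfl, g3, W.el_hp, W.el_τ (by norm_num)]
      exact W.mu₂_facts.1
    · rw [show gensR.getD 5 0 = 256 from rfl, g5, W.el_p, hp]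
    · rw [show gensR.getD 6 0 = 512 from rfl, g6, ← g7, ← W.el_mul (by norm_num) (by norm_num),
        ← W.el_mul (by norm_num) (by norm_num), W.el_p, W.el_hp, W.el_τ (show 16 < 256 by norm_num),
        show W.mu₂ * (W.h * W.p * W.p) * W.mu₂⁻¹ = W.mu₂ * (W.h * W.p) * W.mu₂⁻¹ * (W.mu₂ * W.p * W.mu₂⁻¹) by group,
        W.mu₂_facts.2.1, hp]

theorem closed_list {l : List ℕ} (hR : ∀ a ∈ l, a ∈ listR) {a : ℕ} (ha : a ∈ l) : a < 1024 := R_lt (hR a ha)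

/-- The first elementary subgroup. -/
def sA : Subgroup M where
  carrier := {g | ∃ n ∈ listA, W.el n = g}
  one_mem' := ⟨0, by decide, W.el_zero⟩
  mul_mem' := by
    rintro _ _ ⟨a, ha, rfl⟩ ⟨b, hb, rfl⟩
    exact ⟨smul a b, ((list_facts.2.2.2.1 a ha).2.1 b hb),
      (W.el_mul (R_lt (list_facts.2.2.2.1 a ha).1) (R_lt (list_facts.2.2.2.1 b hb).1)).symm⟩
  inv_mem' := by
    rintro _ ⟨a, ha, rfl⟩
    obtain ⟨r, -, -, -, s⟩ := list_facts.2.2.2.1 a ha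
    exact ⟨a, ha, (inv_eq_of_mul_eq_one_right (by rw [W.el_mul (R_lt r) (R_lt r), s, W.el_zero])).symm⟩

/-- The second elementary subgroup. -/
def sB : Subgroup M where
  carrier := {g | ∃ n ∈ listB, W.el n = g}
  one_mem' := ⟨0, by decide, W.el_zero⟩
  mul_mem' := by
    rintro _ _ ⟨a, ha, rfl⟩ ⟨b, hb, rfl⟩
    exact ⟨smul a b, ((list_facts.2.2.2.2.1 a ha).2.1 b hb),
      (W.el_mul (R_lt (list_facts.2.2.2.2.1 a ha).1) (R_lt (list_facts.2.2.2.2.1 b hb).1)).symm⟩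
  inv_mem' := by
    rintro _ ⟨a, ha, rfl⟩
    obtain ⟨r, -, -, -, s⟩ := list_facts.2.2.2.2.1 a ha
    exact ⟨a, ha, (inv_eq_of_mul_eq_one_right (by rw [W.el_mul (R_lt r) (R_lt r), s, W.el_zero])).symm⟩

theorem mem_sA {g : M} : g ∈ W.sA ↔ ∃ n ∈ listA, W.el n = g := Iff.rfl

theorem mem_sB {g : M} : g ∈ W.sB ↔ ∃ n ∈ listB, W.el n = g := Iff.rfl

/-- The group. -/
def HM : Subgroup M := centralizer {W.τ 5} ⊓ normalizer (W.sA : Set M) ⊓ normalizer (W.sB : Set M)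

theorem mem_HM {g : M} : g ∈ W.HM ↔
    g * W.τ 5 = W.τ 5 * g ∧ g ∈ normalizer (W.sA : Set M) ∧ g ∈ normalizer (W.sB : Set M) := by
  rw [HM, mem_inf, mem_inf, mem_centralizer_singleton_iff]
  exact ⟨fun h => ⟨h.1.1, h.1.2, h.2⟩, fun h => ⟨⟨h.1, h.2.1⟩, h.2.2⟩⟩

theorem el_mem_HM {g : ℕ} (hg : g ∈ listR ++ [32, 128, 2]) : W.el g ∈ W.HM := by
  have h := norm_ok
  simp only [normOK, List.all_eq_true, Bool.and_eq_true, Nat.beq_eq, inLst_iff] at h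
  obtain ⟨⟨⟨hlt, h5⟩, hA⟩, hB⟩ := h g hg
  have hlt : g < 1024 := list_facts.blt_iff'.1 hlt
  haveI hfA : Finite W.sA := Finite.of_surjective (fun n : {n // n ∈ listA} => (⟨W.el n.1, n.1, n.2, rfl⟩ : W.sA))
    fun ⟨g, n, hn, e⟩ => ⟨⟨n, hn⟩, Subtype.ext e⟩
  haveI hfB : Finite W.sB := Finite.of_surjective (fun n : {n // n ∈ listB} => (⟨W.el n.1, n.1, n.2, rfl⟩ : W.sB))
    fun ⟨g, n, hn, e⟩ => ⟨⟨n, hn⟩, Subtype.ext e⟩
  refine W.mem_HM.2 ⟨?_, mem_normalizer_fintype (fun x hx => ?_), mem_normalizer_fintype (fun x hx => ?_)⟩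
  · have := W.el_conj hlt (show 5 < 1024 by norm_num)
    rw [h5, W.el_τ (x := 5) (by norm_num)] at this
    exact mul_inv_eq_iff_eq_mul.1 this
  · obtain ⟨a, ha, rfl⟩ := hx
    exact ⟨_, hA a ha, (W.el_conj hlt (R_lt (list_facts.2.2.2.1 a ha).1)).symm⟩
  · obtain ⟨a, ha, rfl⟩ := hx
    exact ⟨_, hB a ha, (W.el_conj hlt (R_lt (list_facts.2.2.2.2.1 a ha).1)).symm⟩
where
  mem_normalizer_fintype {S : Subgroup M} [Finite S] {g : M} (h : ∀ x ∈ (S : Set M), g * x * g⁻¹ ∈ (S : Set M)) :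
      g ∈ normalizer (S : Set M) := by
    rw [mem_normalizer_iff]
    intro x
    refine ⟨h x, fun hx => ?_⟩
    obtain ⟨⟨y, hy⟩, e⟩ := (Finite.injective_iff_surjective.1 (fun a b e => Subtype.ext
      (mul_left_cancel (mul_right_cancel (congrArg Subtype.val e)))) :
        Function.Surjective fun a : S => (⟨g * a * g⁻¹, h a a.2⟩ : S)) ⟨_, hx⟩
    rw [← show y = x from mul_left_cancel (mul_right_cancel (congrArg Subtype.val e))]
    exact hy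

theorem mem_HM_of_invol {μ : M} {f : ℕ → ℕ} (h2 : μ * μ = 1) (h5 : f 5 = 5)
    (hf : ∀ n ∈ listR, μ * W.el n * μ⁻¹ = W.el (f n))
    (hA : ∀ a ∈ listA, f a ∈ listA) (hB : ∀ a ∈ listB, f a ∈ listB) : μ ∈ W.HM := by
  have hi : μ⁻¹ = μ := inv_eq_of_mul_eq_one_right h2
  have hn : ∀ (S : Subgroup M), (∀ x ∈ S, μ * x * μ⁻¹ ∈ S) → μ ∈ normalizer (S : Set M) := fun S h => by
    rw [mem_normalizer_iff]
    intro x
    refine ⟨h x, fun hx => ?_⟩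
    have := h _ hx
    rwa [show μ * (μ * x * μ⁻¹) * μ⁻¹ = μ * μ * x * (μ * μ)⁻¹ by group, h2, inv_one, one_mul, mul_one] at this
  refine W.mem_HM.2 ⟨?_, hn _ ?_, hn _ ?_⟩
  · have := hf 5 (by decide)
    rw [h5, W.el_τ (by norm_num)] at this
    exact mul_inv_eq_iff_eq_mul.1 this
  · rintro _ ⟨a, ha, rfl⟩
    exact ⟨_, hA a ha, (hf a (list_facts.2.2.2.1 a ha).1).symm⟩
  · rintro _ ⟨a, ha, rfl⟩
    exact ⟨_, hB a ha, (hf a (list_facts.2.2.2.2.1 a ha).1).symm⟩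

theorem mu₁_mem : W.mu₁ ∈ W.HM :=
  W.mem_HM_of_invol W.mu₁_facts.2.2 gens_values.2.2.2.2.2.2.1 (fun _ hn => W.mu₁_R hn)
    (fun a ha => (list_facts.2.2.2.1 a ha).2.2.1) (fun a ha => (list_facts.2.2.2.2.1 a ha).2.2.1)

theorem mu₂_mem : W.mu₂ ∈ W.HM :=
  W.mem_HM_of_invol W.mu₂_facts.2.2 gens_values.2.2.2.2.2.2.2.1 (fun _ hn => W.mu₂_R hn)
    (fun a ha => (list_facts.2.2.2.1 a ha).2.2.2.1) (fun a ha => (list_facts.2.2.2.2.1 a ha).2.2.2.1)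

end Rel

end CfsgLib.StdHe
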