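import Cfsg.Agent.Lib.StdHe.Exact
import Cfsg.Agent.Lib.StdHe.CzCount

/-!
The data in the centraliser of an involution.
-/

set_option autoImplicit false
set_option maxRecDepth 100000
set_option synthInstance.maxSize 4096
set_option linter.style.haveILetI false
set_option linter.unusedSectionVars false

namespace CfsgLib.StdHe

open Subgroup CfsgLib.HeldRecog CfsgLib.HeCent

universe u

attribute [local irreducible] rep Zh wEl

variable {G : Type u} [Group G] {L : Subgroup G}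

theorem mem_dN_of_N [Finite G] {x : G} (hx : x ∈ normalizer (L : Set G)) : x ∈ normalizer (dSub L : Set G) :=
  normalizer_le_normalizer_dSub hx

/-- The quotient of the normaliser of the odd part. -/
abbrev MD (L : Subgroup G) : Type u :=
  normalizer (dSub L : Set G) ⧸ (dSub L).subgroupOf (normalizer (dSub L : Set G))

instance : ((dSub L).subgroupOf (normalizer (dSub L : Set G))).Normal := Subgroup.normal_in_normalizer

open Classical in
/-- The image in the quotient; 1 outside the normaliser. -/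
noncomputable def qd (L : Subgroup G) (x : G) : MD L :=
  if h : x ∈ normalizer (dSub L : Set G) then QuotientGroup.mk ⟨x, h⟩ else 1

theorem qd_of {x : G} (h : x ∈ normalizer (dSub L : Set G)) : qd L x = QuotientGroup.mk ⟨x, h⟩ := dif_pos h

theorem qd_mul {x y : G} (hx : x ∈ normalizer (dSub L : Set G)) (hy : y ∈ normalizer (dSub L : Set G)) :
    qd L (x * y) = qd L x * qd L y := by
  rw [qd_of (mul_mem hx hy), qd_of hx, qd_of hy]; rfl

theorem qd_inv {x : G} (hx : x ∈ normalizer (dSub L : Set G)) : qd L x⁻¹ = (qd L x)⁻¹ := by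
  rw [qd_of (inv_mem hx), qd_of hx]; rfl

theorem qd_one : qd L (1 : G) = 1 := by rw [qd_of (one_mem _)]; rfl

theorem qd_eq_one {x : G} (hx : x ∈ normalizer (dSub L : Set G)) : qd L x = 1 ↔ x ∈ dSub L := by
  rw [qd_of hx, QuotientGroup.eq_one_iff, mem_subgroupOf]

theorem qd_conj {x y : G} (hx : x ∈ normalizer (dSub L : Set G)) (hy : y ∈ normalizer (dSub L : Set G)) :
    qd L (x * y * x⁻¹) = qd L x * qd L y * (qd L x)⁻¹ := by
  rw [qd_mul (mul_mem hx hy) (inv_mem hx), qd_mul hx hy, qd_inv hx]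

theorem qd_pow {x : G} (hx : x ∈ normalizer (dSub L : Set G)) (n : ℕ) : qd L (x ^ n) = qd L x ^ n := by
  induction n with
  | zero => rw [pow_zero, pow_zero, qd_one]
  | succ n ih => rw [pow_succ, pow_succ, qd_mul (pow_mem hx n) hx, ih]

theorem qd_surj (μ : MD L) : ∃ x ∈ normalizer (dSub L : Set G), qd L x = μ := by
  obtain ⟨⟨x, hx⟩, rfl⟩ := QuotientGroup.mk_surjective μ
  exact ⟨x, hx, qd_of hx⟩

namespace Std

variable [Finite G] (S : Std L) {h φ : G} (hh : S.Pair h φ)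

include S

theorem τ_dN (i : ℕ) : S.C.τ i ∈ normalizer (dSub L : Set G) := mem_dN_of_N (le_normalizer (S.C.mem i))

include hh

theorem h_dN : h ∈ normalizer (dSub L : Set G) := S.normT_dSub hh.swp.nrm hh.swp.normT

/-- Two congruent involutions are conjugate by an element of the odd part. -/
theorem conj_of_congr {a b : G} (ha : a ∈ normalizer (dSub L : Set G)) (hb : b ∈ normalizer (dSub L : Set G))
    (ha2 : a * a = 1) (hb2 : b * b = 1) (h' : qd L a = qd L b) : ∃ d ∈ dSub L, d * a * d⁻¹ = b := by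
  have hd : a * b ∈ dSub L := by
    rw [← qd_eq_one (mul_mem ha hb), qd_mul ha hb, h', ← qd_mul hb hb, hb2, qd_one]
  obtain ⟨n, hn⟩ := (((S.K_split hh.swp.nrm).1 _).1 hd).2
  have ai : a⁻¹ = a := inv_eq_of_mul_eq_one_right ha2
  have bi : b⁻¹ = b := inv_eq_of_mul_eq_one_right hb2
  have hinv : a * (a * b) * a⁻¹ = (a * b)⁻¹ := by
    rw [mul_inv_rev, ai, bi, ← mul_assoc, ha2, one_mul]
  have hcj : a * ((a * b) ^ n)⁻¹ * a⁻¹ = (a * b) ^ n := by
    rw [show a * ((a * b) ^ n)⁻¹ * a⁻¹ = (a * (a * b) ^ n * a⁻¹)⁻¹ by group, ← conj_pow, hinv, inv_pow, inv_inv]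
  refine ⟨(a * b) ^ n, pow_mem hd n, ?_⟩
  calc (a * b) ^ n * a * ((a * b) ^ n)⁻¹ = (a * b) ^ n * (a * ((a * b) ^ n)⁻¹ * a⁻¹) * a := by group
    _ = (a * b) ^ (2 * n + 1) * (a * b)⁻¹ * a := by
      rw [hcj, pow_succ, mul_inv_cancel_right, two_mul, pow_add]
    _ = _ := by
      rw [← hn, pow_orderOf_eq_one, one_mul, mul_inv_rev, ai, bi, mul_assoc, ha2, mul_one]

/-- Congruence to a central element lifts. -/
theorem commute_lift {x : G} (hx : x ∈ normalizer (dSub L : Set G)) {r : ℕ} (hr : r < 16)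
    (h' : Commute (qd L x) (qd L (S.C.τ r))) : Commute x (S.C.τ r) := by
  have hd : (S.C.τ r)⁻¹ * (x * S.C.τ r * x⁻¹) ∈ dSub L := by
    rw [← qd_eq_one (mul_mem (inv_mem (S.τ_dN r)) (mul_mem (mul_mem hx (S.τ_dN r)) (inv_mem hx))),
      qd_mul (inv_mem (S.τ_dN r)) (mul_mem (mul_mem hx (S.τ_dN r)) (inv_mem hx)), qd_inv (S.τ_dN r),
      qd_conj hx (S.τ_dN r), h'.eq, mul_inv_cancel_right, inv_mul_cancel]
  obtain ⟨hdK, hdo⟩ := ((S.K_split hh.swp.nrm).1 _).1 hd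
  obtain ⟨d, hdd⟩ : ∃ d, d = (S.C.τ r)⁻¹ * (x * S.C.τ r * x⁻¹) := ⟨_, rfl⟩
  rw [← hdd] at hd hdK hdo
  have he : x * S.C.τ r * x⁻¹ = S.C.τ r * d := by rw [hdd, mul_inv_cancel_left]
  have h2 : d * d = 1 := by
    have := congrArg (fun y => y * y) he
    rw [show x * S.C.τ r * x⁻¹ * (x * S.C.τ r * x⁻¹) = x * (S.C.τ r * S.C.τ r) * x⁻¹ by group, S.τ_sq hr,
      mul_one, mul_inv_cancel, (commute_cent (S.C.mem r) hdK).symm.mul_mul_mul_comm, S.τ_sq hr, one_mul] at this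
    exact this.symm
  obtain ⟨n, hn⟩ := hdo
  have hd1 : d = 1 := by
    have := pow_orderOf_eq_one d
    rw [hn, pow_succ, pow_mul, sq, h2, one_pow, one_mul] at this
    exact this
  rw [hd1, mul_one] at he
  exact mul_inv_eq_iff_eq_mul.1 he

theorem η_dN : S.C.η ∈ normalizer (dSub L : Set G) := mem_dN_of_N (le_normalizer S.C.η_mem)

theorem w_dN : S.C.w₁ ∈ normalizer (dSub L : Set G) ∧ S.C.w₂ ∈ normalizer (dSub L : Set G) :=
  ⟨mem_dN_of_N (le_normalizer S.C.w₁_mem), mem_dN_of_N (le_normalizer S.C.w₂_mem)⟩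

theorem φ_dN : φ ∈ normalizer (dSub L : Set G) := mem_dN_of_N hh.act.mem

/-- The relations in the quotient. -/
noncomputable def rel : Rel (MD L) where
  τ i := qd L (S.C.τ i)
  η := qd L S.C.η
  h := qd L h
  p := qd L φ
  w₁ := qd L S.C.w₁
  w₂ := qd L S.C.w₂
  mul x y := by rw [← qd_mul (S.τ_dN x) (S.τ_dN y), S.C.mul]
  η_conj x _ := by rw [← qd_conj (S.η_dN hh) (S.τ_dN x), S.C.η_conj]
  w₁_sq := by rw [← qd_mul (S.w_dN hh).1 (S.w_dN hh).1, S.C.w₁_sq, qd_one]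
  w₁_conj x _ hn := by rw [← qd_conj (S.w_dN hh).1 (S.τ_dN x), S.C.w₁_conj x hn]
  w₁_braid := by
    rw [← qd_mul (S.w_dN hh).1 (S.τ_dN 64), ← qd_pow (mul_mem (S.w_dN hh).1 (S.τ_dN 64)), S.C.w₁_braid, qd_one]
  w₂_sq := by rw [← qd_mul (S.w_dN hh).2 (S.w_dN hh).2, S.C.w₂_sq, qd_one]
  w₂_conj x _ hn := by rw [← qd_conj (S.w_dN hh).2 (S.τ_dN x), S.C.w₂_conj x hn]
  w₂_braid := by
    rw [← qd_mul (S.w_dN hh).2 (S.τ_dN 16), ← qd_pow (mul_mem (S.w_dN hh).2 (S.τ_dN 16)), S.C.w₂_braid, qd_one]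
  h_sq := by rw [← qd_mul (S.h_dN hh) (S.h_dN hh), hh.h_sq, qd_one]
  p_sq := by rw [← qd_mul (S.φ_dN hh) (S.φ_dN hh), hh.φ_sq, qd_one]
  comm := by
    show _ = _
    rw [← qd_mul (S.h_dN hh) (S.φ_dN hh), ← qd_mul (S.φ_dN hh) (S.h_dN hh), hh.comm.eq]
  h_conj x hx := by rw [← qd_conj (S.h_dN hh) (S.τ_dN x), hh.swp.act x hx]
  p_conj x hx := by rw [← qd_conj (S.φ_dN hh) (S.τ_dN x), hh.act.τ x hx, pm]
  p_w₁ := by
    show _ = _
    rw [← qd_mul (S.φ_dN hh) (S.w_dN hh).1, ← qd_mul (S.w_dN hh).1 (S.φ_dN hh), (S.w_field hh).1.eq]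
  p_w₂ := by
    show _ = _
    rw [← qd_mul (S.φ_dN hh) (S.w_dN hh).2, ← qd_mul (S.w_dN hh).2 (S.φ_dN hh), (S.w_field hh).2.eq]
  cube₁ := by
    rw [← qd_mul (S.w_dN hh).1 (S.h_dN hh), ← qd_pow (mul_mem (S.w_dN hh).1 (S.h_dN hh)), qd_eq_one (pow_mem (mul_mem (S.w_dN hh).1 (S.h_dN hh)) 3)]
    exact (S.cubes hh).1
  cube₂ := by
    rw [← qd_mul (S.w_dN hh).2 (S.h_dN hh), ← qd_mul (mul_mem (S.w_dN hh).2 (S.h_dN hh)) (S.φ_dN hh),
      ← qd_pow (mul_mem (mul_mem (S.w_dN hh).2 (S.h_dN hh)) (S.φ_dN hh)),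
      qd_eq_one (pow_mem (mul_mem (mul_mem (S.w_dN hh).2 (S.h_dN hh)) (S.φ_dN hh)) 3)]
    exact (S.cubes hh).2
  inj x hx o ho e := by
    have hp : (if Nat.beq (o % 2) 1 then φ else 1) ∈ normalizer (L : Set G) := by
      split_ifs
      exacts [hh.act.mem, one_mem _]
    have e' : qd L (S.C.τ x * ((if Nat.beq (o % 2) 1 then φ else 1) * (if Nat.beq (o / 2) 1 then h else 1))) = 1 := by
      have hb : (if Nat.beq (o / 2) 1 then h else 1) ∈ normalizer (dSub L : Set G) := by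
        split_ifs
        exacts [S.h_dN hh, one_mem _]
      rw [qd_mul (S.τ_dN x) (mul_mem (mem_dN_of_N hp) hb), qd_mul (mem_dN_of_N hp) hb]
      rw [apply_ite (qd L), apply_ite (qd L), qd_one]
      exact e
    have hb : (if Nat.beq (o / 2) 1 then h else 1) ∈ normalizer (dSub L : Set G) := by
      split_ifs
      exacts [S.h_dN hh, one_mem _]
    have hd := (qd_eq_one (mul_mem (S.τ_dN x) (mul_mem (mem_dN_of_N hp) hb))).1 e'
    have ho2 : Nat.beq (o / 2) 1 = false := Bool.eq_false_iff.2 fun hb1 => hh.swp.notN <| by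
      rw [hb1, if_pos rfl] at hd
      generalize (if Nat.beq (o % 2) 1 then φ else 1) = p at hp hd
      have := mul_mem (mul_mem (inv_mem hp) (inv_mem (le_normalizer (S.C.mem x)))) (cent_le_normalizer (dSub_le hd))
      simpa [mul_assoc] using this
    rw [ho2, if_neg Bool.false_ne_true, mul_one] at hd
    have ho1 : Nat.beq (o % 2) 1 = false := Bool.eq_false_iff.2 fun hb1 => by
      rw [hb1, if_pos rfl] at hd
      have hc := commute_cent S.C.η_mem (dSub_le hd)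
      have hc' : S.C.τ x * φ * S.C.η * (S.C.τ x * φ)⁻¹ = S.C.η := mul_inv_eq_iff_eq_mul.2 hc.symm.eq
      rw [show S.C.τ x * φ * S.C.η * (S.C.τ x * φ)⁻¹ = S.C.τ x * (φ * S.C.η * φ⁻¹) * (S.C.τ x)⁻¹ by group, hh.act.η,
        if_pos rfl] at hc'
      refine S.C.η_not_T (a := tmul (tinv x) (tEta x)) ?_
      rw [← S.C.mul, ← S.C.τ_tinv hx, ← S.C.η_conj]
      calc S.C.η = (S.C.τ x)⁻¹ * (S.C.τ x * (S.C.η * S.C.η) * (S.C.τ x)⁻¹) * S.C.τ x * S.C.η⁻¹ := by group
        _ = _ := by rw [hc']; group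
    rw [ho1, if_neg Bool.false_ne_true, mul_one] at hd
    obtain ⟨hK, hodd⟩ := ((S.K_split hh.swp.nrm).1 _).1 hd
    obtain ⟨a, ha, ea⟩ := S.inf_cases (S.C.mem x) hK
    obtain rfl := S.C.inj a (by omega) x hx ea
    obtain ⟨n, hn⟩ := hodd
    have := pow_orderOf_eq_one (S.C.τ a)
    rw [hn, pow_succ, pow_mul, sq, S.τ_sq (by omega), one_pow, one_mul] at this
    refine ⟨S.C.inj a hx 0 (by norm_num) (this.trans S.C.τ_zero.symm), ?_⟩
    have b1 : o % 2 ≠ 1 := fun hb1 => by rw [hb1] at ho1; exact absurd ho1 (by decide)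
    have b2 : o / 2 ≠ 1 := fun hb1 => by rw [hb1] at ho2; exact absurd ho2 (by decide)
    omega

theorem rel_τ (i : ℕ) : (S.rel hh).τ i = qd L (S.C.τ i) := rfl

theorem el_low {n : ℕ} (hn : n < 256) (e : Bool) :
    (S.rel hh).el (scode n (if e then 1 else 0)) = qd L (S.C.τ n * (if e then φ else 1)) := by
  rw [(S.rel hh).el_scode hn (by cases e <;> norm_num), qd_mul (S.τ_dN n) (by cases e <;> simp [S.φ_dN hh])]
  cases e <;> simp [Rel.out, qd_one, rel]

theorem rel_fix (hG : commutator G = ⊤) : (S.rel hh).Fix := by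
  intro μ h5 h123
  obtain ⟨x, hx, rfl⟩ := qd_surj μ
  have hx5 := S.commute_lift hh hx (show 5 < 16 by norm_num) h5
  have hN : x ∈ normalizer (L : Set G) := by
    rcases h123 with h' | h' | h'
    all_goals
      first
      | exact S.cent_le (S.τ_mem_K (show 1 < 4 by norm_num)) (S.τ_sq (by norm_num)) (S.τ_ne (by norm_num) one_ne_zero)
          (S.commute_lift hh hx (show 1 < 16 by norm_num) h')
      | exact S.cent_le (S.τ_mem_K (show 2 < 4 by norm_num)) (S.τ_sq (by norm_num)) (S.τ_ne (by norm_num) two_ne_zero)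
          (S.commute_lift hh hx (show 2 < 16 by norm_num) h')
      | exact S.cent_le (S.τ_mem_K (show 3 < 4 by norm_num)) (S.τ_sq (by norm_num)) (S.τ_ne (by norm_num) (by norm_num))
          (S.commute_lift hh hx (show 3 < 16 by norm_num) h')
  obtain ⟨y, hy, e, d, hd, rfl⟩ := S.cent_five hG hh hN hx5
  have hdN : d ∈ normalizer (dSub L : Set G) := le_normalizer hd
  refine ⟨scode y (if e then 1 else 0), by cases e <;> unfold scode <;> simp <;> omega, ?_⟩
  rw [S.el_low hh hy, qd_mul (mul_mem (S.τ_dN y) (by cases e <;> simp [S.φ_dN hh])) hdN, (qd_eq_one hdN).2 hd, mul_one]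

/-- Conjugacy to the central element of the subgroup, in the quotient. -/
def qT (L : Subgroup G) (t : G) (μ : MD L) : Prop := ∃ x ∈ normalizer (dSub L : Set G), x * x = 1 ∧ qd L x = μ ∧ IsT t x

theorem qT_iff {x : G} (hx : x ∈ normalizer (dSub L : Set G)) (h2 : x * x = 1) :
    qT L (S.C.τ 1) (qd L x) ↔ IsT (S.C.τ 1) x := by
  refine ⟨fun ⟨y, hy, hy2, e, g, hg⟩ => ?_, fun h' => ⟨x, hx, h2, rfl, h'⟩⟩
  obtain ⟨d, -, hd⟩ := S.conj_of_congr hh hy hx hy2 h2 e
  exact ⟨d * g, by rw [← hd, ← hg]; group⟩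

theorem not_T_five : ¬ IsT (S.C.τ 1) (S.C.τ 5) := fun ⟨g, hg⟩ => by
  have hnK : S.C.τ 5 ∉ centralizer (L : Set G) := fun hK => by
    obtain ⟨a, ha, e⟩ := S.inf_cases (S.C.mem 5) hK
    have := S.C.inj a (by omega) 5 (by norm_num) e
    omega
  have hl := S.fused_lab₀ (show 1 < 4 by norm_num) (hg ▸ S.C.mem 5) (hg ▸ hnK)
  exact S.C.not_lab₀ (one_mem L) (show 5 < 16 by norm_num) (by simp) (by decide) (hg ▸ hl)

theorem sep : (S.rel hh).Sep (qT L (S.C.τ 1)) where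
  conj g μ := by
    rintro ⟨x, hx, h2, rfl, hT⟩
    obtain ⟨y, hy, rfl⟩ := qd_surj g
    refine ⟨y * x * y⁻¹, mul_mem (mul_mem hy hx) (inv_mem hy), ?_, qd_conj hy hx, ?_⟩
    · rw [show y * x * y⁻¹ * (y * x * y⁻¹) = y * (x * x) * y⁻¹ by group, h2]; group
    · obtain ⟨c, hc⟩ := hT
      exact ⟨y * c, by rw [← hc]; group⟩
  one := (S.qT_iff hh (S.τ_dN 1) (S.τ_sq (by norm_num))).2 ⟨1, by simp⟩
  five h' := S.not_T_five hh ((S.qT_iff hh (S.τ_dN 5) (S.τ_sq (by norm_num))).1 h')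
  one_false h' := by
    rw [← qd_one (L := L)] at h'
    obtain ⟨g, hg⟩ := (S.qT_iff hh (one_mem _) (one_mul 1)).1 h'
    exact S.τ_ne (by norm_num) one_ne_zero (conj_eq_one_iff.1 hg)

theorem el_mem_all {n : ℕ} (hn : n < 256) (e : Bool) : (S.rel hh).el (scode n (if e then 1 else 0)) ∈ (S.rel hh).HM := by
  have key : ∀ g ∈ [0, 16, 32, 48, 64, 128, 192], ∃ a ∈ [0, 16, 64], ∃ b ∈ [0, 32, 128], smul a b = g := by decide +kernel
  have hR : ∀ r < 16, inLst listR r = true ∨ inLst listR (smul 2 r) = true := by decide +kernel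
  have h2 : (S.rel hh).el 2 ∈ (S.rel hh).HM := (S.rel hh).el_mem_HM (by simp)
  have hroot : ∀ g ∈ [0, 16, 32, 48, 64, 128, 192], (S.rel hh).el g ∈ (S.rel hh).HM := fun g hg => by
    obtain ⟨a, ha, b, hb, e⟩ := key g hg
    have la : a < 1024 := by simp at ha; omega
    have lb : b < 1024 := by simp at hb; omega
    rw [← e, ← (S.rel hh).el_mul la lb]
    refine mul_mem ((S.rel hh).el_mem_HM (List.mem_append_left _ ?_)) ?_
    · simp only [List.mem_cons, List.not_mem_nil, or_false] at ha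
      rcases ha with rfl | rfl | rfl <;> decide
    · simp only [List.mem_cons, List.not_mem_nil, or_false] at hb
      rcases hb with rfl | rfl | rfl
      exacts [by rw [(S.rel hh).el_zero]; exact one_mem _, (S.rel hh).el_mem_HM (by simp), (S.rel hh).el_mem_HM (by simp)]
  rw [(S.rel hh).el_scode hn (by cases e <;> norm_num), ← code_split n hn, ← (S.rel hh).mul, ← (S.rel hh).mul]
  have hL := cL_lt n
  have hN := cN_lt n
  refine mul_mem (mul_mem ?_ (mul_mem ?_ ?_)) ?_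
  · rw [← (S.rel hh).el_τ (show n % 16 < 256 by omega)]
    rcases hR _ (Nat.mod_lt n (show 0 < 16 by norm_num)) with hr | hr
    · exact (S.rel hh).el_mem_HM (List.mem_append_left _ (inLst_iff.1 hr))
    · have := mul_mem (inv_mem h2) ((S.rel hh).el_mem_HM (g := smul 2 (n % 16)) (List.mem_append_left _ (inLst_iff.1 hr)))
      rwa [← (S.rel hh).el_mul (by norm_num) (show n % 16 < 1024 by omega), inv_mul_cancel_left] at this
  · rw [← (S.rel hh).el_τ (show 16 * cL n < 256 by omega)]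
    refine hroot _ ?_
    interval_cases (cL n) <;> simp
  · rw [← (S.rel hh).el_τ (show 64 * cN n < 256 by omega)]
    refine hroot _ ?_
    interval_cases (cN n) <;> simp
  · cases e
    · simp [Rel.out]
    · have : (S.rel hh).out 1 = (S.rel hh).el 256 := by rw [(S.rel hh).el_p]; simp [Rel.out]
      rw [if_pos rfl, this]
      exact (S.rel hh).el_mem_HM (List.mem_append_left _ (by decide))

/-- The subgroup of the centraliser. -/
noncomputable def hSub : Subgroup G :=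
  ((S.rel hh).HM.comap (QuotientGroup.mk' ((dSub L).subgroupOf (normalizer (dSub L : Set G))))).map
    (normalizer (dSub L : Set G)).subtype

theorem mem_hSub {x : G} : x ∈ S.hSub hh ↔ x ∈ normalizer (dSub L : Set G) ∧ qd L x ∈ (S.rel hh).HM := by
  constructor
  · rintro ⟨y, hy, rfl⟩
    exact ⟨y.2, by show qd L (y : G) ∈ _; rw [qd_of y.2]; exact hy⟩
  · rintro ⟨hx, h'⟩
    exact ⟨⟨x, hx⟩, by rw [qd_of hx] at h'; exact h', rfl⟩

/-- The map to the group in the quotient. -/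
noncomputable def qH : S.hSub hh →* (S.rel hh).HM where
  toFun x := ⟨qd L x, ((S.mem_hSub hh).1 x.2).2⟩
  map_one' := Subtype.ext qd_one
  map_mul' x y := Subtype.ext (qd_mul ((S.mem_hSub hh).1 x.2).1 ((S.mem_hSub hh).1 y.2).1)

theorem qH_surj : Function.Surjective (S.qH hh) := fun μ => by
  obtain ⟨x, hx, e⟩ := qd_surj (μ : MD L)
  exact ⟨⟨x, (S.mem_hSub hh).2 ⟨hx, e ▸ μ.2⟩⟩, Subtype.ext e⟩

theorem exists_core (hG : commutator G = ⊤) : Nonempty (Core L (S.C.τ 1) (S.C.τ 5)) := by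
  classical
  have hfix := S.rel_fix hh hG
  have hT := S.sep hh
  obtain ⟨e, hez, kQ, hkQ, hiff⟩ := Rel.exists_iso hfix hT
  let ρ : S.hSub hh →* HS := e.toMonoidHom.comp (S.qH hh)
  have hsurj : Function.Surjective ρ := e.surjective.comp (S.qH_surj hh)
  have hker : ∀ x : S.hSub hh, ρ x = 1 ↔ (x : G) ∈ dSub L := fun x => by
    show e (S.qH hh x) = 1 ↔ _
    rw [map_eq_one_iff _ e.injective, ← qd_eq_one ((S.mem_hSub hh).1 x.2).1]
    exact ⟨fun h' => congrArg Subtype.val h', fun h' => Subtype.ext h'⟩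
  have hkmap : ρ.ker.map (S.hSub hh).subtype = dSub L := by
    ext d
    constructor
    · rintro ⟨x, hx, rfl⟩; exact (hker x).1 hx
    · intro hd
      have hdH : d ∈ S.hSub hh := (S.mem_hSub hh).2 ⟨le_normalizer hd, by rw [(qd_eq_one (le_normalizer hd)).2 hd]; exact one_mem _⟩
      exact ⟨⟨d, hdH⟩, (hker _).2 hd, rfl⟩
  have hzH : S.C.τ 5 ∈ S.hSub hh := (S.mem_hSub hh).2 ⟨S.τ_dN 5, by
    rw [← S.rel_τ hh, ← (S.rel hh).el_τ (show 5 < 256 by norm_num)]
    exact (S.rel hh).el_mem_HM (List.mem_append_left _ (by decide))⟩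
  have htH : S.C.τ 1 ∈ S.hSub hh := (S.mem_hSub hh).2 ⟨S.τ_dN 1, by
    rw [← S.rel_τ hh, ← (S.rel hh).el_τ (show 1 < 256 by norm_num)]
    exact (S.rel hh).el_mem_HM (List.mem_append_left _ (by decide))⟩
  have hzc : ∀ x ∈ S.hSub hh, Commute x (S.C.τ 5) := fun x hx => by
    obtain ⟨hxN, hq⟩ := (S.mem_hSub hh).1 hx
    exact S.commute_lift hh hxN (by norm_num) ((S.rel hh).mem_HM.1 hq).1
  have hxz : ∀ x : S.hSub hh, x * x = 1 → ((x : G) * S.C.τ 5) * ((x : G) * S.C.τ 5) = 1 := fun x h2 => by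
    rw [(hzc x x.2).symm.mul_mul_mul_comm, S.τ_sq (by norm_num), mul_one]
    exact congrArg Subtype.val h2
  have hnK : ∀ x : S.hSub hh, x * x = 1 → x ≠ 1 → S.qH hh x * S.qH hh x = 1 ∧ S.qH hh x ≠ 1 := fun x h2 h1 =>
    ⟨by rw [← map_mul, h2, map_one], fun h' => h1 <| Subtype.ext <| by
      have hd : (x : G) ∈ dSub L := (hker x).1 (by show e (S.qH hh x) = 1; rw [h', map_one])
      obtain ⟨n, hn⟩ := (((S.K_split hh.swp.nrm).1 _).1 hd).2
      have := pow_orderOf_eq_one (x : G)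
      rw [hn, pow_succ, pow_mul, sq, show (x : G) * x = 1 from congrArg Subtype.val h2, one_pow, one_mul] at this
      exact this⟩
  have hPQ : ∀ x : S.hSub hh, x * x = 1 →
      ((S.rel hh).PP (qT L (S.C.τ 1)) (S.qH hh x : MD L) ↔ IsP (S.C.τ 1) (S.C.τ 5) (x : G)) ∧
      ((S.rel hh).QQ (qT L (S.C.τ 1)) (S.qH hh x : MD L) ↔ IsQ (S.C.τ 1) (S.C.τ 5) (x : G)) := by
    intro x h2
    have hxN := ((S.mem_hSub hh).1 x.2).1
    have e1 := S.qT_iff hh hxN (congrArg Subtype.val h2)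
    have e2 := S.qT_iff hh (mul_mem hxN (S.τ_dN 5)) (hxz x h2)
    rw [qd_mul hxN (S.τ_dN 5)] at e2
    unfold Rel.PP Rel.QQ IsP IsQ
    constructor
    · exact and_congr e1 e2
    · exact and_congr e1 (not_congr e2)
  have hp : ∀ x : S.hSub hh, x * x = 1 → x ≠ 1 → (IsP (S.C.τ 1) (S.C.τ 5) (x : G) ↔ InCls 0 (ρ x)) :=
    fun x h2 h1 => (hPQ x h2).1.symm.trans (hiff _ (hnK x h2 h1).1 (hnK x h2 h1).2).1
  have hq : ∀ x : S.hSub hh, x * x = 1 → x ≠ 1 → (IsQ (S.C.τ 1) (S.C.τ 5) (x : G) ↔ InCls kQ (ρ x)) :=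
    fun x h2 h1 => (hPQ x h2).2.symm.trans (hiff _ (hnK x h2 h1).1 (hnK x h2 h1).2).2
  -- conjugating the two kinds to central elements
  have hrep : ∀ a : S.hSub hh, IsP (S.C.τ 1) (S.C.τ 5) (a : G) ∨ IsQ (S.C.τ 1) (S.C.τ 5) (a : G) →
      ∃ r, (r = 1 ∨ r = 3) ∧ ∃ g ∈ S.hSub hh, g * (a : G) * g⁻¹ = S.C.τ r := by
    intro a ha
    obtain ⟨g0, hg0⟩ : IsT (S.C.τ 1) (a : G) := ha.elim (fun h' => h'.1) (fun h' => h'.1)
    have h2G : (a : G) * a = 1 := by
      rw [← hg0, show g0 * S.C.τ 1 * g0⁻¹ * (g0 * S.C.τ 1 * g0⁻¹) = g0 * (S.C.τ 1 * S.C.τ 1) * g0⁻¹ by group,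
        S.τ_sq (by norm_num), mul_one, mul_inv_cancel]
    have h2 : a * a = 1 := Subtype.ext h2G
    have h1 : a ≠ 1 := fun h' => by
      rw [h'] at hg0
      exact S.τ_ne (by norm_num) one_ne_zero (conj_eq_one_iff.1 hg0)
    obtain ⟨μ2, μ1⟩ := hnK a h2 h1
    have finish : ∀ r, r < 16 → ∀ c : (S.rel hh).HM, ((c * S.qH hh a * c⁻¹ : (S.rel hh).HM) : MD L) = qd L (S.C.τ r) →
        ∃ g ∈ S.hSub hh, g * (a : G) * g⁻¹ = S.C.τ r := by
      intro r hr c hc
      obtain ⟨⟨y, hy⟩, rfl⟩ := S.qH_surj hh c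
      obtain ⟨hyN, -⟩ := (S.mem_hSub hh).1 hy
      have haN := ((S.mem_hSub hh).1 a.2).1
      obtain ⟨d, hd, ed⟩ := S.conj_of_congr hh (mul_mem (mul_mem hyN haN) (inv_mem hyN)) (S.τ_dN r)
        (by rw [show y * a * y⁻¹ * (y * a * y⁻¹) = y * ((a : G) * a) * y⁻¹ by group, h2G]; group) (S.τ_sq hr)
        (by rw [qd_conj hyN haN, ← hc]; rfl)
      refine ⟨d * y, mul_mem ?_ hy, by rw [← ed]; group⟩
      obtain ⟨x, hx, ex⟩ := (hkmap ▸ hd : d ∈ ρ.ker.map (S.hSub hh).subtype)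
      rw [← ex]; exact x.2
    have h := tab_ok
    simp only [tabOK, Bool.and_eq_true, inLst_iff] at h
    have k1m := List.mem_filter.1 h.1.1.2
    have k128m := List.mem_filter.1 h.1.2
    rcases ha with ha | ha
    · obtain ⟨m1, m2, m3⟩ := Rel.el_invList hfix k1m.1
      have c1 := (hiff ⟨_, m1⟩ (Subtype.ext m2) fun h' => m3 (congrArg Subtype.val h')).1.1 ((hT.kinds k1m.1).1.2 k1m.2)
      obtain ⟨u, hu⟩ := (hp a h2 h1).1 ha
      obtain ⟨v, hv⟩ := c1
      refine ⟨1, .inl rfl, finish 1 (by norm_num) (e.symm (v * u⁻¹)) ?_⟩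
      have : e.symm (v * u⁻¹) * S.qH hh a * (e.symm (v * u⁻¹))⁻¹ = ⟨_, m1⟩ := e.injective (by
        rw [map_mul, map_mul, map_inv, MulEquiv.apply_symm_apply, hv, show e (S.qH hh a) = u * rep 0 * u⁻¹ from hu]
        group)
      rw [this]
      exact (S.rel hh).el_τ (show 1 < 256 by norm_num)
    · obtain ⟨m1, m2, m3⟩ := Rel.el_invList hfix k128m.1
      have c1 := (hiff ⟨_, m1⟩ (Subtype.ext m2) fun h' => m3 (congrArg Subtype.val h')).2.1 ((hT.kinds k128m.1).2.2 k128m.2)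
      obtain ⟨u, hu⟩ := (hq a h2 h1).1 ha
      obtain ⟨v, hv⟩ := c1
      refine ⟨3, .inr rfl, finish 3 (by norm_num) (⟨_, (S.rel hh).mu₂_mem⟩ * e.symm (v * u⁻¹)) ?_⟩
      have : e.symm (v * u⁻¹) * S.qH hh a * (e.symm (v * u⁻¹))⁻¹ = ⟨_, m1⟩ := e.injective (by
        rw [map_mul, map_mul, map_inv, MulEquiv.apply_symm_apply, hv, show e (S.qH hh a) = u * rep kQ * u⁻¹ from hu]
        group)
      rw [show (⟨_, (S.rel hh).mu₂_mem⟩ : (S.rel hh).HM) * e.symm (v * u⁻¹) * S.qH hh a *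
        ((⟨_, (S.rel hh).mu₂_mem⟩ : (S.rel hh).HM) * e.symm (v * u⁻¹))⁻¹ =
        ⟨_, (S.rel hh).mu₂_mem⟩ * (e.symm (v * u⁻¹) * S.qH hh a * (e.symm (v * u⁻¹))⁻¹) * ⟨_, (S.rel hh).mu₂_mem⟩⁻¹ by group,
        this]
      show (S.rel hh).mu₂ * (S.rel hh).el 128 * (S.rel hh).mu₂⁻¹ = _
      have f : cL 128 = 0 ∧ cL (hm (pm (tmul (tmul 16 (tW2 128)) (tinv 16)))) = 0 ∧ m₂x 128 = 3 := by decide
      rw [(S.rel hh).el_τ (show 128 < 256 by norm_num), (S.rel hh).mu₂_τ (show 128 < 256 by norm_num) f.1 f.2.1, f.2.2]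
      rfl
  have hdvd : ∀ {x : G}, x * x = 1 → x ≠ 1 → orderOf x = 2 := fun h2 h1 => by
    haveI : Fact (Nat.Prime 2) := ⟨Nat.prime_two⟩
    exact orderOf_eq_prime (by rw [sq, h2]) h1
  exact ⟨{
    H := S.hSub hh
    ρ := ρ
    surj := hsurj
    ker_odd := by
      rw [← card_map_of_injective (S.hSub hh).subtype_injective, hkmap]
      exact (S.K_split hh.swp.nrm).2.1
    le_cent := fun x hx => mem_centralizer_singleton_iff.2 (hzc x hx)
    z_mem := hzH
    ρ_z := by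
      show e (S.qH hh ⟨S.C.τ 5, hzH⟩) = Zh
      have h5 : (S.rel hh).el 5 ∈ (S.rel hh).HM := (S.rel hh).el_mem_HM (List.mem_append_left _ (by decide))
      rw [← hez h5]
      refine congrArg e (Subtype.ext ?_)
      exact ((S.rel hh).el_τ (show 5 < 256 by norm_num)).symm
    z_ord := hdvd (S.τ_sq (by norm_num)) (S.τ_ne (by norm_num) (by norm_num))
    t_ord := hdvd (S.τ_sq (by norm_num)) (S.τ_ne (by norm_num) one_ne_zero)
    t_mem := htH
    not_T := S.not_T_five hh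
    kQ := kQ
    kQ_mem := hkQ
    p_iff := hp
    q_iff := hq
    cent_le := fun a ha hPQa y hy => by
      obtain ⟨hyz, hya⟩ := mem_inf.1 hy
      rw [mem_centralizer_singleton_iff] at hyz hya
      obtain ⟨r, hr, g, hg, eg⟩ := hrep ⟨a, ha⟩ hPQa
      have hr4 : r < 4 ∧ r ≠ 0 := by omega
      have c1 : Commute (g * y * g⁻¹) (S.C.τ r) := eg ▸ (Commute.conj_iff g).2 hya
      have c5 : Commute (g * y * g⁻¹) (S.C.τ 5) := by
        have := (Commute.conj_iff g).2 (show Commute y (S.C.τ 5) from hyz)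
        rwa [(hzc g hg).eq, mul_inv_cancel_right] at this
      obtain ⟨v, hv, b, d, hd, e'⟩ := S.cent_five hG hh (S.cent_le (S.τ_mem_K hr4.1) (S.τ_sq (by omega))
        (S.τ_ne (by omega) hr4.2) c1) c5
      have hb : (if b then φ else 1) ∈ normalizer (dSub L : Set G) := by cases b <;> simp [S.φ_dN hh]
      have hmem : g * y * g⁻¹ ∈ S.hSub hh := by
        rw [← e']
        refine (S.mem_hSub hh).2 ⟨mul_mem (mul_mem (S.τ_dN v) hb) (le_normalizer hd), ?_⟩
        rw [qd_mul (mul_mem (S.τ_dN v) hb) (le_normalizer hd), (qd_eq_one (le_normalizer hd)).2 hd, mul_one,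
          ← S.el_low hh hv]
        exact S.el_mem_all hh hv b
      have := mul_mem (mul_mem (inv_mem hg) hmem) hg
      rwa [show g⁻¹ * (g * y * g⁻¹) * g = y by group] at this
    cent_norm := fun g hg => by
      rw [hkmap]
      exact mem_dN_of_N (S.cent_le (S.τ_mem_K (show 1 < 4 by norm_num)) (S.τ_sq (by norm_num))
        (S.τ_ne (by norm_num) one_ne_zero) (mem_centralizer_singleton_iff.1 hg))
    classes := fun x h2 h1 => by
      rw [hkmap]
      obtain ⟨μ2, μ1⟩ := hnK x h2 h1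
      have hxN := ((S.mem_hSub hh).1 x.2).1
      have h2G : (x : G) * x = 1 := congrArg Subtype.val h2
      obtain ⟨c, n, hn, en⟩ : ∃ c : (S.rel hh).HM, ∃ n ∈ invList,
          (S.rel hh).el n = ((c * S.qH hh x * c⁻¹ : (S.rel hh).HM) : MD L) := by
        rcases Rel.exists_invList hfix _ μ2 μ1 with ⟨-, n, hn, -, e⟩ | ⟨-, -, c, n, hn, -, e⟩
        · exact ⟨1, n, hn, by rw [one_mul, inv_one, mul_one]; exact e⟩
        · exact ⟨c, n, hn, e⟩
      have h' := tab_ok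
      simp only [tabOK, Bool.and_eq_true, List.all_eq_true, Bool.or_eq_true] at h'
      obtain ⟨⟨g, eg⟩, hroot⟩ := (S.rel hh).cj_root (h'.1.1.1.1.1.1.1.1.1.1.2 n hn).1 (nodup_inv.2 n hn)
      obtain ⟨y, hy, ey⟩ := qd_surj (g⁻¹ * (c : MD L))
      have hr : rootC n < 16 := by omega
      have hq' : qd L (y * (x : G) * y⁻¹) = qd L (S.C.τ (rootC n)) := by
        rw [qd_conj hy hxN, ey, ← S.rel_τ hh, ← (S.rel hh).el_τ (show rootC n < 256 by omega)]
        have en' : (S.rel hh).el n = (c : MD L) * qd L (x : G) * (c : MD L)⁻¹ := en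
        calc g⁻¹ * (c : MD L) * qd L (x : G) * (g⁻¹ * (c : MD L))⁻¹
            = g⁻¹ * ((c : MD L) * qd L (x : G) * (c : MD L)⁻¹) * g := by group
          _ = g⁻¹ * (g * (S.rel hh).el (rootC n) * g⁻¹) * g := by rw [eg, en']
          _ = _ := by group
      obtain ⟨d, hd, ed⟩ := S.conj_of_congr hh (mul_mem (mul_mem hy hxN) (inv_mem hy)) (S.τ_dN (rootC n))
        (by rw [show y * (x : G) * y⁻¹ * (y * x * y⁻¹) = y * ((x : G) * x) * y⁻¹ by group, h2G]; group)
        (S.τ_sq hr) hq'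
      refine ⟨d * y, mul_mem (le_normalizer hd) hy, ?_⟩
      rw [show d * y * (x : G) * (d * y)⁻¹ = d * (y * x * y⁻¹) * d⁻¹ by group, ed]
      rcases hroot with hr1 | hr5
      · exact .inl (by rw [hr1])
      · exact .inr (by rw [hr5])
    L_le := fun l hl => mem_centralizer_singleton_iff.2 (S.C.τ_centre_comm hl (by norm_num)).eq
    L_perfect := S.C.perfect
    L_card := S.C.card }⟩

end Std

end CfsgLib.StdHe
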