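import Cfsg.Agent.Lib.StdHe.CzGroup
import Cfsg.Agent.Lib.HeldShape.Affine

/-!
The group in the centraliser is an extension of an extraspecial group by the simple group of order 168.
-/

set_option autoImplicit false
set_option maxRecDepth 100000
set_option synthInstance.maxSize 4096
set_option linter.style.haveILetI false
set_option synthInstance.maxHeartbeats 400000

namespace CfsgLib.StdHe

open Subgroup CfsgLib.Order168Model

universe u

/-- A basis element or the identity. -/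
def bsel (b : Bool) (n : ℕ) : ℕ := if b then n else 0

/-- The element of a vector. -/
def vA (v : ℕ) : ℕ :=
  smul (smul (bsel (Nat.beq (v % 2) 1) 11) (bsel (Nat.beq (v / 2 % 2) 1) 17)) (bsel (Nat.beq (v / 4 % 2) 1) 832)

/-- A translate by the involution. -/
def tz (t : Bool) (n : ℕ) : ℕ := if t then smul n 5 else n

/-- A matrix code from its columns. -/
def ofCols (a b c : ℕ) : ℕ :=
  asm (a.testBit 0) (b.testBit 0) (c.testBit 0) (a.testBit 1) (b.testBit 1) (c.testBit 1)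
    (a.testBit 2) (b.testBit 2) (c.testBit 2)

/-- A vector. -/
def toV (v : ℕ) : Fin 3 → ZMod 2 := fun i => if v.testBit i then 1 else 0

theorem vec_facts :
    (∀ v < 8, ∀ t : Bool, inLst listA (tz t (vA v)) = true) ∧
    (∀ v < 8, ∀ w < 8, ∀ t s : Bool,
      smul (tz t (vA v)) (tz s (vA w)) = tz (t ^^ s) (vA (v ^^^ w)) ∧ v ^^^ w < 8) ∧
    (listA.all fun a => [false, true].any fun t => (List.range 8).any fun v => Nat.beq (tz t (vA v)) a) = true ∧
    (∀ v < 8, ∀ w < 8, ∀ t s : Bool, tz t (vA v) = tz s (vA w) → v = w ∧ t = s) ∧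
    tz true (vA 0) = 5 ∧ vA 0 = 0 := by
  decide +kernel

theorem colv_vec : ∀ g : Fin 512, ∀ v : Fin 8, colv g v < 8 ∧ toV (colv g v) = (toMat g).mulVec (toV v) := by
  decide +kernel

theorem toV_inj : ∀ v : Fin 8, ∀ w : Fin 8, toV v = toV w → v = w := by decide +kernel

theorem cols_eq : ∀ g : Fin 512, ofCols (colv g 1) (colv g 2) (colv g 4) = g := by decide +kernel

theorem cols_mat' : ∀ a < 8, ∀ b < 8, ∀ c < 8,
    (!Nat.beq a 0 && !Nat.beq b 0 && !Nat.beq c 0 && !Nat.beq (a ^^^ b) 0 && !Nat.beq (a ^^^ c) 0 &&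
      !Nat.beq (b ^^^ c) 0 && !Nat.beq (a ^^^ (b ^^^ c)) 0) = true →
    (detC (ofCols a b c) && Nat.blt (ofCols a b c) 512 && Nat.beq (colv (ofCols a b c) 0) 0 &&
      Nat.beq (colv (ofCols a b c) 1) a && Nat.beq (colv (ofCols a b c) 2) b &&
      Nat.beq (colv (ofCols a b c) 3) (a ^^^ b) && Nat.beq (colv (ofCols a b c) 4) c &&
      Nat.beq (colv (ofCols a b c) 5) (a ^^^ c) && Nat.beq (colv (ofCols a b c) 6) (b ^^^ c) &&
      Nat.beq (colv (ofCols a b c) 7) (a ^^^ (b ^^^ c))) = true := by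
  decide +kernel

theorem cols_mat (a : ℕ) (ha : a < 8) (b : ℕ) (hb : b < 8) (c : ℕ) (hc : c < 8) (h1 : a ≠ 0) (h2 : b ≠ 0)
    (h3 : c ≠ 0) (h4 : a ^^^ b ≠ 0) (h5 : a ^^^ c ≠ 0) (h6 : b ^^^ c ≠ 0) (h7 : a ^^^ (b ^^^ c) ≠ 0) :
    detC (ofCols a b c) = true ∧ ofCols a b c < 512 ∧ colv (ofCols a b c) 0 = 0 ∧ colv (ofCols a b c) 1 = a ∧
      colv (ofCols a b c) 2 = b ∧ colv (ofCols a b c) 3 = a ^^^ b ∧ colv (ofCols a b c) 4 = c ∧
      colv (ofCols a b c) 5 = a ^^^ c ∧ colv (ofCols a b c) 6 = b ^^^ c ∧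
      colv (ofCols a b c) 7 = a ^^^ (b ^^^ c) := by
  have f : ∀ {x : ℕ}, x ≠ 0 → Nat.beq x 0 = false := fun h => Bool.eq_false_iff.2 fun e => h (Nat.eq_of_beq_eq_true e)
  have h := cols_mat' a ha b hb c hc (by rw [f h1, f h2, f h3, f h4, f h5, f h6, f h7]; rfl)
  simp only [Bool.and_eq_true, Nat.beq_eq, list_facts.blt_iff', and_assoc] at h
  exact h

theorem colv_mulC {g g' : ℕ} (hg : g < 512) (hg' : g' < 512) {v : ℕ} (hv : v < 8) :
    colv (mulC g' g) v = colv g' (colv g v) := by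
  obtain ⟨l1, e1⟩ := colv_vec ⟨g, hg⟩ ⟨v, hv⟩
  obtain ⟨l2, e2⟩ := colv_vec ⟨g', hg'⟩ ⟨_, l1⟩
  obtain ⟨l3, e3⟩ := colv_vec ⟨_, mulC_lt g' g⟩ ⟨v, hv⟩
  refine congrArg Fin.val (toV_inj ⟨_, l3⟩ ⟨_, l2⟩ ?_)
  rw [e3, e2, e1, Matrix.mulVec_mulVec]
  show (toMat (mulC g' g)).mulVec _ = _
  rw [toMat_mulC]

theorem colv_one : ∀ v < 8, colv 273 v = v := by decide +kernel

/-- The images of the five generators in the simple group. -/
def genFOK : Bool :=
  (List.range 8).all fun v =>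
    ([32, 128, 2].zip [309, 275, 277]).all (fun e =>
      [false, true].any fun t => Nat.beq (scj e.1 (vA v)) (tz t (vA (colv e.2 v)))) &&
    ([false, true].any fun t => Nat.beq (mI (vA v)) (tz t (vA (colv 281 v)))) &&
    ([false, true].any fun t => Nat.beq (m₂I (vA v)) (tz t (vA (colv 161 v)))) &&
    listR.all fun r => [false, true].any fun t => Nat.beq (scj r (vA v)) (tz t (vA v))

theorem genF_ok : genFOK = true := by decide +kernel

/-- Every element of the simple group is a word in the images of the generators. -/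
def wordsOK : Bool :=
  (List.range 512).all fun g => !detC g || tWords.any fun w =>
    w.all (fun i => Nat.blt i 5) && Nat.beq (w.foldr (fun i r => mulC (tGens.getD i 0) r) 273) g

theorem words_ok : wordsOK = true := by decide +kernel

/-- An element centralising the first subgroup and acting on a point as in the normal subgroup. -/
def pointOK : Bool :=
  listA.any fun a₀ => listB.any fun b₀ => Nat.beq (smul a₀ b₀) 1 && listB.all fun b =>
    !(listA.all fun a => (Nat.beq (smul a b₀) (smul b₀ a)) == (Nat.beq (smul a b) (smul b a))) ||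
      Nat.beq (smul a₀ b) 1 || Nat.beq (smul a₀ b) 4

theorem point_ok : pointOK = true := by decide +kernel

theorem small_cent : ∀ n < 512, (listA.all fun a => Nat.beq (smul n a) (smul a n)) = true → inLst listA n = true := by
  decide +kernel

theorem flips : ∀ t₁ t₂ t₄ : Bool, (listB.any fun r =>
    Nat.beq (scj r 11) (tz t₁ 11) && Nat.beq (scj r 17) (tz t₂ 17) && Nat.beq (scj r 832) (tz t₄ 832)) = true := by
  decide +kernel

/-- The checks on the normal subgroup. -/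
def shapeOK : Bool :=
  listR.all (fun x => !(listR.all fun y => Nat.beq (smul x y) (smul y x)) || Nat.beq x 0 || Nat.beq x 5) &&
    listA.all (fun a => !inLst listB a || Nat.beq a 0 || Nat.beq a 5) &&
    listR.all (fun x => !([0, 1, 4, 5, 10, 11, 14, 15, 16, 17, 20, 21, 26, 27, 30, 31].all fun d =>
      Nat.beq (smul x d) (smul d x)) || inLst [0, 1, 4, 5, 10, 11, 14, 15, 16, 17, 20, 21, 26, 27, 30, 31] x) &&
    ([0, 1, 4, 5, 10, 11, 14, 15, 16, 17, 20, 21, 26, 27, 30, 31].all fun d => inLst listR d &&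
      Nat.beq (smul d d) 0 &&
      (Nat.beq (smul (scj 2 d) (sinv d)) 0 || Nat.beq (smul (scj 2 d) (sinv d)) 11)) &&
    Nat.beq (smul 2 11) (smul 11 2) && Nat.beq (smul 2 2) 0 && !inLst listR 2 &&
    inLst listR 5 && Nat.beq (smul 5 5) 0

theorem shape_ok : shapeOK = true := by decide +kernel

theorem lists_nodup : listR.Nodup ∧ listA.Nodup ∧ listB.Nodup ∧ listA.length = 16 ∧ listB.length = 16 ∧
    listR.length = 128 := by decide +kernel

namespace Rel

variable {M : Type u} [Group M] (W : Rel M)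

/-- Elements centralising the involution and a central point. -/
def Fix : Prop :=
  ∀ μ : M, Commute μ (W.τ 5) → (Commute μ (W.τ 1) ∨ Commute μ (W.τ 2) ∨ Commute μ (W.τ 3)) →
    ∃ n < 512, W.el n = μ

theorem A_lt {n : ℕ} (hn : n ∈ listA) : n < 1024 := R_lt (list_facts.2.2.2.1 n hn).1

theorem vA_mem {v : ℕ} (hv : v < 8) (t : Bool) : tz t (vA v) ∈ listA := inLst_iff.1 (vec_facts.1 v hv t)

theorem exists_vec {a : ℕ} (ha : a ∈ listA) : ∃ v < 8, ∃ t : Bool, tz t (vA v) = a := by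
  have h := List.all_eq_true.1 vec_facts.2.2.1 a ha
  simp only [List.any_eq_true, Nat.beq_eq, List.mem_range] at h
  obtain ⟨t, -, v, hv, e⟩ := h
  exact ⟨v, hv, t, e⟩

theorem el_tz {t : Bool} {n : ℕ} (hn : n < 1024) : W.el (tz t n) = W.el n * (if t then W.τ 5 else 1) := by
  cases t
  · simp [tz]
  · rw [tz, if_pos rfl, if_pos rfl, ← W.el_mul hn (by norm_num), W.el_τ (show 5 < 256 by norm_num)]

/-- The matrix of an element. -/
def FM (μ : M) (g : ℕ) : Prop :=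
  ∀ v < 8, ∃ t : Bool, μ * W.el (vA v) * μ⁻¹ = W.el (tz t (vA (colv g v)))

theorem vA_lt {v : ℕ} (hv : v < 8) : vA v < 1024 := by
  have := A_lt (vA_mem hv false)
  simpa [tz] using this

theorem el_vA_inj {v w : ℕ} (hv : v < 8) (hw : w < 8) {t s : Bool} (h : W.el (tz t (vA v)) = W.el (tz s (vA w))) :
    v = w ∧ t = s :=
  vec_facts.2.2.2.1 v hv w hw t s (W.el_inj (A_lt (vA_mem hv t)) (A_lt (vA_mem hw s)) h)

theorem colv_lt {g v : ℕ} (hg : g < 512) (hv : v < 8) : colv g v < 8 := (colv_vec ⟨g, hg⟩ ⟨v, hv⟩).1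

theorem FM_unique {μ : M} {g g' : ℕ} (hg : g < 512) (hg' : g' < 512) (h : W.FM μ g) (h' : W.FM μ g') : g = g' := by
  have e : ∀ v < 8, colv g v = colv g' v := fun v hv => by
    obtain ⟨t, e⟩ := h v hv
    obtain ⟨t', e'⟩ := h' v hv
    exact (W.el_vA_inj (colv_lt hg hv) (colv_lt hg' hv) (e.symm.trans e')).1
  have h1 : ofCols (colv g 1) (colv g 2) (colv g 4) = g := cols_eq ⟨g, hg⟩
  have h2 : ofCols (colv g' 1) (colv g' 2) (colv g' 4) = g' := cols_eq ⟨g', hg'⟩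
  rw [← h1, ← h2]
  rw [e 1 (by norm_num), e 2 (by norm_num), e 4 (by norm_num)]

theorem FM_mul {μ ν : M} {g g' : ℕ} (hg : g < 512) (hg' : g' < 512) (h : W.FM μ g) (h' : W.FM ν g')
    (hμ : Commute μ (W.τ 5)) : W.FM (μ * ν) (mulC g g') := by
  intro v hv
  obtain ⟨s, es⟩ := h' v hv
  have hw := colv_lt hg' hv
  obtain ⟨t, et⟩ := h _ hw
  refine ⟨t ^^ s, ?_⟩
  have hlt := vA_lt (colv_lt hg hw)
  rw [colv_mulC hg' hg hv, show μ * ν * W.el (vA v) * (μ * ν)⁻¹ = μ * (ν * W.el (vA v) * ν⁻¹) * μ⁻¹ by group, es,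
    W.el_tz (vA_lt hw), show μ * (W.el (vA (colv g' v)) * if s then W.τ 5 else 1) * μ⁻¹ =
      μ * W.el (vA (colv g' v)) * μ⁻¹ * (μ * (if s then W.τ 5 else 1) * μ⁻¹) by group, et,
    W.el_tz hlt, W.el_tz hlt]
  have hc : μ * (if s then W.τ 5 else 1) * μ⁻¹ = if s then W.τ 5 else 1 := by
    cases s
    · simp
    · rw [if_pos rfl, hμ.eq, mul_inv_cancel_right]
  have h55 : W.τ 5 * W.τ 5 = 1 := by rw [W.mul, show tmul 5 5 = 0 by decide, W.τ_zero]
  rw [hc]
  cases t <;> cases s <;> simp [mul_assoc, h55]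

theorem exists_FM {μ : M} (hμ : μ ∈ W.HM) : ∃ g : T, W.FM μ g.1 := by
  obtain ⟨h5, hA, -⟩ := W.mem_HM.1 hμ
  have hi : ∀ v < 8, ∃ w < 8, ∃ t : Bool, μ * W.el (vA v) * μ⁻¹ = W.el (tz t (vA w)) := fun v hv => by
    obtain ⟨n, hn, e⟩ := (mem_normalizer_iff.1 hA _).1 ⟨vA v, by simpa [tz] using vA_mem hv false, rfl⟩
    obtain ⟨w, hw, t, rfl⟩ := exists_vec hn
    exact ⟨w, hw, t, e.symm⟩
  choose! f hf s hs using hi
  have hadd : ∀ v < 8, ∀ w < 8, f (v ^^^ w) = f v ^^^ f w := fun v hv w hw => by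
    obtain ⟨e, hlt⟩ := vec_facts.2.1 v hv w hw false false
    obtain ⟨e', hlt'⟩ := vec_facts.2.1 _ (hf v hv) _ (hf w hw) (s v) (s w)
    refine (W.el_vA_inj (t := s (v ^^^ w)) (s := s v ^^ s w) (hf _ hlt) hlt' ?_).1
    rw [← hs _ hlt, ← e', ← W.el_mul (A_lt (vA_mem (hf v hv) _)) (A_lt (vA_mem (hf w hw) _)), ← hs v hv, ← hs w hw]
    simp only [tz, Bool.xor_false, if_neg Bool.false_ne_true] at e
    rw [← e, ← W.el_mul (vA_lt hv) (vA_lt hw)]
    group
  have hne : ∀ v < 8, v ≠ 0 → f v ≠ 0 := fun v hv hv0 h0 => hv0 <| by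
    obtain ⟨a0, b0⟩ := vec_facts.2.2.2.2
    have hfix : ∀ t : Bool, μ⁻¹ * W.el (tz t (vA 0)) * μ = W.el (tz t (vA 0)) := fun t => by
      cases t
      · rw [tz, if_neg Bool.false_ne_true, b0, W.el_zero, mul_one, inv_mul_cancel]
      · rw [a0, W.el_τ (show 5 < 256 by norm_num), mul_assoc, ← h5, inv_mul_cancel_left]
    refine (W.el_vA_inj (t := false) (s := s v) hv (by norm_num) ?_).1
    rw [← hfix (s v), ← h0, ← hs v hv, tz, if_neg Bool.false_ne_true]
    group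
  have e3 := hadd 1 (by norm_num) 2 (by norm_num)
  have e5 := hadd 1 (by norm_num) 4 (by norm_num)
  have e6 := hadd 2 (by norm_num) 4 (by norm_num)
  have e7 := hadd 1 (by norm_num) 6 (by norm_num)
  simp only [Nat.reduceXor] at e3 e5 e6 e7
  rw [e6] at e7
  have hne' := fun v (hv : v < 8) (h0 : v ≠ 0) => hne v hv h0
  obtain ⟨hd, hlt, c0, c1, c2, c3, c4, c5, c6, c7⟩ := cols_mat (f 1) (hf 1 (by norm_num)) (f 2) (hf 2 (by norm_num))
    (f 4) (hf 4 (by norm_num)) (hne' 1 (by norm_num) (by norm_num)) (hne' 2 (by norm_num) (by norm_num))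
    (hne' 4 (by norm_num) (by norm_num)) (e3 ▸ hne' 3 (by norm_num) (by norm_num))
    (e5 ▸ hne' 5 (by norm_num) (by norm_num)) (e6 ▸ hne' 6 (by norm_num) (by norm_num))
    (e7 ▸ hne' 7 (by norm_num) (by norm_num))
  refine ⟨⟨⟨_, hlt⟩, hd⟩, fun v hv => ⟨s v, ?_⟩⟩
  rw [hs v hv]
  congr 3
  show f v = _
  have h00 : f 0 = 0 := by
    have := hadd 0 (by norm_num) 0 (by norm_num)
    simpa using this
  interval_cases v
  exacts [h00.trans c0.symm, c1.symm, c2.symm, e3.trans c3.symm, c4.symm, e5.trans c5.symm, e6.trans c6.symm,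
    e7.trans c7.symm]

/-- The homomorphism onto the simple group. -/
noncomputable def F : W.HM →* T :=
  MonoidHom.mk' (fun μ => (W.exists_FM μ.2).choose) fun μ ν => by
    have h1 := (W.exists_FM μ.2).choose_spec
    have h2 := (W.exists_FM ν.2).choose_spec
    have h3 := (W.exists_FM (μ * ν).2).choose_spec
    refine Subtype.ext (Fin.ext (W.FM_unique (Fin.isLt _) (mulC_lt _ _) h3 ?_))
    exact W.FM_mul (Fin.isLt _) (Fin.isLt _) h1 h2 (W.mem_HM.1 μ.2).1

theorem F_eq {μ : W.HM} {g : ℕ} (hg : g < 512) (hd : detC g = true) (h : W.FM (μ : M) g) : W.F μ = ⟨⟨g, hg⟩, hd⟩ :=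
  Subtype.ext (Fin.ext (W.FM_unique (Fin.isLt _) hg (W.exists_FM μ.2).choose_spec h))

theorem F_spec (μ : W.HM) : W.FM (μ : M) (W.F μ).1 := (W.exists_FM μ.2).choose_spec

theorem genF : (∀ e ∈ [32, 128, 2].zip [309, 275, 277], W.FM (W.el e.1) e.2) ∧ W.FM W.mu₁ 281 ∧ W.FM W.mu₂ 161 ∧
    ∀ r ∈ listR, W.FM (W.el r) 273 := by
  have h := genF_ok
  simp only [genFOK, List.all_eq_true, Bool.and_eq_true, List.any_eq_true, Nat.beq_eq, List.mem_range] at h
  have hR : ∀ {v}, v < 8 → vA v ∈ listR := fun hv => (list_facts.2.2.2.1 _ (by simpa [tz] using vA_mem hv false)).1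
  refine ⟨fun e he v hv => ?_, fun v hv => ?_, fun v hv => ?_, fun r hr v hv => ?_⟩
  · obtain ⟨t, -, ht⟩ := (h v hv).1.1.1 e he
    have hlt : e.1 < 1024 := by
      have := (List.of_mem_zip he).1
      simp only [List.mem_cons, List.not_mem_nil, or_false] at this
      omega
    exact ⟨t, by rw [W.el_conj hlt (vA_lt hv), ht]⟩
  · obtain ⟨t, -, ht⟩ := (h v hv).1.1.2
    exact ⟨t, by rw [W.mu₁_R (hR hv), ht]⟩
  · obtain ⟨t, -, ht⟩ := (h v hv).1.2
    exact ⟨t, by rw [W.mu₂_R (hR hv), ht]⟩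
  · obtain ⟨t, -, ht⟩ := (h v hv).2 r hr
    exact ⟨t, by rw [W.el_conj (R_lt hr) (vA_lt hv), ht, colv_one v hv]⟩

theorem F_surj : Function.Surjective W.F := by
  intro g
  obtain ⟨h32, hm1, hm2, -⟩ := W.genF
  have hgen : ∀ i < 5, ∃ μ : W.HM, (W.F μ).1.1 = tGens.getD i 0 := by
    have mk : ∀ (x : M) (g : ℕ), x ∈ W.HM → g < 512 → detC g = true → W.FM x g → ∃ μ : W.HM, (W.F μ).1.1 = g :=
      fun x g hx hg hd hF => ⟨⟨x, hx⟩, by rw [W.F_eq hg hd hF]⟩
    intro i hi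
    interval_cases i
    · exact mk _ 309 (W.el_mem_HM (g := 32) (by simp)) (by norm_num) (by decide +kernel) (h32 (32, 309) (by decide))
    · exact mk _ 275 (W.el_mem_HM (g := 128) (by simp)) (by norm_num) (by decide +kernel) (h32 (128, 275) (by decide))
    · exact mk _ 277 (W.el_mem_HM (g := 2) (by simp)) (by norm_num) (by decide +kernel) (h32 (2, 277) (by decide))
    · exact mk _ 281 W.mu₁_mem (by norm_num) (by decide +kernel) hm1
    · exact mk _ 161 W.mu₂_mem (by norm_num) (by decide +kernel) hm2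
  have h := words_ok
  simp only [wordsOK, List.all_eq_true, List.mem_range, Bool.or_eq_true, Bool.not_eq_true', List.any_eq_true,
    Bool.and_eq_true, Nat.beq_eq, list_facts.blt_iff'] at h
  obtain h | ⟨w, -, hw, e⟩ := h g.1 g.1.2
  · exact absurd g.2 (by rw [h]; decide)
  suffices ∀ w : List ℕ, (∀ i ∈ w, i < 5) →
      ∃ μ : W.HM, (W.F μ).1.1 = w.foldr (fun i r => mulC (tGens.getD i 0) r) 273 by
    obtain ⟨μ, hμ⟩ := this w hw
    exact ⟨μ, Subtype.ext (Fin.ext (hμ.trans e))⟩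
  intro w
  induction w with
  | nil => exact fun _ => ⟨1, by rw [map_one]; rfl⟩
  | cons i w ih =>
    intro hw
    obtain ⟨μ, hμ⟩ := ih fun j hj => hw j (List.mem_cons_of_mem _ hj)
    obtain ⟨ν, hν⟩ := hgen i (hw i List.mem_cons_self)
    exact ⟨ν * μ, by rw [map_mul, List.foldr_cons, ← hμ, ← hν]; rfl⟩

theorem cent_A (hfix : W.Fix) {μ : M} (hμ : μ ∈ W.HM) (hc : ∀ a ∈ listA, Commute μ (W.el a)) :
    ∃ n ∈ listA, W.el n = μ := by
  obtain ⟨h5, -, hB⟩ := W.mem_HM.1 hμ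
  have h := point_ok
  simp only [pointOK, List.any_eq_true, Bool.and_eq_true, List.all_eq_true, Bool.or_eq_true, Bool.not_eq_true',
    Nat.beq_eq] at h
  obtain ⟨a₀, ha₀, b₀, hb₀, e₀, hall⟩ := h
  obtain ⟨b, hb, eb⟩ := (mem_normalizer_iff.1 hB _).1 ⟨b₀, hb₀, rfl⟩
  have la := A_lt ha₀
  have lb₀ := R_lt (list_facts.2.2.2.2.1 b₀ hb₀).1
  have lb := R_lt (list_facts.2.2.2.2.1 b hb).1
  have hr : μ * W.τ 1 * μ⁻¹ = W.el (smul a₀ b) := by
    rw [← W.el_τ (show 1 < 256 by norm_num), ← e₀, ← W.el_mul la lb₀, ← W.el_mul la lb,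
      show μ * (W.el a₀ * W.el b₀) * μ⁻¹ = μ * W.el a₀ * μ⁻¹ * (μ * W.el b₀ * μ⁻¹) by group, ← eb, (hc a₀ ha₀).eq,
      mul_inv_cancel_right]
  have hcomm : ∀ {p q : ℕ}, p < 1024 → q < 1024 → (smul p q = smul q p ↔ Commute (W.el p) (W.el q)) := fun hp hq => by
    refine ⟨fun e => ?_, fun e => W.el_inj (smul_lt hp hq) (smul_lt hq hp) ?_⟩
    · show _ = _
      rw [W.el_mul hp hq, W.el_mul hq hp, e]
    · rw [← W.el_mul hp hq, ← W.el_mul hq hp]; exact e
  obtain ⟨ν, hν, hνA, hν1⟩ : ∃ ν, (ν = μ ∨ ν = W.el 832 * μ) ∧ (∀ a ∈ listA, Commute ν (W.el a)) ∧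
      Commute ν (W.τ 1) := by
    obtain h | h | h : (¬ ∀ a ∈ listA, (Nat.beq (smul a b₀) (smul b₀ a) == Nat.beq (smul a b) (smul b a)) = true) ∨
        smul a₀ b = 1 ∨ smul a₀ b = 4 := by
      rcases hall b hb with (h | h) | h
      · exact .inl fun h' => by
          rw [← Bool.not_eq_true, List.all_eq_true] at h
          exact h h'
      · exact .inr (.inl h)
      · exact .inr (.inr h)
    · exfalso
      refine h fun a ha => ?_
      rw [beq_iff_eq, Bool.eq_iff_iff, Nat.beq_eq, Nat.beq_eq, hcomm (A_lt ha) lb₀, hcomm (A_lt ha) lb]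
      have e : μ * W.el a * μ⁻¹ = W.el a := by rw [(hc a ha).eq, mul_inv_cancel_right]
      conv_lhs => rw [← Commute.conj_iff μ, e, ← eb]
    · refine ⟨μ, .inl rfl, hc, mul_inv_eq_iff_eq_mul.1 ?_⟩
      rw [hr, h, W.el_τ (by norm_num)]
    · refine ⟨_, .inr rfl, fun a ha => ?_, mul_inv_eq_iff_eq_mul.1 ?_⟩
      · refine Commute.mul_left ((hcomm (by norm_num) (A_lt ha)).1 ?_) (hc a ha)
        have key : listA.all (fun a => Nat.beq (smul 832 a) (smul a 832)) = true := by decide +kernel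
        exact Nat.eq_of_beq_eq_true (List.all_eq_true.1 key a ha)
      · rw [show W.el 832 * μ * W.τ 1 * (W.el 832 * μ)⁻¹ = W.el 832 * (μ * W.τ 1 * μ⁻¹) * (W.el 832)⁻¹ by group, hr, h,
          W.el_conj (by norm_num) (by norm_num), show scj 832 4 = 1 by decide +kernel, W.el_τ (by norm_num)]
  have hν5 : Commute ν (W.τ 5) := by
    rw [← W.el_τ (show 5 < 256 by norm_num)]
    exact hνA 5 (by decide)
  obtain ⟨n, hn, en⟩ := hfix ν hν5 (.inl hν1)
  have hnA : n ∈ listA := inLst_iff.1 (small_cent n hn (List.all_eq_true.2 fun a ha => Nat.beq_eq.mpr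
    ((hcomm (by omega) (A_lt ha)).2 (en ▸ hνA a ha))))
  rcases hν with rfl | rfl
  · exact ⟨n, hnA, en⟩
  · refine ⟨smul 832 n, (list_facts.2.2.2.1 832 (by decide)).2.1 n hnA, ?_⟩
    rw [← W.el_mul (by norm_num) (by omega), en, ← mul_assoc, W.el_mul (by norm_num) (by norm_num),
      show smul 832 832 = 0 by decide +kernel, W.el_zero, one_mul]

theorem ker_F (hfix : W.Fix) {μ : W.HM} (h : W.F μ = 1) : ∃ n ∈ listR, W.el n = (μ : M) := by
  have hF : W.FM (μ : M) 273 := by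
    have := W.F_spec μ
    rwa [h] at this
  obtain ⟨t₁, e₁⟩ := hF 1 (by norm_num)
  obtain ⟨t₂, e₂⟩ := hF 2 (by norm_num)
  obtain ⟨t₄, e₄⟩ := hF 4 (by norm_num)
  rw [colv_one 1 (by norm_num), show vA 1 = 11 by decide +kernel] at e₁
  rw [colv_one 2 (by norm_num), show vA 2 = 17 by decide +kernel] at e₂
  rw [colv_one 4 (by norm_num), show vA 4 = 832 by decide +kernel] at e₄
  obtain ⟨r, hr, hrB⟩ : ∃ r ∈ listB, scj r 11 = tz t₁ 11 ∧ scj r 17 = tz t₂ 17 ∧ scj r 832 = tz t₄ 832 := by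
    have := flips t₁ t₂ t₄
    simp only [List.any_eq_true, Bool.and_eq_true, Nat.beq_eq, and_assoc] at this
    exact this
  have hrR := (list_facts.2.2.2.2.1 r hr).1
  have lr := R_lt hrR
  have fix : ∀ a t, a < 1024 → (μ : M) * W.el a * (μ : M)⁻¹ = W.el (tz t a) → scj r a = tz t a →
      Commute ((W.el r)⁻¹ * μ) (W.el a) := fun a t ha e e' => mul_inv_eq_iff_eq_mul.1 (by
    rw [show (W.el r)⁻¹ * μ * W.el a * ((W.el r)⁻¹ * μ)⁻¹ = (W.el r)⁻¹ * ((μ : M) * W.el a * (μ : M)⁻¹) * W.el r by group,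
      e, ← e', ← W.el_conj lr ha]
    group)
  have hmem : (W.el r)⁻¹ * (μ : M) ∈ W.HM :=
    mul_mem (inv_mem (W.el_mem_HM (List.mem_append_left _ hrR))) μ.2
  have c5 : Commute ((W.el r)⁻¹ * (μ : M)) (W.τ 5) := (W.mem_HM.1 hmem).1
  have c1 := fix 11 t₁ (by norm_num) e₁ hrB.1
  have c2 := fix 17 t₂ (by norm_num) e₂ hrB.2.1
  have c4 := fix 832 t₄ (by norm_num) e₄ hrB.2.2
  obtain ⟨n, hn, en⟩ := W.cent_A hfix hmem fun a ha => by
    obtain ⟨v, hv, t, rfl⟩ := exists_vec ha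
    rw [W.el_tz (vA_lt hv)]
    refine Commute.mul_right ?_ (by cases t <;> simp [c5])
    have hb : ∀ b n, n < 1024 → Commute ((W.el r)⁻¹ * (μ : M)) (W.el n) →
        bsel b n < 1024 ∧ Commute ((W.el r)⁻¹ * (μ : M)) (W.el (bsel b n)) := fun b n hn h => by
      cases b
      · simp [bsel, W.el_zero]
      · exact ⟨hn, h⟩
    obtain ⟨l1, d1⟩ := hb (Nat.beq (v % 2) 1) 11 (by norm_num) c1
    obtain ⟨l2, d2⟩ := hb (Nat.beq (v / 2 % 2) 1) 17 (by norm_num) c2
    obtain ⟨l4, d4⟩ := hb (Nat.beq (v / 4 % 2) 1) 832 (by norm_num) c4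
    rw [vA, ← W.el_mul (smul_lt l1 l2) l4, ← W.el_mul l1 l2]
    exact (d1.mul_right d2).mul_right d4
  exact ⟨smul r n, R_smul hrR (list_facts.2.2.2.1 n hn).1, by rw [← W.el_mul lr (A_lt hn), en, mul_inv_cancel_left]⟩

theorem mem_kerF (hfix : W.Fix) (μ : W.HM) : μ ∈ W.F.ker ↔ ∃ n ∈ listR, W.el n = (μ : M) := by
  refine ⟨W.ker_F hfix, fun ⟨n, hn, e⟩ => ?_⟩
  rw [MonoidHom.mem_ker, W.F_eq (g := 273) (by norm_num) detC_one (e ▸ W.genF.2.2.2 n hn)]
  rfl

theorem card_of_list {l : List ℕ} (hl : l.Nodup) (hlt : ∀ n ∈ l, n < 1024) (S : Subgroup W.HM)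
    (hS : ∀ μ : W.HM, μ ∈ S ↔ ∃ n ∈ l, W.el n = (μ : M)) (hmem : ∀ n ∈ l, W.el n ∈ W.HM) :
    Nat.card S = l.length := by
  classical
  let f : {n // n ∈ l} → S := fun n => ⟨⟨W.el n.1, hmem n.1 n.2⟩, (hS _).2 ⟨n.1, n.2, rfl⟩⟩
  have hf : Function.Bijective f := by
    refine ⟨fun a b e => Subtype.ext (W.el_inj (hlt _ a.2) (hlt _ b.2) (congrArg (fun x : S => ((x : W.HM) : M)) e)),
      fun ⟨μ, hμ⟩ => ?_⟩
    obtain ⟨n, hn, e⟩ := (hS μ).1 hμ
    exact ⟨⟨n, hn⟩, Subtype.ext (Subtype.ext e)⟩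
  rw [← Nat.card_congr (Equiv.ofBijective f hf), Nat.card_eq_fintype_card,
    Fintype.card_of_subtype l.toFinset (fun x => List.mem_toFinset), List.toFinset_card_of_nodup hl]

/-- The shape. -/
noncomputable def shape (hfix : W.Fix) : HeldShape.Shape W.HM where
  z := ⟨W.el 5, W.el_mem_HM (List.mem_append_left _ (by decide))⟩
  R := W.F.ker
  A := W.sA.subgroupOf W.HM
  B := W.sB.subgroupOf W.HM
  A_normal := ⟨fun x hx μ => ((mem_normalizer_iff.1 (W.mem_HM.1 μ.2).2.1) (x : M)).1 hx⟩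
  B_normal := ⟨fun x hx μ => ((mem_normalizer_iff.1 (W.mem_HM.1 μ.2).2.2) (x : M)).1 hx⟩
  zz := Subtype.ext (by
    show W.el 5 * W.el 5 = 1
    rw [W.el_mul (by norm_num) (by norm_num), show smul 5 5 = 0 by decide +kernel, W.el_zero])
  z_ne h := absurd (W.el_eq_one (by norm_num) (congrArg Subtype.val h)) (by norm_num)
  z_comm μ := Subtype.ext (by
    show (μ : M) * W.el 5 = W.el 5 * (μ : M)
    rw [W.el_τ (show 5 < 256 by norm_num)]
    exact (W.mem_HM.1 μ.2).1)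
  A_le μ hμ := by
    obtain ⟨n, hn, e⟩ := hμ
    exact (W.mem_kerF hfix μ).2 ⟨n, (list_facts.2.2.2.1 n hn).1, e⟩
  B_le μ hμ := by
    obtain ⟨n, hn, e⟩ := hμ
    exact (W.mem_kerF hfix μ).2 ⟨n, (list_facts.2.2.2.2.1 n hn).1, e⟩
  z_A := ⟨5, by decide, rfl⟩
  z_B := ⟨5, by decide, rfl⟩
  sq_A μ hμ := by
    obtain ⟨n, hn, e⟩ := hμ
    refine Subtype.ext ?_
    show (μ : M) * μ = 1
    rw [← show W.el n = (μ : M) from e, W.el_mul (A_lt hn) (A_lt hn), (list_facts.2.2.2.1 n hn).2.2.2.2, W.el_zero]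
  sq_B μ hμ := by
    obtain ⟨n, hn, e⟩ := hμ
    have l := R_lt (list_facts.2.2.2.2.1 n hn).1
    refine Subtype.ext ?_
    show (μ : M) * μ = 1
    rw [← show W.el n = (μ : M) from e, W.el_mul l l, (list_facts.2.2.2.2.1 n hn).2.2.2.2, W.el_zero]
  card_A := (W.card_of_list lists_nodup.2.1 (fun n hn => A_lt hn) _ (fun μ => Iff.rfl)
    fun n hn => W.el_mem_HM (List.mem_append_left _ (list_facts.2.2.2.1 n hn).1)).trans lists_nodup.2.2.2.1
  card_B := (W.card_of_list lists_nodup.2.2.1 (fun n hn => R_lt (list_facts.2.2.2.2.1 n hn).1) _ (fun μ => Iff.rfl)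
    fun n hn => W.el_mem_HM (List.mem_append_left _ (list_facts.2.2.2.2.1 n hn).1)).trans lists_nodup.2.2.2.2.1
  card_R := (W.card_of_list lists_nodup.1 (fun n hn => R_lt hn) _ (fun μ => W.mem_kerF hfix μ)
    fun n hn => W.el_mem_HM (List.mem_append_left _ hn)).trans lists_nodup.2.2.2.2.2
  inf_AB μ hμ hμ' := by
    obtain ⟨n, hn, e⟩ := hμ
    obtain ⟨m, hm, e'⟩ := hμ'
    have hnm := W.el_inj (A_lt hn) (R_lt (list_facts.2.2.2.2.1 m hm).1) (e.trans e'.symm)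
    have h := shape_ok
    simp only [shapeOK, Bool.and_eq_true, List.all_eq_true, Bool.or_eq_true, Bool.not_eq_true', Nat.beq_eq] at h
    rcases h.1.1.1.1.1.1.1.2 n hn with (h' | h') | h'
    · exact absurd (inLst_iff.2 (hnm ▸ hm)) (by rw [h']; decide)
    · exact .inl (Subtype.ext (by rw [← show W.el n = (μ : M) from e, h', W.el_zero]; rfl))
    · exact .inr (Subtype.ext (by rw [← show W.el n = (μ : M) from e, h']))
  center_R μ hμ hc := by
    obtain ⟨n, hn, e⟩ := (W.mem_kerF hfix μ).1 hμ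
    have h := shape_ok
    simp only [shapeOK, Bool.and_eq_true, List.all_eq_true, Bool.or_eq_true, Bool.not_eq_true', Nat.beq_eq] at h
    rcases h.1.1.1.1.1.1.1.1 n hn with (h' | h') | h'
    · exfalso
      rw [← Bool.not_eq_true, List.all_eq_true] at h'
      refine h' fun m hm => Nat.beq_eq.mpr (W.el_inj (smul_lt (R_lt hn) (R_lt hm)) (smul_lt (R_lt hm) (R_lt hn)) ?_)
      rw [← W.el_mul (R_lt hn) (R_lt hm), ← W.el_mul (R_lt hm) (R_lt hn), e]
      exact congrArg Subtype.val (hc ⟨W.el m, W.el_mem_HM (List.mem_append_left _ hm)⟩ ((W.mem_kerF hfix _).2 ⟨m, hm, rfl⟩))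
    · exact .inl (Subtype.ext (by rw [← e, h', W.el_zero]; rfl))
    · exact .inr (Subtype.ext (by rw [← e, h']))
  F := W.F
  F_surj := W.F_surj
  F_ker := rfl
  cent_A μ hμ := by
    obtain ⟨n, hn, e⟩ := W.cent_A hfix μ.2 fun a ha =>
      congrArg Subtype.val (hμ ⟨W.el a, W.el_mem_HM (List.mem_append_left _ (list_facts.2.2.2.1 a ha).1)⟩ ⟨a, ha, rfl⟩)
    exact (W.mem_kerF hfix μ).2 ⟨n, (list_facts.2.2.2.1 n hn).1, e⟩
  a := ⟨W.el 11, W.el_mem_HM (List.mem_append_left _ (by decide))⟩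
  a_mem := ⟨11, by decide, rfl⟩
  a_ne h := absurd (W.el_eq_one (by norm_num) (congrArg Subtype.val h)) (by norm_num)
  a_ne_z h := absurd (W.el_inj (n := 11) (m := 5) (by norm_num) (by norm_num) (congrArg Subtype.val h)) (by norm_num)
  D :=
    { carrier := {μ | ∃ n ∈ [0, 1, 4, 5, 10, 11, 14, 15, 16, 17, 20, 21, 26, 27, 30, 31], W.el n = (μ : M)}
      one_mem' := ⟨0, by decide, W.el_zero⟩
      mul_mem' := by
        rintro μ ν ⟨a, ha, ea⟩ ⟨b, hb, eb⟩
        have key : ∀ a ∈ [0, 1, 4, 5, 10, 11, 14, 15, 16, 17, 20, 21, 26, 27, 30, 31],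
            ∀ b ∈ [0, 1, 4, 5, 10, 11, 14, 15, 16, 17, 20, 21, 26, 27, 30, 31],
            smul a b ∈ [0, 1, 4, 5, 10, 11, 14, 15, 16, 17, 20, 21, 26, 27, 30, 31] ∧ a < 1024 := by decide +kernel
        refine ⟨smul a b, (key a ha b hb).1, ?_⟩
        rw [Subgroup.coe_mul, ← ea, ← eb, W.el_mul (key a ha b hb).2 (key b hb a ha).2]
      inv_mem' := by
        rintro μ ⟨a, ha, ea⟩
        have key : ∀ a ∈ [0, 1, 4, 5, 10, 11, 14, 15, 16, 17, 20, 21, 26, 27, 30, 31], sinv a = a ∧ a < 1024 := by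
          decide +kernel
        exact ⟨a, ha, by rw [Subgroup.coe_inv, ← ea, W.el_inv (key a ha).2, (key a ha).1]⟩ }
  y := ⟨W.el 2, W.el_mem_HM (by decide)⟩
  y_out h := by
    obtain ⟨n, hn, e⟩ := (W.mem_kerF hfix _).1 h
    have := W.el_inj (R_lt hn) (by norm_num) (show W.el n = W.el 2 from e)
    exact absurd (this ▸ hn) (by decide)
  y_a := Subtype.ext (by
    show W.el 2 * W.el 11 = W.el 11 * W.el 2
    rw [W.el_mul (by norm_num) (by norm_num), W.el_mul (by norm_num) (by norm_num),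
      show smul 2 11 = smul 11 2 by decide +kernel])
  y_sq := .inl (Subtype.ext (by
    show W.el 2 * W.el 2 = 1
    rw [W.el_mul (by norm_num) (by norm_num), show smul 2 2 = 0 by decide +kernel, W.el_zero]))
  D_le μ hμ := by
    obtain ⟨n, hn, e⟩ := hμ
    exact (W.mem_kerF hfix μ).2 ⟨n, (by decide : ∀ n ∈ [0, 1, 4, 5, 10, 11, 14, 15, 16, 17, 20, 21, 26, 27, 30, 31],
      n ∈ listR) n hn, e⟩
  D_sq μ hμ := by
    obtain ⟨n, hn, e⟩ := hμ
    have key : ∀ a ∈ [0, 1, 4, 5, 10, 11, 14, 15, 16, 17, 20, 21, 26, 27, 30, 31], smul a a = 0 ∧ a < 1024 := by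
      decide +kernel
    refine Subtype.ext ?_
    show (μ : M) * μ = 1
    rw [← e, W.el_mul (key n hn).2 (key n hn).2, (key n hn).1, W.el_zero]
  D_self μ hμ hc := by
    obtain ⟨n, hn, e⟩ := (W.mem_kerF hfix μ).1 hμ
    have h := shape_ok
    simp only [shapeOK, Bool.and_eq_true, List.all_eq_true, Bool.or_eq_true, Bool.not_eq_true', Nat.beq_eq] at h
    rcases h.1.1.1.1.1.1.2 n hn with h' | h'
    · exfalso
      rw [← Bool.not_eq_true, List.all_eq_true] at h'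
      refine h' fun m hm => Nat.beq_eq.mpr ?_
      obtain ⟨hmR, -⟩ := (h.1.1.1.1.1.2 m hm).1
      have hmR := inLst_iff.1 hmR
      refine W.el_inj (smul_lt (R_lt hn) (R_lt hmR)) (smul_lt (R_lt hmR) (R_lt hn)) ?_
      rw [← W.el_mul (R_lt hn) (R_lt hmR), ← W.el_mul (R_lt hmR) (R_lt hn), e]
      exact congrArg Subtype.val (hc ⟨W.el m, W.el_mem_HM (List.mem_append_left _ hmR)⟩ ⟨m, hm, rfl⟩)
    · exact ⟨n, inLst_iff.1 h', e⟩
  y_D μ hμ := by
    obtain ⟨n, hn, e⟩ := hμ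
    have h := shape_ok
    simp only [shapeOK, Bool.and_eq_true, List.all_eq_true, Bool.or_eq_true, Bool.not_eq_true', Nat.beq_eq] at h
    obtain ⟨⟨hR, -⟩, h'⟩ := h.1.1.1.1.1.2 n hn
    have hlt := R_lt (inLst_iff.1 hR)
    have key : W.el 2 * W.el n * (W.el 2)⁻¹ * (W.el n)⁻¹ = W.el (smul (scj 2 n) (sinv n)) := by
      rw [W.el_conj (by norm_num) hlt, W.el_inv hlt, W.el_mul (scj_lt (by norm_num) hlt) (sinv_lt hlt)]
    rcases h' with h' | h'
    · refine .inl (Subtype.ext ?_)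
      show W.el 2 * (μ : M) * (W.el 2)⁻¹ * (μ : M)⁻¹ = 1
      rw [← e, key, h', W.el_zero]
    · refine .inr (Subtype.ext ?_)
      show W.el 2 * (μ : M) * (W.el 2)⁻¹ * (μ : M)⁻¹ = W.el 11
      rw [← e, key, h']

end Rel

end CfsgLib.StdHe
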