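import Cfsg.Agent.Lib.StdHe.RecMain
import Cfsg.Agent.Lib.HeldRecog.Simple
import Cfsg.Agent.Lib.TwoFusion.StrongEmb

/-!
The data of a standard subgroup of type `2².L₃(4)` lead to the Held group.
-/

set_option autoImplicit false
set_option maxRecDepth 100000

namespace CfsgLib.StdHe

open Subgroup CfsgLib.HeldRecog CfsgLib.HeCent CfsgLib.CosetEnum

universe u

section recognition

/-- Of three involutions centralising `z` and not conjugate to it, two are conjugate in the centraliser. -/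
def TwoCls {G : Type*} [Group G] (z : G) : Prop :=
  ∀ x : Fin 3 → G, (∀ i, Commute (x i) z ∧ x i * x i = 1 ∧ x i ≠ 1 ∧ ¬ ∃ g, g * z * g⁻¹ = x i) →
    ∃ i j, i ≠ j ∧ ∃ h, Commute h z ∧ h * x i * h⁻¹ = x j

theorem TwoCls.map {G G' : Type*} [Group G] [Group G'] (e : G ≃* G') {z : G} (h : TwoCls z) : TwoCls (e z) := by
  intro x hx
  obtain ⟨i, j, hij, g, hg, hc⟩ := h (fun i => e.symm (x i)) fun i => by
    obtain ⟨h1, h2, h3, h4⟩ := hx i
    refine ⟨?_, by rw [← map_mul, h2, map_one], fun e1 => h3 ((map_eq_one_iff _ e.symm.injective).mp e1),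
      fun ⟨g, hg⟩ => h4 ⟨e g, by rw [← map_inv, ← map_mul, ← map_mul, hg, e.apply_symm_apply]⟩⟩
    have := h1.map e.symm.toMonoidHom
    simpa using this
  refine ⟨i, j, hij, e g, hg.map e.toMonoidHom, ?_⟩
  rw [← e.apply_symm_apply (x i), ← map_inv, ← map_mul, ← map_mul, hc, e.apply_symm_apply]

theorem three_reps {G : Type*} [Group G] {E : Emb G} (h : TwoCls E.z) (k : Fin 3 → ℕ) (hk : ∀ i, k i < 8)
    (hinj : Function.Injective k) (hn : ∀ i, ¬ E.IsZ (E.φ (rep (k i)))) : False := by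
  obtain ⟨i, j, hij, g, hg, hc⟩ := h (fun i => E.φ (rep (k i))) fun i => by
    obtain ⟨h2, h1⟩ := inCls_sq (hk i) (y := rep (k i)) ⟨1, by group⟩
    exact ⟨E.comm_z _, by rw [← map_mul, h2, map_one], fun e => h1 (E.inj (e.trans (map_one _).symm)), hn i⟩
  obtain ⟨y, rfl⟩ := (E.mem_range g).mp hg.eq
  rw [← map_inv, ← map_mul, ← map_mul] at hc
  refine hij (hinj ?_)
  rw [← clsOf_of_inCls (hk i) ⟨y, (E.inj hc).symm⟩ (rep_hasCode (hk j)),
    clsOf_of_inCls (hk j) ⟨1, by group⟩ (rep_hasCode (hk j))]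

theorem not_mat24 {G : Type} [Group G] [Finite G] (C : Ctx G 0) (h : TwoCls C.z) (hb : InBranch C 59 0) :
    False := by
  refine three_reps (E := C.toEmb) h ![0, 1, 7] (by decide) (by decide) ?_
  intro i
  fin_cases i
  exacts [C.toEmb.not_small (k := 0) (by norm_num), C.toEmb.not_small (k := 1) (by norm_num),
    (mat24_sound C hb).not_isZ_rep mat24N_ok.2 (C.toEmb.not_small (by norm_num))]

theorem not_l5 {G : Type} [Group G] [Finite G] (T : Two G) (h : TwoCls T.A.z) : False := by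
  obtain ⟨T', θ, hA, -, hθ⟩ := exists_l5Hom T
  rw [← hA] at h
  have hk := l5End_ok
  simp only [l5EndOK, Bool.and_eq_true] at hk
  refine three_reps (E := T'.A.toEmb) h ![0, 1, 5] (by decide) (by decide) ?_
  intro i
  fin_cases i
  · exact T'.A.toEmb.not_small (k := 0) (by norm_num)
  · exact T'.A.toEmb.not_small (k := 1) (by norm_num)
  · intro h5
    refine T'.A.toEmb.not_small (k := 0) (by norm_num) ?_
    rw [← Two.conj6 hθ hk.1.2 (rep_hasCode (k := 5) (by norm_num)) (rep_hasCode (by norm_num))]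
    exact T'.A.toEmb.isZ_conj h5 _

theorem swap_twoCls {G : Type} [Group G] [Finite G] (S : Swap G) (h : TwoCls S.z) :
    Cfsg.Spor.IsoHe G ∨ ∃ C : Ctx G 3, C.toEmb = S.toEmb := by
  obtain ⟨S', k, hk, hp, hemb, hsq⟩ := exists_normal S
  let C : Ctx G k := { S' with sq := hsq, pref := hp }
  have hz : TwoCls C.z := by
    show TwoCls S'.toEmb.z
    rw [hemb]
    exact h
  interval_cases k
  · rcases branch_cases C with hb | hb
    · exact Or.inl (he_iso C hb)
    · exact (not_mat24 C hz hb).elim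
  · exact (not_one_two C (Or.inl rfl)).elim
  · exact (not_one_two C (Or.inr rfl)).elim
  · exact Or.inr ⟨C, hemb⟩

theorem he_of_twoCls {G : Type} [Group G] [Finite G] [IsSimpleGroup G] (D : Emb G) (hD : TwoCls D.z) :
    Cfsg.Spor.IsoHe G := by
  have hsw : ∃ S : Swap G, S.z = D.z := by
    rcases fuse_or_isolated D with ⟨g, hg⟩ | ⟨g, hg⟩ | hiso
    · obtain ⟨h, hh⟩ := rep_two
      obtain ⟨S, hS⟩ := D.twist.exists_swap_of_three (g := D.φ h * g) (by
        show D.φ h * g * D.z * (D.φ h * g)⁻¹ = D.φ (tau Xh)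
        rw [← tau_Yh, tau_tau, ← hh, map_mul, map_mul, map_inv, ← hg]
        group)
      exact ⟨S, (congrArg Emb.z hS : S.z = D.twist.z)⟩
    · obtain ⟨h, hh⟩ := rep_three
      obtain ⟨S, hS⟩ := D.exists_swap_of_three (g := D.φ h * g) (by
        rw [← hh, map_mul, map_mul, map_inv, ← hg]
        group)
      exact ⟨S, congrArg Emb.z hS⟩
    · exact absurd hiso (not_isolated D)
  obtain ⟨S, hS⟩ := hsw
  have hS' : TwoCls S.z := hS.symm ▸ hD
  rcases swap_twoCls S hS' with h | ⟨C, hC⟩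
  · exact h
  have hC' : TwoCls C.z := (congrArg Emb.z hC).symm ▸ hS'
  by_cases h2 : C.toEmb.IsZ (C.φ (rep 2))
  · obtain ⟨g, hg⟩ := h2
    obtain ⟨h, hh⟩ := rep_two
    obtain ⟨S2, hS2⟩ := C.toEmb.twist.exists_swap_of_three (g := C.φ h * g) (by
      show C.φ h * g * C.z * (C.φ h * g)⁻¹ = C.φ (tau Xh)
      rw [← tau_Yh, tau_tau, ← hh, map_mul, map_mul, map_inv, ← hg]
      group)
    have hz2 : TwoCls S2.z := (congrArg Emb.z hS2).symm ▸ hC'
    rcases swap_twoCls S2 hz2 with h | ⟨C2, hC2⟩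
    · exact h
    · exact (not_l5 ⟨C, C2, hC2.trans hS2⟩ hC').elim
  · exact (p_not_simple C h2).elim

end recognition

variable {G : Type u} [Group G] {t z : G}

namespace Core

variable {L : Subgroup G} (D : Core L t z)

theorem sylow_center [Finite G] (S : Sylow 2 D.H) {x : D.H} (hxS : x ∈ (S : Subgroup D.H)) (h2 : x * x = 1)
    (h1 : x ≠ 1) (hc : ∀ y ∈ (S : Subgroup D.H), y * x = x * y) : x = ⟨z, D.z_mem⟩ := by
  haveI : Fact (Nat.Prime 2) := ⟨Nat.prime_two⟩
  set z0 : D.H := ⟨z, D.z_mem⟩ with hz0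
  have e1 : D.ρ x ≠ 1 := fun e => h1 (D.eq_of_code S.2 hxS (one_mem _) (e.trans (map_one _).symm))
  obtain ⟨k, hk, c, hc'⟩ := inv_cases (x := D.ρ x) (by rw [← map_mul, h2, map_one]) e1
  set f : D.H →* HS := ((MulAut.conj c⁻¹).toMonoidHom).comp D.ρ with hf
  have hfx : f x = rep k := by
    show c⁻¹ * D.ρ x * c⁻¹⁻¹ = rep k
    rw [hc']; group
  have hle : (S : Subgroup D.H).map f ≤ centralizer ({rep k} : Set HS) := by
    rintro _ ⟨y, hy, rfl⟩
    rw [mem_centralizer_singleton_iff, ← hfx, ← map_mul, hc y hy, map_mul]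
  have hdvd : 2 ^ 10 ∣ Nat.card D.H := by
    refine dvd_trans ?_ (Subgroup.card_dvd_of_surjective D.ρ D.surj)
    rw [card_HS]; exact ⟨21, rfl⟩
  have hcard : Nat.card ((S : Subgroup D.H).map f) = Nat.card (S : Subgroup D.H) := by
    have hg : Function.Injective (f.comp (S : Subgroup D.H).subtype) := fun a b e =>
      Subtype.ext (D.eq_of_code S.2 a.2 b.2 ((MulAut.conj c⁻¹).injective e))
    rw [← Subgroup.range_subtype (S : Subgroup D.H), MonoidHom.map_range, Subgroup.range_subtype]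
    exact (Nat.card_congr (MonoidHom.ofInjective hg).toEquiv).symm
  have h3 : 2 ^ 10 ∣ centSize.getD k 0 := by
    refine dvd_trans (S.pow_dvd_card_of_pow_dvd_card hdvd) ?_
    rw [← hcard, ← card_cent_rep hk]
    exact (Subgroup.card_dvd_of_le hle).trans (dvd_of_eq (Nat.card_congr (Equiv.subtypeEquivRight
      fun y : HS => mem_centralizer_singleton_iff (g := rep k) (k := y))))
  have h6 : k = 6 := by
    interval_cases k <;> simp [centSize] at h3 ⊢
  have hzS : z0 ∈ (S : Subgroup D.H) := by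
    have hcen : ∀ y : D.H, y * z0 = z0 * y := fun y => Subtype.ext (D.z_comm y.2).eq
    have hle' : zpowers z0 ≤ normalizer ((S : Subgroup D.H) : Set D.H) := by
      rw [zpowers_le]
      refine mem_normalizer_iff.mpr fun y => ?_
      rw [← hcen y, mul_inv_cancel_right]
    obtain ⟨Q, hQ⟩ := (show IsPGroup 2 (zpowers z0) by
      rintro ⟨y, hy⟩
      obtain ⟨r, rfl⟩ := mem_zpowers_iff.mp hy
      refine ⟨1, Subtype.ext ?_⟩
      show (z0 ^ r) ^ 2 ^ 1 = 1
      rw [← zpow_natCast, ← zpow_mul, mul_comm, zpow_mul, zpow_natCast, pow_one, pow_two,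
        show z0 * z0 = 1 from Subtype.ext (show z * z = 1 by rw [← pow_two, ← D.z_ord, pow_orderOf_eq_one]),
        one_zpow]).exists_le_sylow
    obtain ⟨g, rfl⟩ := MulAction.exists_smul_eq D.H Q S
    have hzQ : z0 ∈ (Q : Subgroup D.H) := hQ (mem_zpowers z0)
    rw [Sylow.coe_subgroup_smul]
    refine ⟨z0, hzQ, ?_⟩
    show g * z0 * g⁻¹ = z0
    rw [hcen g, mul_inv_cancel_right]
  refine D.eq_of_code S.2 hxS hzS ?_
  rw [D.ρ_z, hc', h6, rep_six, Zh_comm, mul_inv_cancel_right]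

/-- A Sylow 2-subgroup of `H` is one of any larger subgroup. -/
theorem sylow_max [Finite G] (S : Sylow 2 D.H) {P : Subgroup G} (hP : IsPGroup 2 P)
    (hle : (S : Subgroup D.H).map D.H.subtype ≤ P) : P = (S : Subgroup D.H).map D.H.subtype := by
  haveI : Fact (Nat.Prime 2) := ⟨Nat.prime_two⟩
  refine le_antisymm ?_ hle
  by_contra hlt
  set S' := (S : Subgroup D.H).map D.H.subtype with hS'
  haveI := hP.isNilpotent
  have hA : S'.subgroupOf P < ⊤ := lt_top_iff_ne_top.mpr fun h => hlt (subgroupOf_eq_top.mp h)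
  obtain ⟨y, hy, hyA⟩ := SetLike.exists_of_lt (Group.normalizerCondition_of_isNilpotent _ hA)
  set z0 : D.H := ⟨z, D.z_mem⟩
  have hyn : ∀ x : G, x ∈ S' → (y : G) * x * (y : G)⁻¹ ∈ S' := fun x hx =>
    (mem_normalizer_iff.mp hy ⟨x, hle hx⟩).mp hx
  have hynI : ∀ x : G, x ∈ S' → (y : G)⁻¹ * x * (y : G) ∈ S' := fun x hx => by
    have := (mem_normalizer_iff.mp (inv_mem hy) ⟨x, hle hx⟩).mp hx
    simpa [mem_subgroupOf] using this
  have hyH : (y : G) ∈ D.H := by
    rw [← D.cent_eq, mem_centralizer_singleton_iff]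
    have hz2 : z0 * z0 = 1 := Subtype.ext (show z * z = 1 by rw [← pow_two, ← D.z_ord, pow_orderOf_eq_one])
    have hz1 : z ≠ 1 := fun e => by
      have := D.z_ord
      rw [e, orderOf_one] at this
      norm_num at this
    have hzS : z ∈ S' := by
      obtain ⟨x, hx, hx2⟩ : ∃ x ∈ (S : Subgroup D.H), orderOf x = 2 ∧ ∀ w ∈ (S : Subgroup D.H), w * x = x * w := by
        haveI : Nontrivial (S : Subgroup D.H) := by
          rw [← Finite.one_lt_card_iff_nontrivial]
          refine lt_of_lt_of_le (by norm_num : 1 < 2 ^ 1) (Nat.le_of_dvd Nat.card_pos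
            (S.pow_dvd_card_of_pow_dvd_card ?_))
          rw [pow_one]
          exact D.z_ord ▸ (Subgroup.orderOf_mk z D.z_mem) ▸ orderOf_dvd_natCard z0
        have := S.2.center_nontrivial
        obtain ⟨n, hn0, hn⟩ := (S.2.to_subgroup (Subgroup.center (S : Subgroup D.H))).nontrivial_iff_card.mp this
        obtain ⟨x, hx⟩ := exists_prime_orderOf_dvd_card' (G := Subgroup.center (S : Subgroup D.H)) 2
          (hn ▸ dvd_pow_self 2 (by omega))
        refine ⟨(x : (S : Subgroup D.H)), (x : (S : Subgroup D.H)).2, ?_, fun w hw => ?_⟩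
        · rw [Subgroup.orderOf_coe, Subgroup.orderOf_coe, hx]
        · exact congrArg Subtype.val (mem_center_iff.mp x.2 ⟨w, hw⟩)
      have := D.sylow_center S hx (by rw [← pow_two, ← hx2.1, pow_orderOf_eq_one])
        (fun e => by rw [e, orderOf_one] at hx2; exact absurd hx2.1 (by norm_num)) hx2.2
      exact ⟨x, hx, congrArg Subtype.val this⟩
    obtain ⟨w, hw, e⟩ := hyn z hzS
    have e' : (w : G) = (y : G) * z * (y : G)⁻¹ := e
    have h3 := D.sylow_center S hw (Subtype.ext (by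
        show (w : G) * w = 1
        rw [e', show (y : G) * z * (y : G)⁻¹ * ((y : G) * z * (y : G)⁻¹) = y * (z * z) * (y : G)⁻¹ by group,
          show z * z = 1 from congrArg Subtype.val hz2]
        group))
      (fun h => hz1 (conj_eq_one_iff.mp (e'.symm.trans (congrArg Subtype.val h)))) (fun v hv => by
        obtain ⟨v', hv', ev⟩ := hynI v ⟨v, hv, rfl⟩
        have ev' : (v' : G) = (y : G)⁻¹ * v * y := ev
        refine Subtype.ext ?_
        show (v : G) * w = w * v
        rw [e', show (v : G) = y * v' * (y : G)⁻¹ by rw [ev']; group]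
        calc (y : G) * v' * (y : G)⁻¹ * (y * z * (y : G)⁻¹) = y * (v' * z) * (y : G)⁻¹ := by group
          _ = y * z * (y : G)⁻¹ * (y * v' * (y : G)⁻¹) := by rw [(D.z_comm v'.2).eq]; group)
    have h4 : (y : G) * z * (y : G)⁻¹ = z := e'.symm.trans (congrArg Subtype.val h3)
    exact mul_inv_eq_iff_eq_mul.mp h4
  have hPH : IsPGroup 2 (P.comap D.H.subtype) := hP.comap_of_injective _ D.H.subtype_injective
  have heq := S.3 hPH (fun v hv => hle ⟨v, hv, rfl⟩)
  exact hyA ⟨⟨(y : G), hyH⟩, heq ▸ (show (y : G) ∈ P from y.2), rfl⟩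

/-- The odd kernel is trivial. -/
theorem ker_eq_bot [Finite G] [IsSimpleGroup G] : D.ρ.ker = ⊥ := by
  haveI : Fact (Nat.Prime 2) := ⟨Nat.prime_two⟩
  set K : Subgroup G := D.ρ.ker.map D.H.subtype with hK
  by_contra hne
  set N := normalizer (K : Set G) with hN
  have hKc : Nat.card K = Nat.card D.ρ.ker := card_map_of_injective D.H.subtype_injective
  have hH : D.H ≤ N := by
    intro h hh
    refine mem_normalizer_iff.mpr fun x => ⟨?_, fun hx => ?_⟩
    · rintro ⟨w, hw, rfl⟩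
      exact ⟨⟨h, hh⟩ * w * ⟨h, hh⟩⁻¹, D.ρ.normal_ker.conj_mem w hw _, rfl⟩
    · obtain ⟨w, hw, e⟩ := hx
      refine ⟨⟨h, hh⟩⁻¹ * w * ⟨h, hh⟩, by simpa using D.ρ.normal_ker.conj_mem w hw ⟨h, hh⟩⁻¹, ?_⟩
      show h⁻¹ * (w : G) * h = x
      rw [show (w : G) = h * x * h⁻¹ from e]; group
  have hz2 : orderOf z = 2 := D.z_ord
  have hNtop : N ≠ ⊤ := by
    intro e
    have hnor : K.Normal := Subgroup.normalizer_eq_top_iff.mp e
    rcases IsSimpleGroup.eq_bot_or_eq_top_of_normal K hnor with hb | ht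
    · exact hne ((map_eq_bot_iff_of_injective _ D.H.subtype_injective).mp hb)
    · have h1 : 2 ∣ Nat.card K := by rw [ht, Subgroup.card_top]; exact hz2 ▸ orderOf_dvd_natCard z
      exact (Nat.not_even_iff_odd.mpr D.ker_odd) (hKc ▸ even_iff_two_dvd.mpr h1)
  obtain ⟨S⟩ : Nonempty (Sylow 2 D.H) := inferInstance
  set S' := (S : Subgroup D.H).map D.H.subtype with hS'
  -- every involution of `N` is conjugate there to `t` or `z`
  have hinv : ∀ x ∈ N, orderOf x = 2 → ∃ m ∈ N, m * x * m⁻¹ = t ∨ m * x * m⁻¹ = z := by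
    intro x hx hx2
    have hSN : IsPGroup 2 (S'.subgroupOf N) := (S.2.map _).comap_of_injective _ N.subtype_injective
    obtain ⟨P, hP⟩ := hSN.exists_le_sylow
    have hPS : (P : Subgroup N).map N.subtype = S' :=
      D.sylow_max S (P.2.map _) fun v hv => ⟨⟨v, hH (map_subtype_le _ hv)⟩, hP hv, rfl⟩
    obtain ⟨Q, hQ⟩ := (show IsPGroup 2 (zpowers (⟨x, hx⟩ : N)) from IsPGroup.of_card (n := 1) (by
      rw [Nat.card_zpowers, Subgroup.orderOf_mk, hx2, pow_one])).exists_le_sylow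
    obtain ⟨g, hg⟩ := MulAction.exists_smul_eq N Q P
    have hgx : g * ⟨x, hx⟩ * g⁻¹ ∈ (P : Subgroup N) := by
      rw [← hg, Sylow.coe_subgroup_smul]
      exact ⟨⟨x, hx⟩, hQ (mem_zpowers _), rfl⟩
    obtain ⟨w, -, e⟩ : (g : G) * x * (g : G)⁻¹ ∈ S' := hPS ▸ ⟨_, hgx, rfl⟩
    have e' : (w : G) = (g : G) * x * (g : G)⁻¹ := e
    have w2 : w * w = 1 := Subtype.ext (by
      show (w : G) * w = 1
      rw [e', show (g : G) * x * (g : G)⁻¹ * ((g : G) * x * (g : G)⁻¹) = g * (x * x) * (g : G)⁻¹ by group,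
        ← pow_two, ← hx2, pow_orderOf_eq_one]
      group)
    have w1 : w ≠ 1 := fun h => by
      have : x = 1 := conj_eq_one_iff.mp (e'.symm.trans (congrArg Subtype.val h))
      rw [this, orderOf_one] at hx2
      norm_num at hx2
    obtain ⟨m, hm, hc⟩ := D.classes w w2 w1
    refine ⟨m * g, N.mul_mem hm g.2, ?_⟩
    rw [show m * g * x * (m * g)⁻¹ = m * ((g : G) * x * (g : G)⁻¹) * m⁻¹ by group, ← e']
    exact hc
  have hcentN : ∀ x ∈ N, orderOf x = 2 → ∀ c, Commute c x → c ∈ N := by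
    intro x hx hx2 c hc
    obtain ⟨m, hm, h⟩ := hinv x hx hx2
    have hmc : m * c * m⁻¹ ∈ N := by
      have hc' := hc.map (MulAut.conj m).toMonoidHom
      rcases h with h | h
      · refine D.cent_norm (mem_centralizer_singleton_iff.mpr ?_)
        rw [← h]; exact hc'.eq
      · refine hH ?_
        rw [← D.cent_eq, mem_centralizer_singleton_iff, ← h]; exact hc'.eq
    have := N.mul_mem (N.mul_mem (N.inv_mem hm) hmc) hm
    rwa [show m⁻¹ * (m * c * m⁻¹) * m = c by group] at this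
  have heven : Even (Nat.card N) := by
    rw [even_iff_two_dvd, ← hz2]
    exact Subgroup.orderOf_dvd_natCard N (hH D.z_mem)
  have hse : Cfsg.IsStronglyEmbedded N := by
    refine ⟨hNtop, heven, fun g hg => ?_⟩
    rw [← Nat.not_even_iff_odd, even_iff_two_dvd]
    intro h2
    obtain ⟨⟨s, hsN, s', hs'N, e⟩, hs⟩ := exists_prime_orderOf_dvd_card' 2 h2
    replace hs : orderOf s = 2 := (Subgroup.orderOf_coe _).trans hs
    have e' : g * s' * g⁻¹ = s := e
    have hs' : orderOf s' = 2 := by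
      rw [← hs, ← e', show g * s' * g⁻¹ = MulAut.conj g s' from rfl, MulEquiv.orderOf_eq]
    obtain ⟨m, hm, h⟩ := hinv s hsN hs
    obtain ⟨m', hm', h'⟩ := hinv s' hs'N hs'
    have key : m * s * m⁻¹ = m' * s' * m'⁻¹ := by
      rcases h with h | h <;> rcases h' with h' | h'
      · rw [h, h']
      · exact absurd ⟨m' * g⁻¹ * m⁻¹, by rw [← h, ← h', ← e']; group⟩ D.not_T
      · exact absurd ⟨m * g * m'⁻¹, by rw [← h, ← h', ← e']; group⟩ D.not_T
      · rw [h, h']
    refine hg ?_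
    have hc : Commute (g * (m'⁻¹ * m)) s := by
      show g * (m'⁻¹ * m) * s = s * (g * (m'⁻¹ * m))
      calc g * (m'⁻¹ * m) * s = g * m'⁻¹ * (m * s * m⁻¹) * m := by group
        _ = g * s' * g⁻¹ * (g * (m'⁻¹ * m)) := by rw [key]; group
        _ = s * (g * (m'⁻¹ * m)) := by rw [e']
    have := N.mul_mem (hcentN s hsN hs _ hc) (N.mul_mem (N.inv_mem hm) hm')
    rwa [show g * (m'⁻¹ * m) * (m⁻¹ * m') = g by group] at this
  obtain ⟨g, hg⟩ := isConj_iff.mp (CfsgLib.StrongEmb.all_isConj hse D.t_ord hz2)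
  exact D.not_T ⟨g, hg⟩

/-- The data give the Held group. -/
theorem isoHe [Finite G] [IsSimpleGroup G] (D : Core L t z) : Cfsg.Spor.IsoHe G := by
  have hinj : Function.Injective D.ρ := (MonoidHom.ker_eq_bot_iff _).mp D.ker_eq_bot
  let e : D.H ≃* HS := MulEquiv.ofBijective D.ρ ⟨hinj, D.surj⟩
  have hzH : e ⟨z, D.z_mem⟩ = Zh := D.ρ_z
  let D0 : Emb G :=
    { z := z
      φ := D.H.subtype.comp e.symm.toMonoidHom
      inj := Subtype.val_injective.comp e.symm.injective
      mem_range := fun g => ⟨fun h => ⟨e ⟨g, D.cent_eq ▸ mem_centralizer_singleton_iff.mpr h⟩, by simp⟩,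
        fun ⟨x, hx⟩ => hx ▸ (D.z_comm (e.symm x).2).eq⟩
      map_Zh := by simp [← hzH] }
  have h2 : TwoCls z := by
    intro x hx
    have hxH : ∀ i, x i ∈ D.H := fun i => D.cent_eq ▸ mem_centralizer_singleton_iff.mpr (hx i).1
    have hq : ∀ i, ∃ q, InCls (D.kOf q) (D.ρ ⟨x i, hxH i⟩) := by
      intro i
      obtain ⟨-, h2, h1, hnz⟩ := hx i
      obtain ⟨m, -, h⟩ := D.classes ⟨x i, hxH i⟩ (Subtype.ext h2) fun e => h1 (congrArg Subtype.val e)
      rcases h with h | h
      · have hT : IsT t (x i) := ⟨m⁻¹, by rw [← h]; group⟩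
        by_cases hz : IsT t (x i * z)
        · exact ⟨false, D.inCls_of_isC (q := false) (x := ⟨x i, hxH i⟩) ⟨hT, hz⟩⟩
        · exact ⟨true, D.inCls_of_isC (q := true) (x := ⟨x i, hxH i⟩) ⟨hT, hz⟩⟩
      · exact absurd ⟨m⁻¹, by rw [← h]; group⟩ hnz
    choose q hq using hq
    obtain ⟨i, j, hij, hqq⟩ := Fintype.exists_ne_map_eq_of_card_lt q (by simp)
    obtain ⟨c1, e1⟩ := hq i
    obtain ⟨c2, e2⟩ := hq j
    obtain ⟨h, hh⟩ := D.surj (c2 * c1⁻¹)
    refine ⟨i, j, hij, h, D.z_comm h.2, ?_⟩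
    have key : h * ⟨x i, hxH i⟩ * h⁻¹ = (⟨x j, hxH j⟩ : D.H) := hinj (by
      rw [map_mul, map_mul, map_inv, hh, e1, e2, hqq]; group)
    exact congrArg Subtype.val key
  let m : G ≃* Shrink.{0} G := (Shrink.mulEquiv : Shrink.{0} G ≃* G).symm
  have : Finite (Shrink.{0} G) := Finite.of_equiv G m.toEquiv
  have : IsSimpleGroup (Shrink.{0} G) := IsSimpleGroup.isSimpleGroup_of_surjective m.toMonoidHom m.surjective
  obtain ⟨f⟩ := he_of_twoCls
    ({ z := m z
       φ := m.toMonoidHom.comp D0.φ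
       inj := m.injective.comp D0.inj
       mem_range := fun a => by
        obtain ⟨b, rfl⟩ := m.surjective a
        rw [← map_mul, ← map_mul, m.injective.eq_iff]
        exact (D0.mem_range b).trans (exists_congr fun x => m.injective.eq_iff.symm)
       map_Zh := congrArg m D0.map_Zh } : Emb (Shrink.{0} G)) (h2.map m)
  exact ⟨m.trans f⟩

end Core

end CfsgLib.StdHe
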