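import Cfsg.Agent.Lib.StdHe.Outer

/-!
The relations between the monomial elements and the two outer involutions.
-/

set_option autoImplicit false
set_option linter.unusedSectionVars false
set_option synthInstance.maxSize 4096

namespace CfsgLib.StdHe

open Subgroup

universe u

variable {G : Type u} [Group G] {L : Subgroup G}

theorem exact_facts : (∀ y < 16, hm (tmul y (tEta y)) = tmul y (tEta y) → tmul y (tEta y) = 0) ∧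
    (∀ y < 256, tEta y = y → y < 4) ∧ (∀ y < 4, hm y = y → y = 0) ∧
    (∀ i < 256, cN i = 0 → cN (hm i) = 0 ∧ cN (tW1 (hm i)) = 0 ∧ tW1 (hm i) < 256) ∧
    (∀ r < 16, tW1 (hm (tW1 (hm (tW1 (hm r))))) = r ∧ aMap false true 1 1 (tW2h (tW2h (tW2h r))) = r) ∧
    (∀ i < 256, tW2 (hm i) = tW2h i) := by decide +kernel

theorem exact_consts : aMap false true 1 1 4 = 4 ∧ aMap false true 1 1 16 = 16 ∧ aMap false true 1 1 64 = 64 ∧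
    tW1 4 = 16 ∧ tW1 16 = 4 ∧ tW2 4 = 64 ∧ tW2 64 = 4 ∧ tEta 4 = 12 ∧ tEta 16 = 32 ∧ tEta (tEta 64) = 192 ∧
    aMap false false 2 3 12 = 12 ∧ aMap false false 2 3 8 = 8 ∧ aMap false false 2 3 48 = 16 ∧
    aMap false false 2 3 128 = 64 ∧ aMap false false 2 3 16 = 32 ∧ aMap false false 2 3 32 = 48 ∧
    aMap false false 2 3 64 = 192 ∧ tW1 12 = 48 ∧ tW2 8 = 128 ∧ tEta (tEta 4) = 8 ∧ hm 1 = 4 ∧ hm 12 = 3 ∧
    aMap false true 1 1 1 = 1 := by decide +kernel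

namespace Std

variable [Finite G] (S : Std L) {h φ : G}

include S

/-- An element of the subgroup centralising the torus element and a moved central one. -/
theorem eq_central {l : G} (hl : l ∈ L) (h4 : l * S.C.τ 4 * l⁻¹ = S.C.τ 4) (hη : l * S.C.η * l⁻¹ = S.C.η) :
    ∃ a < 4, S.C.τ a = l := by
  obtain ⟨y, hy, e⟩ := S.C.centr l hl 4 (by norm_num) le_rfl (mul_inv_eq_iff_eq_mul.1 h4)
  subst e
  refine ⟨y, exact_facts.2.1 y hy (S.C.inj _ (tEta_lt y) y hy ?_), rfl⟩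
  rw [← S.C.η_conj, ← mul_inv_eq_iff_eq_mul.1 hη, mul_inv_cancel_right]

theorem τ_pow_three {a : ℕ} (ha : a < 4) {x : G} (hx : x ∈ L) (hx3 : x ^ 3 = 1) (h : (S.C.τ a * x) ^ 3 = 1) :
    S.C.τ a = 1 := by
  rw [(S.C.τ_centre_comm hx ha).symm.mul_pow, hx3, mul_one, pow_succ, sq, S.τ_sq (by omega), one_mul] at h
  exact h

variable {S} in
theorem Pair.h_inv (hh : S.Pair h φ) : h⁻¹ = h := inv_eq_of_mul_eq_one_right hh.h_sq

variable {S} in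
theorem Pair.φ_inv (hh : S.Pair h φ) : φ⁻¹ = φ := inv_eq_of_mul_eq_one_right hh.φ_sq

theorem delta_mem (hh : S.Pair h φ) : h * S.C.η * h ∈ normalizer (L : Set G) := by
  obtain ⟨-, -, -, -, -, -, -, e12, -, -, -, -, -, -, -, -, -, -, -, -, h1, h12, -⟩ := exact_consts
  refine S.back _ _ (S.τ_mem_K (show 1 < 4 by norm_num)) ?_ (S.τ_sq (by norm_num)) (S.τ_ne (by norm_num) one_ne_zero)
  rw [show h * S.C.η * h * S.C.τ 1 * (h * S.C.η * h)⁻¹ = h * (S.C.η * (h * S.C.τ 1 * h⁻¹) * S.C.η⁻¹) * h⁻¹ by group,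
    hh.swp.act 1 (by norm_num), h1, S.C.η_conj, e12, hh.swp.act 12 (by norm_num), h12]
  exact S.τ_mem_K (by norm_num)

theorem delta_τ (hh : S.Pair h φ) {i : ℕ} (hi : i < 256) :
    h * S.C.η * h * S.C.τ i * (h * S.C.η * h)⁻¹ = S.C.τ (aMap false false 2 3 i) := by
  rw [show h * S.C.η * h * S.C.τ i * (h * S.C.η * h)⁻¹ = h * (S.C.η * (h * S.C.τ i * h⁻¹) * S.C.η⁻¹) * h⁻¹ by group,
    hh.swp.act i hi, S.C.η_conj, hh.swp.act _ (tEta_lt _), delta_act i hi]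

/-- The conjugate of the torus element commutes with it. -/
theorem delta_act' (hh : S.Pair h φ) : S.C.HasAct (h * S.C.η * h) false false 2 3 := by
  obtain ⟨-, -, -, -, -, -, -, -, -, -, -, -, -, -, d16, d32, d64, -, -, -, -, -, -⟩ := exact_consts
  obtain ⟨y, hy, hA⟩ := S.act_of_roots (x := h * S.C.η * h) (a := 2) (b := 3) (S.delta_mem hh)
    (fun i hi => ⟨_, aMap_lt _ _ (by norm_num) (by norm_num) i, S.delta_τ hh hi⟩) (by norm_num) (by norm_num)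
    (by norm_num) (by norm_num) (by rw [S.delta_τ hh (by norm_num), d16])
    (by rw [S.delta_τ hh (by norm_num), d32]; rfl) (by rw [S.delta_τ hh (by norm_num), d64])
  refine ⟨S.delta_mem hh, ?_, fun i hi => S.delta_τ hh hi, ⟨by norm_num, by norm_num⟩, by norm_num, by norm_num⟩
  have hη : S.C.τ y * (h * S.C.η * h * S.C.η * (h * S.C.η * h)⁻¹) * (S.C.τ y)⁻¹ = S.C.η := by
    have := hA.η
    rw [if_neg Bool.false_ne_true] at this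
    refine Eq.trans ?_ this
    group
  obtain ⟨u, hu⟩ : ∃ u, u = tmul y (tEta y) := ⟨_, rfl⟩
  have hyi : (S.C.τ y)⁻¹ = S.C.τ y := inv_eq_of_mul_eq_one_right (S.τ_sq hy)
  have e : h * S.C.η * h * S.C.η * (h * S.C.η * h)⁻¹ = S.C.τ u * S.C.η := by
    rw [hu, ← S.C.mul, ← S.C.η_conj]
    calc h * S.C.η * h * S.C.η * (h * S.C.η * h)⁻¹
        = (S.C.τ y)⁻¹ * (S.C.τ y * (h * S.C.η * h * S.C.η * (h * S.C.η * h)⁻¹) * (S.C.τ y)⁻¹) * S.C.τ y := by group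
      _ = (S.C.τ y)⁻¹ * S.C.η * S.C.τ y := by rw [hη]
      _ = _ := by rw [hyi]; group
  have hu16 : u < 16 := by
    rw [hu]
    have f : ∀ y < 16, tmul y (tEta y) < 16 := by decide
    exact f y hy
  have hsym : h * S.C.τ u * h⁻¹ = (S.C.τ u)⁻¹ := by
    rw [show S.C.τ u = h * S.C.η * h * S.C.η * (h * S.C.η * h)⁻¹ * S.C.η⁻¹ by rw [e]; group]
    have hi := hh.h_inv
    simp only [mul_inv_rev, hi, inv_inv]
    calc _ = h * h * S.C.η * h * S.C.η * h * S.C.η⁻¹ * (h * S.C.η⁻¹ * h) := by simp only [mul_assoc]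
      _ = _ := by rw [hh.h_sq, one_mul]; simp only [mul_assoc]
  rw [hh.swp.act u (by omega), inv_eq_of_mul_eq_one_right (S.τ_sq hu16)] at hsym
  have hu0 : u = 0 := by
    have h' := exact_facts.1 y hy (by rw [← hu]; exact S.C.inj _ (hm_lt u) u (by omega) hsym)
    rw [hu]; exact h'
  rw [if_neg Bool.false_ne_true, e, hu0, S.C.τ_zero, one_mul]

theorem w_field (hh : S.Pair h φ) : Commute φ S.C.w₁ ∧ Commute φ S.C.w₂ := by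
  obtain ⟨p4, p16, p64, a4, a16, b4, b64, -, -, -, -, -, -, -, -, -, -, -, -, -, -, -, -⟩ := exact_consts
  have key : ∀ (w : G) (f : ℕ → ℕ) (r s : ℕ), w ∈ L → w * w = 1 → w * S.C.η * w⁻¹ = S.C.η * S.C.η →
      (w * S.C.τ r) ^ 3 = 1 → r < 256 → aMap false true 1 1 r = r → s < 256 → aMap false true 1 1 s = s →
      w * S.C.τ 4 * w⁻¹ = S.C.τ s → w * S.C.τ s * w⁻¹ = S.C.τ 4 → Commute φ w := by
    intro w f r s hwL hw2 hwη hbr hr hrf hs hsf e1 e2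
    have hwi : w⁻¹ = w := inv_eq_of_mul_eq_one_right hw2
    have h2η : φ * (S.C.η * S.C.η) * φ⁻¹ = S.C.η := by
      rw [show φ * (S.C.η * S.C.η) * φ⁻¹ = φ * S.C.η * φ⁻¹ * (φ * S.C.η * φ⁻¹) by group, hh.act.η, if_pos rfl]
      calc _ = S.C.η * (S.C.η * S.C.η) * S.C.η := by simp only [mul_assoc]
        _ = _ := by rw [S.C.η_three, one_mul]
    have w2η : w * (S.C.η * S.C.η) * w⁻¹ = S.C.η := by
      rw [show w * (S.C.η * S.C.η) * w⁻¹ = w * S.C.η * w⁻¹ * (w * S.C.η * w⁻¹) by group, hwη]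
      calc _ = S.C.η * (S.C.η * S.C.η) * S.C.η := by simp only [mul_assoc]
        _ = _ := by rw [S.C.η_three, one_mul]
    obtain ⟨a, ha, ea⟩ := S.eq_central (l := φ * w * φ⁻¹ * w) (mul_mem (conj_mem_L hh.act.mem hwL) hwL)
      (by rw [show φ * w * φ⁻¹ * w * S.C.τ 4 * (φ * w * φ⁻¹ * w)⁻¹ =
            φ * (w * (φ⁻¹ * (w * S.C.τ 4 * w⁻¹) * φ⁻¹⁻¹) * w⁻¹) * φ⁻¹ by group, e1, hh.φ_inv, hh.act.τ s hs, hsf, e2,
          show φ * S.C.τ 4 * φ = φ * S.C.τ 4 * φ⁻¹ by rw [hh.φ_inv], hh.act.τ 4 (by norm_num), p4])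
      (by rw [show φ * w * φ⁻¹ * w * S.C.η * (φ * w * φ⁻¹ * w)⁻¹ =
            φ * (w * (φ⁻¹ * (w * S.C.η * w⁻¹) * φ⁻¹⁻¹) * w⁻¹) * φ⁻¹ by group, hwη, hh.φ_inv, h2η, hwη,
          show φ * (S.C.η * S.C.η) * φ = φ * (S.C.η * S.C.η) * φ⁻¹ by rw [hh.φ_inv], h2η])
    have hcw : φ * w * φ⁻¹ = S.C.τ a * w := by rw [ea, mul_assoc (φ * w * φ⁻¹), hw2, mul_one]
    have h3 : (S.C.τ a * (w * S.C.τ r)) ^ 3 = 1 := by
      rw [show S.C.τ a * (w * S.C.τ r) = φ * (w * S.C.τ r) * φ⁻¹ by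
        rw [show φ * (w * S.C.τ r) * φ⁻¹ = φ * w * φ⁻¹ * (φ * S.C.τ r * φ⁻¹) by group, hcw, hh.act.τ r hr, hrf, mul_assoc],
        conj_pow, hbr, mul_one, mul_inv_cancel]
    rw [S.τ_pow_three ha (mul_mem hwL (S.C.mem r)) hbr h3, one_mul] at hcw
    exact mul_inv_eq_iff_eq_mul.1 hcw
  exact ⟨key _ tW1 64 16 S.C.w₁_mem S.C.w₁_sq S.C.w₁_η S.C.w₁_braid (by norm_num) p64 (by norm_num) p16
      (by rw [S.C.w₁_conj 4 (by decide), a4]) (by rw [S.C.w₁_conj 16 (by decide), a16]),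
    key _ tW2 16 64 S.C.w₂_mem S.C.w₂_sq S.C.w₂_η S.C.w₂_braid (by norm_num) p16 (by norm_num) p64
      (by rw [S.C.w₂_conj 4 (by decide), b4]) (by rw [S.C.w₂_conj 64 (by decide), b64])⟩

theorem w_delta (hh : S.Pair h φ) :
    S.C.w₁ * (h * S.C.η * h) * S.C.w₁⁻¹ = S.C.η * S.C.η * (h * S.C.η * h) ∧
      S.C.w₂ * (h * S.C.η * h) * S.C.w₂⁻¹ = S.C.η * (h * S.C.η * h) := by
  obtain ⟨-, -, -, -, a16, -, b64, e12, e16, e192, d12, d8, d48, d128, d16, -, d64, a12, b8, e8, -, -, -⟩ := exact_consts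
  have hA := S.delta_act' hh
  generalize h * S.C.η * h = δ at hA
  have hdη : δ * S.C.η * δ⁻¹ = S.C.η := by simpa using hA.η
  have hdη2 : δ * (S.C.η * S.C.η) * δ⁻¹ = S.C.η * S.C.η := by
    rw [show δ * (S.C.η * S.C.η) * δ⁻¹ = δ * S.C.η * δ⁻¹ * (δ * S.C.η * δ⁻¹) by group, hdη]
  have hdiη : δ⁻¹ * S.C.η * δ⁻¹⁻¹ = S.C.η := by
    calc δ⁻¹ * S.C.η * δ⁻¹⁻¹ = δ⁻¹ * (δ * S.C.η * δ⁻¹) * δ := by rw [hdη, inv_inv]
      _ = _ := by group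
  have hdiτ : ∀ {i j : ℕ}, i < 256 → aMap false false 2 3 i = j → δ⁻¹ * S.C.τ j * δ⁻¹⁻¹ = S.C.τ i := fun hi e => by
    rw [← e, ← hA.τ _ hi]; group
  have hη2 : S.C.η⁻¹ = S.C.η * S.C.η := inv_eq_of_mul_eq_one_right S.C.η_three
  have hw1i : S.C.w₁⁻¹ = S.C.w₁ := inv_eq_of_mul_eq_one_right S.C.w₁_sq
  have hw2i : S.C.w₂⁻¹ = S.C.w₂ := inv_eq_of_mul_eq_one_right S.C.w₂_sq
  have w1η2 : S.C.w₁ * (S.C.η * S.C.η) * S.C.w₁⁻¹ = S.C.η := by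
    rw [show S.C.w₁ * (S.C.η * S.C.η) * S.C.w₁⁻¹ = S.C.w₁ * S.C.η * S.C.w₁⁻¹ * (S.C.w₁ * S.C.η * S.C.w₁⁻¹) by group,
      S.C.w₁_η]
    calc _ = S.C.η * (S.C.η * S.C.η) * S.C.η := by simp only [mul_assoc]
      _ = _ := by rw [S.C.η_three, one_mul]
  have w2η2 : S.C.w₂ * (S.C.η * S.C.η) * S.C.w₂⁻¹ = S.C.η := by
    rw [show S.C.w₂ * (S.C.η * S.C.η) * S.C.w₂⁻¹ = S.C.w₂ * S.C.η * S.C.w₂⁻¹ * (S.C.w₂ * S.C.η * S.C.w₂⁻¹) by group,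
      S.C.w₂_η]
    calc _ = S.C.η * (S.C.η * S.C.η) * S.C.η := by simp only [mul_assoc]
      _ = _ := by rw [S.C.η_three, one_mul]
  constructor
  · obtain ⟨a, ha, ea⟩ := S.eq_central (l := S.C.w₁ * (δ * S.C.w₁ * δ⁻¹) * S.C.η)
      (mul_mem (mul_mem S.C.w₁_mem (conj_mem_L hA.mem S.C.w₁_mem)) S.C.η_mem)
      (by rw [show S.C.w₁ * (δ * S.C.w₁ * δ⁻¹) * S.C.η * S.C.τ 4 * (S.C.w₁ * (δ * S.C.w₁ * δ⁻¹) * S.C.η)⁻¹ =
            S.C.w₁ * (δ * (S.C.w₁ * (δ⁻¹ * (S.C.η * S.C.τ 4 * S.C.η⁻¹) * δ⁻¹⁻¹) * S.C.w₁⁻¹) * δ⁻¹) * S.C.w₁⁻¹ by group,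
          S.C.η_conj, e12, hdiτ (by norm_num) d12, S.C.w₁_conj 12 (by decide), a12, hA.τ 48 (by norm_num), d48,
          S.C.w₁_conj 16 (by decide), a16])
      (by rw [show S.C.w₁ * (δ * S.C.w₁ * δ⁻¹) * S.C.η * S.C.η * (S.C.w₁ * (δ * S.C.w₁ * δ⁻¹) * S.C.η)⁻¹ =
            S.C.w₁ * (δ * (S.C.w₁ * (δ⁻¹ * S.C.η * δ⁻¹⁻¹) * S.C.w₁⁻¹) * δ⁻¹) * S.C.w₁⁻¹ by group,
          hdiη, S.C.w₁_η, hdη2, w1η2])
    have e1 : δ * S.C.w₁ * δ⁻¹ = S.C.τ a * (S.C.w₁ * (S.C.η * S.C.η)) := by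
      rw [← mul_assoc, ← (S.C.τ_centre_comm S.C.w₁_mem ha).eq, mul_assoc, ea, ← hη2]
      simp only [← mul_assoc, S.C.w₁_sq, one_mul, mul_inv_cancel_right]
    have ew : S.C.η * S.C.η * (S.C.w₁ * S.C.τ 64) * (S.C.η * S.C.η)⁻¹ = S.C.w₁ * (S.C.η * S.C.η) * S.C.τ 192 := by
      rw [show S.C.η * S.C.η * (S.C.w₁ * S.C.τ 64) * (S.C.η * S.C.η)⁻¹ =
        S.C.η * S.C.η * S.C.w₁ * (S.C.η * S.C.η)⁻¹ * (S.C.η * S.C.η * S.C.τ 64 * (S.C.η * S.C.η)⁻¹) by group,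
        S.C.η_conj_two, e192]
      congr 1
      calc S.C.η * S.C.η * S.C.w₁ * (S.C.η * S.C.η)⁻¹
          = S.C.w₁ * (S.C.w₁⁻¹ * (S.C.η * S.C.η) * S.C.w₁) * (S.C.η * S.C.η)⁻¹ := by group
        _ = S.C.w₁ * (S.C.w₁ * (S.C.η * S.C.η) * S.C.w₁⁻¹) * (S.C.η⁻¹ * S.C.η⁻¹) := by rw [hw1i, mul_inv_rev]
        _ = S.C.w₁ * S.C.η * (S.C.η⁻¹ * S.C.η⁻¹) := by rw [w1η2]
        _ = _ := by rw [← hη2]; group
    have h3 : (S.C.τ a * (S.C.w₁ * (S.C.η * S.C.η) * S.C.τ 192)) ^ 3 = 1 := by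
      rw [show S.C.τ a * (S.C.w₁ * (S.C.η * S.C.η) * S.C.τ 192) = δ * (S.C.w₁ * S.C.τ 64) * δ⁻¹ by
        rw [show δ * (S.C.w₁ * S.C.τ 64) * δ⁻¹ = δ * S.C.w₁ * δ⁻¹ * (δ * S.C.τ 64 * δ⁻¹) by group, e1,
          hA.τ 64 (by norm_num), d64]; simp only [mul_assoc], conj_pow, S.C.w₁_braid, mul_one, mul_inv_cancel]
    rw [S.τ_pow_three ha (mul_mem (mul_mem S.C.w₁_mem (mul_mem S.C.η_mem S.C.η_mem)) (S.C.mem 192))
      (by rw [← ew, conj_pow, S.C.w₁_braid, mul_one, mul_inv_cancel]) h3, one_mul] at e1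
    calc S.C.w₁ * δ * S.C.w₁⁻¹ = S.C.w₁ * (δ * S.C.w₁ * δ⁻¹) * δ := by rw [hw1i]; group
      _ = _ := by rw [e1, ← mul_assoc S.C.w₁ S.C.w₁, S.C.w₁_sq, one_mul]
  · obtain ⟨a, ha, ea⟩ := S.eq_central (l := S.C.w₂ * (δ * S.C.w₂ * δ⁻¹) * (S.C.η * S.C.η))
      (mul_mem (mul_mem S.C.w₂_mem (conj_mem_L hA.mem S.C.w₂_mem)) (mul_mem S.C.η_mem S.C.η_mem))
      (by rw [show S.C.w₂ * (δ * S.C.w₂ * δ⁻¹) * (S.C.η * S.C.η) * S.C.τ 4 * (S.C.w₂ * (δ * S.C.w₂ * δ⁻¹) * (S.C.η * S.C.η))⁻¹ =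
            S.C.w₂ * (δ * (S.C.w₂ * (δ⁻¹ * (S.C.η * S.C.η * S.C.τ 4 * (S.C.η * S.C.η)⁻¹) * δ⁻¹⁻¹) * S.C.w₂⁻¹) * δ⁻¹) * S.C.w₂⁻¹ by group,
          S.C.η_conj_two, e8, hdiτ (by norm_num) d8, S.C.w₂_conj 8 (by decide), b8, hA.τ 128 (by norm_num), d128,
          S.C.w₂_conj 64 (by decide), b64])
      (by rw [show S.C.w₂ * (δ * S.C.w₂ * δ⁻¹) * (S.C.η * S.C.η) * S.C.η * (S.C.w₂ * (δ * S.C.w₂ * δ⁻¹) * (S.C.η * S.C.η))⁻¹ =
            S.C.w₂ * (δ * (S.C.w₂ * (δ⁻¹ * S.C.η * δ⁻¹⁻¹) * S.C.w₂⁻¹) * δ⁻¹) * S.C.w₂⁻¹ by group,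
          hdiη, S.C.w₂_η, hdη2, w2η2])
    have e1 : δ * S.C.w₂ * δ⁻¹ = S.C.τ a * (S.C.w₂ * S.C.η) := by
      rw [← mul_assoc, ← (S.C.τ_centre_comm S.C.w₂_mem ha).eq, ea]
      simp only [← mul_assoc, S.C.w₂_sq, one_mul]
      simp only [mul_assoc, S.C.η_three, mul_one]
    have ew : S.C.η * (S.C.w₂ * S.C.τ 16) * S.C.η⁻¹ = S.C.w₂ * S.C.η * S.C.τ 32 := by
      rw [show S.C.η * (S.C.w₂ * S.C.τ 16) * S.C.η⁻¹ = S.C.η * S.C.w₂ * S.C.η⁻¹ * (S.C.η * S.C.τ 16 * S.C.η⁻¹) by group,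
        S.C.η_conj, e16]
      congr 1
      calc S.C.η * S.C.w₂ * S.C.η⁻¹ = S.C.w₂ * (S.C.w₂⁻¹ * S.C.η * S.C.w₂) * S.C.η⁻¹ := by group
        _ = S.C.w₂ * (S.C.w₂ * S.C.η * S.C.w₂⁻¹) * S.C.η⁻¹ := by rw [hw2i]
        _ = _ := by rw [S.C.w₂_η]; group
    have h3 : (S.C.τ a * (S.C.w₂ * S.C.η * S.C.τ 32)) ^ 3 = 1 := by
      rw [show S.C.τ a * (S.C.w₂ * S.C.η * S.C.τ 32) = δ * (S.C.w₂ * S.C.τ 16) * δ⁻¹ by
        rw [show δ * (S.C.w₂ * S.C.τ 16) * δ⁻¹ = δ * S.C.w₂ * δ⁻¹ * (δ * S.C.τ 16 * δ⁻¹) by group, e1,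
          hA.τ 16 (by norm_num), d16]; simp only [mul_assoc], conj_pow, S.C.w₂_braid, mul_one, mul_inv_cancel]
    rw [S.τ_pow_three ha (mul_mem (mul_mem S.C.w₂_mem S.C.η_mem) (S.C.mem 32))
      (by rw [← ew, conj_pow, S.C.w₂_braid, mul_one, mul_inv_cancel]) h3, one_mul] at e1
    calc S.C.w₂ * δ * S.C.w₂⁻¹ = S.C.w₂ * (δ * S.C.w₂ * δ⁻¹) * δ := by rw [hw2i]; group
      _ = _ := by rw [e1, ← mul_assoc S.C.w₂ S.C.w₂, S.C.w₂_sq, one_mul]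

/-- An element fixing the centre of the Sylow subgroup and the torus element, inverted by the exchange. -/
theorem mem_dSub_of (hh : S.Pair h φ) {f : G} (hR : ∀ r < 16, f * S.C.τ r * f⁻¹ = S.C.τ r)
    (hη : f * S.C.η * f⁻¹ = S.C.η) (hinv : h * f * h⁻¹ = f⁻¹) : f ∈ dSub L := by
  obtain ⟨y, hy, d, hd, e⟩ := S.cent_R hh.swp.nrm fun r hr => mul_inv_eq_iff_eq_mul.1 (hR r hr)
  obtain ⟨hdK, hdo⟩ := ((S.K_split hh.swp.nrm).1 d).1 hd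
  have hy4 : y < 4 := by
    refine exact_facts.2.1 y hy (S.C.inj _ (tEta_lt y) y hy ?_)
    have hc : Commute f S.C.η := mul_inv_eq_iff_eq_mul.1 hη
    rw [← e] at hc
    have := hc.mul_left (commute_cent S.C.η_mem (inv_mem hdK)).symm
    rw [mul_inv_cancel_right] at this
    rw [← S.C.η_conj, ← this.eq, mul_inv_cancel_right]
  obtain ⟨n, hn⟩ := hdo
  have hp : (S.C.τ y * d) ^ orderOf d = S.C.τ y := by
    rw [(commute_cent (S.C.mem y) hdK).mul_pow, pow_orderOf_eq_one, mul_one, hn, pow_succ, pow_mul, sq,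
      S.τ_sq (by omega), one_pow, one_mul]
  have hy0 : y = 0 := exact_facts.2.2.1 y hy4 (S.C.inj _ (hm_lt y) y hy (by
    rw [← hh.swp.act y hy, ← hp, ← conj_pow, e, hinv, inv_pow, ← e, hp]
    exact inv_eq_of_mul_eq_one_right (S.τ_sq (by omega))))
  rw [← e, hy0, S.C.τ_zero, one_mul]
  exact hd

/-- The braid relations up to the odd part. -/
theorem cubes (hh : S.Pair h φ) : (S.C.w₁ * h) ^ 3 ∈ dSub L ∧ (S.C.w₂ * h * φ) ^ 3 ∈ dSub L := by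
  obtain ⟨-, -, -, f4, f5, f6⟩ := exact_facts
  obtain ⟨hw1φ, hw2φ⟩ := S.w_field hh
  obtain ⟨d1, d2⟩ := S.w_delta hh
  obtain ⟨δ, hδ⟩ : ∃ δ, δ = h * S.C.η * h := ⟨_, rfl⟩
  rw [← hδ] at d1 d2
  have hi := hh.h_inv
  have hhη : h * S.C.η * h⁻¹ = δ := by rw [hδ, hi]
  have hhδ : h * δ * h⁻¹ = S.C.η := by
    rw [hδ, hi, ← mul_assoc, ← mul_assoc, hh.h_sq, one_mul, mul_assoc, hh.h_sq, mul_one]
  have hA := S.delta_act' hh
  rw [← hδ] at hA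
  have hηδ : Commute S.C.η δ := (mul_inv_eq_iff_eq_mul.1 (by simpa using hA.η : δ * S.C.η * δ⁻¹ = S.C.η) : δ * S.C.η = S.C.η * δ).symm
  have η3 : S.C.η * S.C.η * S.C.η = 1 := by rw [mul_assoc]; exact S.C.η_three
  constructor
  · obtain ⟨x, hx⟩ : ∃ x, x = S.C.w₁ * h := ⟨_, rfl⟩
    rw [← hx]
    have xη : x * S.C.η * x⁻¹ = S.C.η * S.C.η * δ := by
      rw [hx, show S.C.w₁ * h * S.C.η * (S.C.w₁ * h)⁻¹ = S.C.w₁ * (h * S.C.η * h⁻¹) * S.C.w₁⁻¹ by group, hhη, d1]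
    have xδ : x * δ * x⁻¹ = S.C.η * S.C.η := by
      rw [hx, show S.C.w₁ * h * δ * (S.C.w₁ * h)⁻¹ = S.C.w₁ * (h * δ * h⁻¹) * S.C.w₁⁻¹ by group, hhδ, S.C.w₁_η]
    refine S.mem_dSub_of hh (fun r hr => ?_) ?_ ?_
    · have st : ∀ i < 256, cN i = 0 → x * S.C.τ i * x⁻¹ = S.C.τ (tW1 (hm i)) := fun i hi hn => by
        rw [hx, show S.C.w₁ * h * S.C.τ i * (S.C.w₁ * h)⁻¹ = S.C.w₁ * (h * S.C.τ i * h⁻¹) * S.C.w₁⁻¹ by group,
          hh.swp.act i hi, S.C.w₁_conj _ (f4 i hi hn).1]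
      have hn : cN r = 0 := by unfold cN; omega
      obtain ⟨-, n1, l1⟩ := f4 r (by omega) hn
      obtain ⟨-, n2, l2⟩ := f4 _ l1 n1
      rw [conj_cube, st r (by omega) hn, st _ l1 n1, st _ l2 n2, (f5 r hr).1]
    · rw [conj_cube, xη, show x * (S.C.η * S.C.η * δ) * x⁻¹ =
        x * S.C.η * x⁻¹ * (x * S.C.η * x⁻¹) * (x * δ * x⁻¹) by group, xη, xδ,
        show x * (S.C.η * S.C.η * δ * (S.C.η * S.C.η * δ) * (S.C.η * S.C.η)) * x⁻¹ =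
          x * S.C.η * x⁻¹ * (x * S.C.η * x⁻¹) * (x * δ * x⁻¹) * (x * S.C.η * x⁻¹ * (x * S.C.η * x⁻¹) * (x * δ * x⁻¹)) *
            (x * S.C.η * x⁻¹ * (x * S.C.η * x⁻¹)) by group, xη, xδ]
      have e : S.C.η * S.C.η * δ * (S.C.η * S.C.η * δ) * (S.C.η * S.C.η) = δ * δ := by
        have h2 : Commute (S.C.η * S.C.η) δ := hηδ.mul_left hηδ
        rw [h2.eq, mul_assoc δ, ← mul_assoc (S.C.η * S.C.η) δ, h2.eq,
          show δ * (δ * (S.C.η * S.C.η) * (S.C.η * S.C.η)) = δ * δ * (S.C.η * S.C.η * S.C.η) * S.C.η by simp only [mul_assoc],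
          η3, mul_one]
        simp only [mul_assoc]
        rw [S.C.η_three, mul_one]
      rw [e]
      have hδ3 : δ * (δ * δ) = 1 := by
        rw [hδ]
        calc _ = h * S.C.η * (h * h) * S.C.η * (h * h) * S.C.η * h := by simp only [mul_assoc]
          _ = h * (S.C.η * S.C.η * S.C.η) * h := by rw [hh.h_sq, mul_one, mul_one]; simp only [mul_assoc]
          _ = _ := by rw [η3, mul_one, hh.h_sq]
      calc δ * δ * (δ * δ) * (S.C.η * S.C.η * δ * (S.C.η * S.C.η * δ))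
          = δ * (δ * δ) * δ * (S.C.η * S.C.η * δ * (S.C.η * S.C.η * δ)) := by simp only [mul_assoc]
        _ = δ * (δ * δ) * (S.C.η * S.C.η * (S.C.η * S.C.η)) := by
            rw [hδ3, one_mul, one_mul, (hηδ.mul_left hηδ).eq]
            calc δ * (δ * (S.C.η * S.C.η) * (δ * (S.C.η * S.C.η)))
                = δ * δ * (S.C.η * S.C.η * δ) * (S.C.η * S.C.η) := by simp only [mul_assoc]
              _ = δ * (δ * δ) * (S.C.η * S.C.η) * (S.C.η * S.C.η) := by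
                  rw [(hηδ.mul_left hηδ).eq]; simp only [mul_assoc]
              _ = _ := by rw [hδ3, one_mul]
        _ = S.C.η * S.C.η * S.C.η * S.C.η := by rw [hδ3, one_mul]; simp only [mul_assoc]
        _ = _ := by rw [η3, one_mul]
    · rw [hx, pow_three, mul_inv_rev, mul_inv_rev, mul_inv_rev, hi, inv_eq_of_mul_eq_one_right S.C.w₁_sq]
      calc h * (S.C.w₁ * h * (S.C.w₁ * h * (S.C.w₁ * h))) * h
          = h * S.C.w₁ * (h * S.C.w₁) * (h * S.C.w₁) * (h * h) := by simp only [mul_assoc]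
        _ = _ := by rw [hh.h_sq, mul_one]
  · obtain ⟨x, hx⟩ : ∃ x, x = S.C.w₂ * h := ⟨_, rfl⟩
    rw [← hx]
    have hxφ : Commute x φ := hx ▸ (hw2φ.symm.mul_left hh.comm)
    have hxφ3 : (x * φ) ^ 3 = φ * x ^ 3 := by
      rw [hxφ.mul_pow, (hxφ.pow_left 3).pow_right 3 |>.eq, pow_succ φ 2, sq, hh.φ_sq, one_mul]
    rw [hxφ3]
    have xη : x * S.C.η * x⁻¹ = S.C.η * δ := by
      rw [hx, show S.C.w₂ * h * S.C.η * (S.C.w₂ * h)⁻¹ = S.C.w₂ * (h * S.C.η * h⁻¹) * S.C.w₂⁻¹ by group, hhη, d2]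
    have xδ : x * δ * x⁻¹ = S.C.η * S.C.η := by
      rw [hx, show S.C.w₂ * h * δ * (S.C.w₂ * h)⁻¹ = S.C.w₂ * (h * δ * h⁻¹) * S.C.w₂⁻¹ by group, hhδ, S.C.w₂_η]
    refine S.mem_dSub_of hh (fun r hr => ?_) ?_ ?_
    · have hE := (tW2h_facts).2.2.2.2
      have hl : cL r = 0 := by unfold cL; omega
      obtain ⟨-, a1, a2⟩ := hE r (by omega) hl
      obtain ⟨-, b1, b2⟩ := hE _ a2 a1
      rw [show φ * x ^ 3 * S.C.τ r * (φ * x ^ 3)⁻¹ = φ * (x ^ 3 * S.C.τ r * (x ^ 3)⁻¹) * φ⁻¹ by group, conj_cube, hx,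
        hh.swp.conj_E₂ S (by omega) hl, hh.swp.conj_E₂ S a2 a1, hh.swp.conj_E₂ S b2 b1,
        hh.act.τ _ (hE _ b2 b1).2.2, (f5 r hr).2]
    · have xηδ : x * (S.C.η * δ) * x⁻¹ = δ := by
        rw [show x * (S.C.η * δ) * x⁻¹ = x * S.C.η * x⁻¹ * (x * δ * x⁻¹) by group, xη, xδ, hηδ.eq,
          show δ * S.C.η * (S.C.η * S.C.η) = δ * (S.C.η * (S.C.η * S.C.η)) by simp only [mul_assoc], S.C.η_three, mul_one]
      rw [show φ * x ^ 3 * S.C.η * (φ * x ^ 3)⁻¹ = φ * (x ^ 3 * S.C.η * (x ^ 3)⁻¹) * φ⁻¹ by group, conj_cube,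
        xη, xηδ, xδ, show φ * (S.C.η * S.C.η) * φ⁻¹ = φ * S.C.η * φ⁻¹ * (φ * S.C.η * φ⁻¹) by group, hh.act.η, if_pos rfl,
        show S.C.η * S.C.η * (S.C.η * S.C.η) = S.C.η * S.C.η * S.C.η * S.C.η by simp only [mul_assoc], η3, one_mul]
    · rw [hx, show h * (φ * (S.C.w₂ * h) ^ 3) * h⁻¹ = h * φ * h⁻¹ * (h * (S.C.w₂ * h) ^ 3 * h⁻¹) by group, hh.comm.eq,
        mul_inv_cancel_right, mul_inv_rev, hh.φ_inv, ← inv_pow, mul_inv_rev, hi, inv_eq_of_mul_eq_one_right S.C.w₂_sq]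
      have e : h * (S.C.w₂ * h) ^ 3 * h = (h * S.C.w₂) ^ 3 := by
        rw [pow_three, pow_three]
        calc h * (S.C.w₂ * h * (S.C.w₂ * h * (S.C.w₂ * h))) * h
            = h * S.C.w₂ * (h * S.C.w₂) * (h * S.C.w₂) * (h * h) := by simp only [mul_assoc]
          _ = _ := by rw [hh.h_sq, mul_one]; simp only [mul_assoc]
      rw [e, ((hh.comm.symm.mul_right hw2φ).pow_right 3).eq]

end Std

end CfsgLib.StdHe
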