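import Cfsg.Agent.Lib.SmallSimple.PSL34

/-!
The field with four elements on codes below four.
-/

set_option autoImplicit false

namespace CfsgLib.StdHe

/-- The product of two codes. -/
def fm (a b : ℕ) : ℕ :=
  match a, b with
  | 0, _ => 0
  | _, 0 => 0
  | a, b => 1 + (a - 1 + (b - 1)) % 3

/-- The square of a code. -/
def fq (a : ℕ) : ℕ := fm a a

theorem fm_lt : ∀ a < 4, ∀ b < 4, fm a b < 4 := by decide

theorem fq_lt {a : ℕ} (ha : a < 4) : fq a < 4 := fm_lt a ha a ha

theorem xor_lt_four : ∀ a < 4, ∀ b < 4, a ^^^ b < 4 := by decide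

variable (F : Type*) [Field F] [Fintype F]

/-- The field element of a code, through a chosen primitive element. -/
structure Gen where
  /-- the primitive element -/
  ω : F
  ω_eq : ω * ω = ω + 1
  card : Fintype.card F = 4

variable {F}

namespace Gen

variable (W : Gen F)

/-- The element of a code. -/
def el (a : ℕ) : F :=
  match a with
  | 1 => 1
  | 2 => W.ω
  | 3 => W.ω + 1
  | _ => 0

theorem el_zero : W.el 0 = 0 := rfl

theorem el_one : W.el 1 = 1 := rfl

theorem el_two : W.el 2 = W.ω := rfl

theorem el_three : W.el 3 = W.ω + 1 := rfl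

include W in
theorem char2 : CharP F 2 := PSL34.char_two W.card

include W in
theorem add_self (x : F) : x + x = 0 := by
  haveI := W.char2
  exact CharTwo.add_self_eq_zero x

theorem ω_ne_zero : W.ω ≠ 0 := fun h => by
  have := W.ω_eq
  rw [h, mul_zero, zero_add] at this
  exact zero_ne_one this

theorem ω_ne_one : W.ω ≠ 1 := fun h => by
  have := W.ω_eq
  rw [h, mul_one, W.add_self] at this
  exact one_ne_zero this

theorem el_add {a b : ℕ} (ha : a < 4) (hb : b < 4) : W.el (a ^^^ b) = W.el a + W.el b := by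
  haveI := W.char2
  have two : (2 : F) = 0 := CharTwo.two_eq_zero
  interval_cases a <;> interval_cases b <;> simp only [el_zero, el_one, el_two, el_three, Nat.xor_self,
    Nat.zero_xor, Nat.xor_zero, show (1 : ℕ) ^^^ 2 = 3 from rfl, show (1 : ℕ) ^^^ 3 = 2 from rfl,
    show (2 : ℕ) ^^^ 1 = 3 from rfl, show (2 : ℕ) ^^^ 3 = 1 from rfl, show (3 : ℕ) ^^^ 1 = 2 from rfl,
    show (3 : ℕ) ^^^ 2 = 1 from rfl, zero_add, add_zero, W.add_self] <;> grind

theorem el_mul {a b : ℕ} (ha : a < 4) (hb : b < 4) : W.el (fm a b) = W.el a * W.el b := by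
  haveI := W.char2
  have h := W.ω_eq
  have two : (2 : F) = 0 := CharTwo.two_eq_zero
  interval_cases a <;> interval_cases b <;> simp only [fm, Nat.reduceAdd, Nat.reduceSub, Nat.reduceMod, el_zero, el_one, el_two, el_three, zero_mul, mul_zero,
    one_mul, mul_one] <;> grind

theorem el_sq {a : ℕ} (ha : a < 4) : W.el (fq a) = W.el a * W.el a := W.el_mul ha ha

theorem el_eq_zero {a : ℕ} (ha : a < 4) (h : W.el a = 0) : a = 0 := by
  interval_cases a
  · rfl
  · exact absurd h one_ne_zero
  · exact absurd h W.ω_ne_zero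
  · exact absurd (by rw [W.el_three] at h; exact (eq_neg_of_add_eq_zero_left h).trans (by
      haveI := W.char2
      exact CharTwo.neg_eq 1)) W.ω_ne_one

theorem el_inj {a b : ℕ} (ha : a < 4) (hb : b < 4) (h : W.el a = W.el b) : a = b :=
  Nat.xor_eq_zero_iff.mp (W.el_eq_zero (xor_lt_four _ ha _ hb) (by rw [W.el_add ha hb, h, W.add_self]))

theorem el_surj (x : F) : ∃ a < 4, W.el a = x := by
  classical
  have hinj : Function.Injective fun a : Fin 4 => W.el a := fun a b h => Fin.ext (W.el_inj a.2 b.2 h)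
  obtain ⟨a, ha⟩ := ((Fintype.bijective_iff_injective_and_card _).mpr
    ⟨hinj, by rw [Fintype.card_fin, W.card]⟩).2 x
  exact ⟨a, a.2, ha⟩

end Gen

theorem exists_gen (hF : Fintype.card F = 4) : Nonempty (Gen F) := by
  classical
  haveI := PSL34.char_two hF
  obtain ⟨w, hw0, hw1⟩ : ∃ w : F, w ≠ 0 ∧ w ≠ 1 := by
    by_contra! h
    have hle : (Finset.univ : Finset F) ⊆ {0, 1} := fun x _ => by
      by_cases hx : x = 0
      · simp [hx]
      · simp [h x hx]
    have := Finset.card_le_card hle
    rw [Finset.card_univ, hF] at this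
    have := this.trans Finset.card_le_two
    omega
  refine ⟨⟨w, ?_, hF⟩⟩
  have h3 := PSL34.cube hF hw0
  have : (w - 1) * (w * w + w + 1) = 0 := by linear_combination h3
  rcases mul_eq_zero.mp this with h | h
  · exact absurd (sub_eq_zero.mp h) hw1
  · have h2 : w * w + (w + 1) + (w + 1) = w * w := by rw [add_assoc, CharTwo.add_self_eq_zero, add_zero]
    have h4 : w * w + w + 1 + (w + 1) = w * w := by
      rw [show w * w + w + 1 + (w + 1) = w * w + ((w + 1) + (w + 1)) by ring, CharTwo.add_self_eq_zero, add_zero]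
    rw [h, zero_add] at h4
    exact h4.symm

end CfsgLib.StdHe
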