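import Cfsg.Agent.Lib.StdHe.CentR

/-!
Conjugates of the centre of the standard subgroup inside its normaliser.
-/

set_option autoImplicit false
set_option linter.unusedSectionVars false

namespace CfsgLib.StdHe

open Subgroup

universe u

variable {G : Type u} [Group G] {L : Subgroup G}

namespace Std

/-- The centre lies in the conjugate of the normaliser. -/
def ZIn (S : Std L) (g : G) : Prop := ∀ a < 4, g⁻¹ * S.C.τ a * g ∈ normalizer (L : Set G)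

variable [Finite G] (S : Std L)

include S

theorem zin_of_centZ {g k : G} (hk : k ∈ centralizer (L : Set G)) (h2 : k * k = 1) (h1 : k ≠ 1)
    (hc : S.CentZ (g * k * g⁻¹)) : S.ZIn g := fun a ha => by
  refine S.cent_le hk h2 h1 ?_
  have h := (hc a ha).symm.conj g⁻¹
  simpa [mul_assoc] using h

theorem exists_centZ_of_three (v : ℕ → G) (hv : ∀ a < 4, v a ∈ normalizer (L : Set G))
    (h2 : ∀ a < 4, v a * v a = 1) (h12 : v 1 * v 2 = v 3) : ∃ a < 4, 1 ≤ a ∧ S.CentZ (v a) := by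
  have hs : ∀ a, ∀ ha : a < 4, (S.sgn ⟨v a, hv a ha⟩).1 = (S.sgn ⟨v a, hv a ha⟩).2 → S.CentZ (v a) :=
    fun a ha h => S.centZ_of_two (hv a ha) h (n := 1) (by rw [pow_one, sq, h2 a ha])
  have e : S.sgn ⟨v 3, hv 3 (by norm_num)⟩ = S.sgn ⟨v 1, hv 1 (by norm_num)⟩ * S.sgn ⟨v 2, hv 2 (by norm_num)⟩ := by
    rw [← map_mul]; exact congrArg S.sgn (Subtype.ext h12.symm)
  by_cases e1 : (S.sgn ⟨v 1, hv 1 (by norm_num)⟩).1 = (S.sgn ⟨v 1, hv 1 (by norm_num)⟩).2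
  · exact ⟨1, by norm_num, le_rfl, hs 1 (by norm_num) e1⟩
  by_cases e2 : (S.sgn ⟨v 2, hv 2 (by norm_num)⟩).1 = (S.sgn ⟨v 2, hv 2 (by norm_num)⟩).2
  · exact ⟨2, by norm_num, by norm_num, hs 2 (by norm_num) e2⟩
  refine ⟨3, by norm_num, by norm_num, hs 3 (by norm_num) ?_⟩
  rw [e, Prod.fst_mul, Prod.snd_mul]
  have key : ∀ p q p' q' : Multiplicative (ZMod 2), p ≠ q → p' ≠ q' → p * p' = q * q' := by decide
  exact key _ _ _ _ e1 e2

theorem member_sq (g : G) {a : ℕ} (ha : a < 4) : g * S.C.τ a * g⁻¹ * (g * S.C.τ a * g⁻¹) = 1 := by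
  rw [show g * S.C.τ a * g⁻¹ * (g * S.C.τ a * g⁻¹) = g * (S.C.τ a * S.C.τ a) * g⁻¹ by group,
    S.τ_sq (by omega), mul_one, mul_inv_cancel]

theorem member_mul (g : G) (a b : ℕ) :
    g * S.C.τ a * g⁻¹ * (g * S.C.τ b * g⁻¹) = g * S.C.τ (tmul a b) * g⁻¹ := by
  rw [← S.C.mul]; group

theorem zin_swap {g : G} (h : S.ZIn g) : ∀ a < 4, g * S.C.τ a * g⁻¹ ∈ normalizer (L : Set G) := by
  intro a ha
  obtain ⟨j, hj, hj1, hjc⟩ := S.exists_centZ_of_three (fun j => g⁻¹ * S.C.τ j * g) h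
    (fun j hj => by simpa using S.member_sq g⁻¹ hj)
    (by have := S.member_mul g⁻¹ 1 2; simpa [show tmul 1 2 = 3 by decide] using this)
  refine S.cent_le (S.τ_mem_K hj) (S.τ_sq (by omega)) (S.τ_ne (by omega) (by omega)) ?_
  have := ((hjc a ha).symm).conj g
  simpa [mul_assoc] using this

theorem zin_inv {g : G} (h : S.ZIn g) : S.ZIn g⁻¹ := fun a ha => by
  rw [inv_inv]; exact S.zin_swap h a ha

theorem member_not_K {g : G} (hg : g ∉ normalizer (L : Set G)) {a : ℕ} (ha : a < 4) (ha1 : 1 ≤ a) :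
    g * S.C.τ a * g⁻¹ ∉ centralizer (L : Set G) := fun h =>
  hg (S.back g _ (S.τ_mem_K ha) h (S.τ_sq (by omega)) (S.τ_ne (by omega) (by omega)))

theorem member_zero {g : G} (hg : g ∉ normalizer (L : Set G)) {a : ℕ} (ha : a < 4)
    (h : g * S.C.τ a * g⁻¹ ∈ centralizer (L : Set G)) : a = 0 := by
  by_contra h0
  exact S.member_not_K hg ha (by omega) h

theorem member_centZ {g : G} (h : S.ZIn g) (hg : g ∉ normalizer (L : Set G)) {a : ℕ} (ha : a < 4) :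
    S.CentZ (g * S.C.τ a * g⁻¹) := by
  intro b hb
  have hw := S.zin_swap h a ha
  obtain ⟨c, hc, ec⟩ := S.inf_cases (conj_mem_L (h b hb) (S.C.mem a)) (conj_mem_K (h b hb) (S.τ_mem_K ha))
  obtain ⟨d, hd, ed⟩ := S.inf_cases (conj_mem_L hw (S.C.mem b)) (conj_mem_K hw (S.τ_mem_K hb))
  have e : g * S.C.τ (tmul c a) * g⁻¹ = S.C.τ b * S.C.τ d := by
    rw [← S.member_mul, ec, ed]
    have hwi : (g * S.C.τ a * g⁻¹)⁻¹ = g * S.C.τ a * g⁻¹ := inv_eq_of_mul_eq_one_right (S.member_sq g ha)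
    have hbi : (S.C.τ b)⁻¹ = S.C.τ b := inv_eq_of_mul_eq_one_right (S.τ_sq (by omega))
    rw [hwi]
    calc g * (g⁻¹ * S.C.τ b * g * S.C.τ a * (g⁻¹ * S.C.τ b * g)⁻¹) * g⁻¹ * (g * S.C.τ a * g⁻¹)
        = S.C.τ b * (g * S.C.τ a * g⁻¹ * (S.C.τ b)⁻¹ * (g * S.C.τ a * g⁻¹)) := by group
      _ = _ := by rw [hbi]
  obtain ⟨hca, hca'⟩ := small_facts.1 c hc a ha
  have h0 := S.member_zero hg hca (e ▸ mul_mem (S.τ_mem_K hb) (S.τ_mem_K hd))
  rw [hca' h0] at ec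
  have h' : Commute (g⁻¹ * S.C.τ b * g) (S.C.τ a) := mul_inv_eq_iff_eq_mul.1 ec.symm
  have := (h'.conj g).symm
  simpa [mul_assoc] using this

theorem exists_inner_member {g : G} (h : S.ZIn g) (hg : g ∉ normalizer (L : Set G)) :
    ∃ a < 4, 1 ≤ a ∧ Inner L (g * S.C.τ a * g⁻¹) := by
  have hv := S.zin_swap h
  have hin : ∀ a, ∀ ha : a < 4, (S.sgn ⟨g * S.C.τ a * g⁻¹, hv a ha⟩).1 = 1 → Inner L (g * S.C.τ a * g⁻¹) :=
    fun a ha h1 => S.inner_of_sgn (hv a ha)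
      (Prod.ext h1 ((S.sgn_eq_of_centZ (hv a ha) (S.member_centZ h hg ha)).symm.trans h1)) (n := 1)
      (by rw [pow_one, sq, S.member_sq g ha])
  have e : S.sgn ⟨g * S.C.τ 3 * g⁻¹, hv 3 (by norm_num)⟩ =
      S.sgn ⟨g * S.C.τ 1 * g⁻¹, hv 1 (by norm_num)⟩ * S.sgn ⟨g * S.C.τ 2 * g⁻¹, hv 2 (by norm_num)⟩ := by
    rw [← map_mul]
    refine congrArg S.sgn (Subtype.ext ?_)
    show g * S.C.τ 3 * g⁻¹ = g * S.C.τ 1 * g⁻¹ * (g * S.C.τ 2 * g⁻¹)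
    rw [S.member_mul, show tmul 1 2 = 3 by decide]
  by_cases e1 : (S.sgn ⟨g * S.C.τ 1 * g⁻¹, hv 1 (by norm_num)⟩).1 = 1
  · exact ⟨1, by norm_num, le_rfl, hin 1 (by norm_num) e1⟩
  by_cases e2 : (S.sgn ⟨g * S.C.τ 2 * g⁻¹, hv 2 (by norm_num)⟩).1 = 1
  · exact ⟨2, by norm_num, by norm_num, hin 2 (by norm_num) e2⟩
  refine ⟨3, by norm_num, by norm_num, hin 3 (by norm_num) ?_⟩
  rw [e, Prod.fst_mul]
  have key : ∀ p q : Multiplicative (ZMod 2), p ≠ 1 → q ≠ 1 → p * q = 1 := by decide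
  exact key _ _ e1 e2

/-- A conjugating element in normal form. -/
def Nrm (g k₀ : G) (a : ℕ) : Prop :=
  1 ≤ a ∧ a < 4 ∧ g ∉ normalizer (L : Set G) ∧ k₀ ∈ centralizer (L : Set G) ∧ k₀ * k₀ = 1 ∧
    g * S.C.τ a * g⁻¹ = S.C.τ 4 * k₀

theorem exists_nrm {g : G} (h : S.ZIn g) (hg : g ∉ normalizer (L : Set G)) :
    ∃ c ∈ L, ∃ k₀ a, S.Nrm (c * g) k₀ a := by
  obtain ⟨a, ha, ha1, hin⟩ := S.exists_inner_member h hg
  obtain ⟨c, hc, k, hk, hk2, e⟩ := S.invol_normal_form hin (S.member_sq g ha) (S.member_not_K hg ha ha1)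
  refine ⟨c, hc, k, a, ha1, ha, fun hn => hg ?_, hk, hk2, by rw [← e]; group⟩
  simpa using mul_mem (inv_mem (le_normalizer hc)) hn

end Std

end CfsgLib.StdHe
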