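import Mathlib.GroupTheory.Transfer
import Mathlib.GroupTheory.Abelianization.Defs
import Cfsg.Agent.Lib.Basic

/-!
A transfer computed on the common fixed points of two commuting involutions that commute with the element.
-/

set_option autoImplicit false
set_option linter.unusedSectionVars false

namespace CfsgLib.StdHe

open Subgroup MulAction

universe u v

variable {G : Type u} [Group G] [Finite G] {N : Subgroup G} {A : Type v} [CommGroup A]

/-- The contribution of a point. -/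
noncomputable def orbVal (ϕ : N →* A) (x : G) (p : G ⧸ N) : A :=
  ϕ ⟨p.out⁻¹ * x ^ Function.minimalPeriod (x • ·) p * p.out, QuotientGroup.out_conj_pow_minimalPeriod_mem N x p⟩

theorem conj_mem_of_fixed {g w : G} (h : w • (g : G ⧸ N) = (g : G ⧸ N)) : g⁻¹ * w * g ∈ N := by
  rw [MulAction.Quotient.smul_coe, smul_eq_mul, QuotientGroup.eq] at h
  have := inv_mem h
  rwa [show ((w * g)⁻¹ * g)⁻¹ = g⁻¹ * w * g by group] at this

theorem fixed_of_conj_mem {g w : G} (h : g⁻¹ * w * g ∈ N) : w • (g : G ⧸ N) = (g : G ⧸ N) := by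
  rw [MulAction.Quotient.smul_coe, smul_eq_mul, QuotientGroup.eq]
  have := inv_mem h
  rwa [show (g⁻¹ * w * g)⁻¹ = (w * g)⁻¹ * g by group] at this

theorem orbVal_eq (ϕ : N →* A) (x g : G) {n : ℕ} (hn : Function.minimalPeriod (x • ·) (g : G ⧸ N) = n)
    (h : g⁻¹ * x ^ n * g ∈ N) : orbVal ϕ x (g : G ⧸ N) = ϕ ⟨g⁻¹ * x ^ n * g, h⟩ := by
  obtain ⟨m, hm⟩ := QuotientGroup.mk_out_eq_mul N g
  have e : (⟨(g : G ⧸ N).out⁻¹ * x ^ Function.minimalPeriod (x • ·) (g : G ⧸ N) * (g : G ⧸ N).out,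
      QuotientGroup.out_conj_pow_minimalPeriod_mem N x _⟩ : N) = m⁻¹ * ⟨g⁻¹ * x ^ n * g, h⟩ * m := by
    refine Subtype.ext ?_
    simp only [hn, hm, Subgroup.coe_mul, Subgroup.coe_inv]
    group
  rw [orbVal, e, map_mul, map_mul, map_inv, mul_right_comm, inv_mul_cancel, one_mul]

theorem period_comm {x w : G} (h : Commute w x) (p : G ⧸ N) :
    Function.minimalPeriod (x • ·) (w • p) = Function.minimalPeriod (x • ·) p := by
  refine Function.minimalPeriod_eq_minimalPeriod_iff.2 fun k => ?_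
  show (fun q => x • q)^[k] (w • p) = w • p ↔ (fun q => x • q)^[k] p = p
  rw [smul_iterate]
  show x ^ k • w • p = w • p ↔ x ^ k • p = p
  rw [smul_smul, ← (h.pow_right k).eq, ← smul_smul, smul_left_cancel_iff]

theorem orbVal_smul (ϕ : N →* A) {x w : G} (h : Commute w x) (p : G ⧸ N) : orbVal ϕ x (w • p) = orbVal ϕ x p := by
  induction p using QuotientGroup.induction_on with
  | H g =>
    obtain ⟨n, hn⟩ : ∃ n, Function.minimalPeriod (x • ·) (g : G ⧸ N) = n := ⟨_, rfl⟩
    have hg : g⁻¹ * x ^ n * g ∈ N := conj_mem_of_fixed <| by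
      have := Function.isPeriodicPt_minimalPeriod (x • ·) (g : G ⧸ N)
      rw [hn] at this
      have e : (fun q : G ⧸ N => x • q)^[n] (g : G ⧸ N) = (g : G ⧸ N) := this
      rwa [smul_iterate] at e
    have e : (w * g)⁻¹ * x ^ n * (w * g) = g⁻¹ * x ^ n * g := by
      calc (w * g)⁻¹ * x ^ n * (w * g) = g⁻¹ * (w⁻¹ * (x ^ n * w)) * g := by group
        _ = _ := by rw [← (h.pow_right n).eq, inv_mul_cancel_left]
    have hp : Function.minimalPeriod (x • ·) ((w * g : G) : G ⧸ N) = n := by rw [← hn]; exact period_comm h (g : G ⧸ N)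
    show orbVal ϕ x ((w * g : G) : G ⧸ N) = _
    rw [orbVal_eq ϕ x (w * g) hp (e.symm ▸ hg), orbVal_eq ϕ x g hn hg]
    exact congrArg ϕ (Subtype.ext e)

theorem orbVal_shift (hA : ∀ a : A, a * a = 1) (ϕ : N →* A) {x w : G} (h : Commute w x) (hw : w * w = 1)
    {p : G ⧸ N} (hne : w • p ≠ p) (horb : ∃ j : ℕ, w • p = x ^ j • p) : orbVal ϕ x p = 1 := by
  induction p using QuotientGroup.induction_on with
  | H g =>
    obtain ⟨n, hn⟩ : ∃ n, Function.minimalPeriod (x • ·) (g : G ⧸ N) = n := ⟨_, rfl⟩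
    obtain ⟨j, hj⟩ := horb
    have hper : ∀ {k : ℕ}, x ^ k • (g : G ⧸ N) = (g : G ⧸ N) → n ∣ k := fun {k} hk =>
      hn ▸ Function.IsPeriodicPt.minimalPeriod_dvd (by
        show (fun q : G ⧸ N => x • q)^[k] _ = _
        rw [smul_iterate]; exact hk)
    have hfix : x ^ n • (g : G ⧸ N) = (g : G ⧸ N) := by
      have := Function.isPeriodicPt_minimalPeriod (x • ·) (g : G ⧸ N)
      rw [hn] at this
      have e : (fun q : G ⧸ N => x • q)^[n] (g : G ⧸ N) = (g : G ⧸ N) := this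
      rwa [smul_iterate] at e
    have h2j : x ^ (2 * j) • (g : G ⧸ N) = (g : G ⧸ N) := by
      rw [two_mul, pow_add, mul_smul, ← hj, smul_smul, ← (h.pow_right j).eq, mul_smul, ← hj, smul_smul, hw, one_smul]
    obtain ⟨c, hc⟩ := hper h2j
    have hy : g⁻¹ * ((x ^ j)⁻¹ * w) * g ∈ N := conj_mem_of_fixed (by rw [mul_smul, hj, inv_smul_smul])
    have hodd : Odd c := by
      rcases Nat.even_or_odd' c with ⟨d, rfl | rfl⟩
      · exfalso
        refine hne (hj.trans ?_)
        have e : j = n * d := by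
          have : 2 * j = 2 * (n * d) := by rw [hc]; ring
          omega
        rw [e, pow_mul]
        exact MulAction.mem_stabilizer_iff.1 (pow_mem (show x ^ n ∈ stabilizer G (g : G ⧸ N) from hfix) d)
      · exact odd_two_mul_add_one d
    have hg : g⁻¹ * x ^ n * g ∈ N := conj_mem_of_fixed hfix
    rw [orbVal_eq ϕ x g hn hg]
    have e : (⟨g⁻¹ * x ^ n * g, hg⟩ : N) ^ c = ((⟨_, hy⟩ : N) * ⟨_, hy⟩)⁻¹ := by
      refine Subtype.ext ?_
      simp only [Subgroup.coe_pow, Subgroup.coe_inv, Subgroup.coe_mul]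
      rw [show g⁻¹ * x ^ n * g = g⁻¹ * x ^ n * g⁻¹⁻¹ by rw [inv_inv], conj_pow, ← pow_mul, ← hc,
        show g⁻¹ * ((x ^ j)⁻¹ * w) * g * (g⁻¹ * ((x ^ j)⁻¹ * w) * g) =
          g⁻¹ * ((x ^ j)⁻¹ * w * ((x ^ j)⁻¹ * w)) * g⁻¹⁻¹ by group,
        (h.pow_right j).inv_right.mul_mul_mul_comm, hw, mul_one, two_mul, pow_add]
      group
    have := congrArg ϕ e
    rw [map_pow, map_inv, map_mul, hA, inv_one] at this
    obtain ⟨d, rfl⟩ := hodd
    rwa [pow_succ, pow_mul, sq, hA, one_pow, one_mul] at this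

/-- The transfer, when the points fixed by both involutions contribute trivially outside the base. -/
theorem transfer_eq_of_fixed (hA : ∀ a : A, a * a = 1) (ϕ : N →* A) {x t t' : G} (hx : x ∈ N) (ht : t ∈ N)
    (ht' : t' ∈ N) (h2 : t * t = 1) (h2' : t' * t' = 1) (hc : Commute t x) (hc' : Commute t' x) (htt : Commute t t')
    (hfix : ∀ g, g ∉ N → g⁻¹ * t * g ∈ N → g⁻¹ * t' * g ∈ N →
      ∀ n : ℕ, ∀ hn : g⁻¹ * x ^ n * g ∈ N, ϕ ⟨g⁻¹ * x ^ n * g, hn⟩ = 1) :
    MonoidHom.transfer ϕ x = ϕ ⟨x, hx⟩ := by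
  classical
  haveI := Fintype.ofFinite (Quotient (orbitRel (zpowers x) (G ⧸ N)))
  rw [MonoidHom.transfer_eq_prod_quotient_orbitRel_zpowers_quot ϕ x]
  show ∏ q : Quotient (orbitRel (zpowers x) (G ⧸ N)), orbVal ϕ x q.out = _
  have horb : ∀ {p q : G ⧸ N}, (Quotient.mk'' p : Quotient (orbitRel (zpowers x) (G ⧸ N))) = Quotient.mk'' q →
      ∃ j : ℕ, p = x ^ j • q := by
    intro p q h
    obtain ⟨⟨y, hy⟩, e⟩ := Quotient.eq''.1 h
    obtain ⟨j, rfl⟩ := (isOfFinOrder_of_finite x).mem_powers_iff_mem_zpowers.2 hy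
    exact ⟨j, e.symm⟩
  have hrel : ∀ (p : G ⧸ N) (j : ℕ),
      (Quotient.mk'' (x ^ j • p) : Quotient (orbitRel (zpowers x) (G ⧸ N))) = Quotient.mk'' p :=
    fun p j => Quotient.eq''.2 ⟨⟨x ^ j, pow_mem (mem_zpowers x) j⟩, rfl⟩
  have hout : ∀ q : Quotient (orbitRel (zpowers x) (G ⧸ N)), ∀ p, Quotient.mk'' p = q → ∃ j : ℕ, q.out = x ^ j • p :=
    fun q p h => horb ((Quotient.out_eq' q).trans h.symm)
  let move : (w : G) → Quotient (orbitRel (zpowers x) (G ⧸ N)) → Quotient (orbitRel (zpowers x) (G ⧸ N)) :=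
    fun w q => Quotient.mk'' (w • q.out)
  have hinv : ∀ w : G, Commute w x → w * w = 1 → ∀ q, move w (move w q) = q := fun w hwx hw q => by
    obtain ⟨j, hj⟩ := hout (move w q) _ rfl
    show Quotient.mk'' (w • (move w q).out) = q
    rw [hj, smul_smul, (hwx.pow_right j).eq, mul_smul, hrel, smul_smul, hw, one_smul, Quotient.out_eq']
  have hval : ∀ w : G, Commute w x → ∀ q, orbVal ϕ x (move w q).out = orbVal ϕ x q.out := fun w hwx q => by
    obtain ⟨j, hj⟩ := hout (move w q) _ rfl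
    rw [hj, orbVal_smul ϕ ((Commute.refl x).pow_left j), orbVal_smul ϕ hwx]
  have hkill : ∀ (w : G), Commute w x → w * w = 1 → ∀ S : Finset (Quotient (orbitRel (zpowers x) (G ⧸ N))),
      (∀ q ∈ S, move w q ∈ S) → ∏ q ∈ S, orbVal ϕ x q.out = ∏ q ∈ S.filter (fun q => w • q.out = q.out), orbVal ϕ x q.out := by
    intro w hwx hw S hS
    rw [← Finset.prod_filter_mul_prod_filter_not S (fun q => w • q.out = q.out)]
    refine mul_eq_left.2 (Finset.prod_involution (fun q _ => move w q) (fun q hq => ?_) (fun q hq hne => ?_)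
      (fun q hq => ?_) fun q hq => hinv w hwx hw q)
    · rw [hval w hwx, hA]
    · intro e
      refine hne (orbVal_shift hA ϕ hwx hw (Finset.mem_filter.1 hq).2 (horb ?_))
      exact (show Quotient.mk'' (w • q.out) = q from e).trans (Quotient.out_eq' q).symm
    · obtain ⟨hqS, hq'⟩ := Finset.mem_filter.1 hq
      refine Finset.mem_filter.2 ⟨hS q hqS, fun e => hq' ?_⟩
      obtain ⟨j, hj⟩ := hout (move w q) _ rfl
      rw [hj, smul_smul, (hwx.pow_right j).eq, mul_smul, smul_left_cancel_iff, smul_left_cancel_iff] at e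
      exact e
  rw [hkill t hc h2 _ fun q _ => Finset.mem_univ _, hkill t' hc' h2' _ fun q hq => ?_]
  · rw [Finset.prod_eq_single (Quotient.mk'' ((1 : G) : G ⧸ N))]
    · obtain ⟨j, hj⟩ := hout _ ((1 : G) : G ⧸ N) rfl
      rw [hj, orbVal_smul ϕ ((Commute.refl x).pow_left j)]
      have hp : Function.minimalPeriod (x • ·) ((1 : G) : G ⧸ N) = 1 :=
        Function.minimalPeriod_eq_one_iff_isFixedPt.2 (fixed_of_conj_mem (by rwa [inv_one, one_mul, mul_one]))
      rw [orbVal_eq ϕ x 1 hp (by rwa [pow_one, inv_one, one_mul, mul_one])]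
      exact congrArg ϕ (Subtype.ext (by simp))
    · intro q hq hne
      rw [Finset.mem_filter, Finset.mem_filter] at hq
      refine hfix q.out.out (fun hN => hne ?_) (conj_mem_of_fixed (by rw [QuotientGroup.out_eq']; exact hq.1.2))
        (conj_mem_of_fixed (by rw [QuotientGroup.out_eq']; exact hq.2)) _ _
      have e : q.out = ((1 : G) : G ⧸ N) := by
        rw [← QuotientGroup.out_eq' q.out, QuotientGroup.eq, mul_one]; exact inv_mem hN
      rw [← e, Quotient.out_eq']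
    · intro hn
      exfalso
      apply hn
      obtain ⟨j, hj⟩ := hout _ ((1 : G) : G ⧸ N) rfl
      have h1 : ∀ w : G, Commute w x → w ∈ N → w • (x ^ j • ((1 : G) : G ⧸ N)) = x ^ j • ((1 : G) : G ⧸ N) :=
        fun w hwx hw => by
          rw [smul_smul, (hwx.pow_right j).eq, mul_smul, fixed_of_conj_mem (by rwa [inv_one, one_mul, mul_one])]
      simp only [Finset.mem_filter, Finset.mem_univ, true_and]
      exact ⟨by rw [hj]; exact h1 t hc ht, by rw [hj]; exact h1 t' hc' ht'⟩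
  · obtain ⟨-, hq'⟩ := Finset.mem_filter.1 hq
    refine Finset.mem_filter.2 ⟨Finset.mem_univ _, ?_⟩
    obtain ⟨j, hj⟩ := hout (move t' q) _ rfl
    rw [hj, smul_smul t, (hc.pow_right j).eq, mul_smul, smul_smul t, htt.eq, mul_smul, hq']

end CfsgLib.StdHe
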