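import Cfsg.Agent.Lib.StdHe.AModel

/-!
Facts about the codes for the unfused case.
-/

set_option autoImplicit false
set_option synthInstance.maxSize 4096

namespace CfsgLib.StdHe

/-- The label of an element of the first elementary subgroup. -/
def lab₁' (y : ℕ) : ℕ :=
  if cL y = 0 then cA y else cA y ^^^ fm (cL y) (fq (fm (cB y) (finv (cL y))))

/-- The element moved to the centre of the Sylow subgroup. -/
def mvE₁ (y : ℕ) : ℕ :=
  tmul (tmul (64 * fm (cB y) (finv (cL y))) y) (64 * fm (cB y) (finv (cL y)))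

theorem mvE₁_spec : ∀ y < 256, cN y = 0 → 1 ≤ cL y →
    cN (mvE₁ y) = 0 ∧ tW1 (mvE₁ y) < 16 ∧ cA (tW1 (mvE₁ y)) = lab₁' y := by
  decide +kernel

theorem lab_seventeen : lab₁' 17 = 1 ∧ cL 17 = 1 ∧ cN 17 = 0 := by decide

theorem comm_seventeen : ∀ y < 256, ∀ w < 16, cA w = 0 → tmul (tmul y 17) (tinv y) = tmul w 17 →
    cN y = 0 ∧ tmul y y = 0 := by
  decide +kernel

theorem coset_seventeen : ∀ w < 16, tmul w 17 < 256 ∧ 16 ≤ tmul w 17 := by decide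

theorem coset_good : ∀ y < 256, cN y = 0 →
    y = 0 ∨ y = 4 ∨ (y = 8 ∨ y = 12) ∨ 1 ≤ lab₁' y ∨ 1 ≤ lab₁' (tmul y 4) := by
  decide +kernel

theorem coset_good_U : ∀ y < 256, cN y = 0 →
    (y = 0 ∨ y = 4 ∨ y = 8 ∨ y = 12) ∨ ∃ w < 16, cA w = 0 ∧ 1 ≤ lab₁' (tmul y w) := by
  decide +kernel

theorem cube_fix : ∀ σ s : Bool, ∀ k < 4, ∀ m < 4, 1 ≤ k → 1 ≤ m → ∀ b < 4,
    aMap σ s k m b < 4 ∧ ((Nat.beq (aMap σ s k m (aMap σ s k m (aMap σ s k m 1))) 1 ||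
      Nat.beq (aMap σ s k m (aMap σ s k m (aMap σ s k m 2))) 2 ||
      Nat.beq (aMap σ s k m (aMap σ s k m (aMap σ s k m 3))) 3) = true) := by
  decide +kernel

end CfsgLib.StdHe
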