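import Cfsg.Agent.Lib.StdHe.NBasic
import Cfsg.Agent.Lib.StdHe.UModel
import Cfsg.Agent.Lib.StdHe.TransferFix
import Cfsg.Agent.Lib.ZStar.Main
import Cfsg.Agent.Lib.CoprimeGen
import Cfsg.Agent.Lib.OvalPlane.Group

/-!
Some involution centralising the standard subgroup is conjugate to one outside in its normaliser.
-/

set_option autoImplicit false
set_option linter.unusedSectionVars false
set_option linter.style.haveILetI false

namespace CfsgLib.StdHe

open Subgroup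

universe u

variable {G : Type u} [Group G] {L : Subgroup G}

theorem commute_of_conj_eq {a b : G} (h : a * b * a⁻¹ = b) : Commute a b := mul_inv_eq_iff_eq_mul.1 h

/-- Two elements of square one: conjugate over a set, or an element between them. -/
theorem dihedral_step [Finite G] (W : Set G) (h1 : (1 : G) ∈ W) {s e : G} (hs : s * s = 1) (he : e * e = 1)
    (hsW : ∀ w ∈ W, Commute s w) (heW : ∀ w ∈ W, Commute e w) :
    (∃ c : G, (∀ w ∈ W, Commute c w) ∧ ∃ w ∈ W, c * s * c⁻¹ = w * e) ∨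
    ∃ v : G, (∀ w ∈ W, Commute v w) ∧ v ∉ W ∧ v * v ∈ W ∧ v * e * v⁻¹ = v * v * e ∧ Commute (s * e) v := by
  classical
  have hpe : e * (s * e) * e⁻¹ = (s * e)⁻¹ := by
    rw [mul_inv_rev, inv_eq_of_mul_eq_one_right hs, inv_eq_of_mul_eq_one_right he, mul_assoc, mul_assoc s e e, he, mul_one]
  have hps : s * (s * e) * s⁻¹ = (s * e)⁻¹ := by
    rw [mul_inv_rev, inv_eq_of_mul_eq_one_right hs, inv_eq_of_mul_eq_one_right he, ← mul_assoc, hs, one_mul]
  have hcW : ∀ n : ℕ, ∀ w ∈ W, Commute ((s * e) ^ n) w := fun n w hw => ((hsW w hw).mul_left (heW w hw)).pow_left n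
  have hex : ∃ r, 0 < r ∧ (s * e) ^ r ∈ W :=
    ⟨orderOf (s * e), orderOf_pos _, by rw [pow_orderOf_eq_one]; exact h1⟩
  obtain ⟨hr0, hrW⟩ := Nat.find_spec hex
  have hmin : ∀ n, n < Nat.find hex → 0 < n → (s * e) ^ n ∉ W := fun n hn h0 h => Nat.find_min hex hn ⟨h0, h⟩
  obtain ⟨i, hi | hi⟩ := Nat.even_or_odd' (Nat.find hex)
  · right
    refine ⟨(s * e) ^ i, hcW i, hmin i (by omega) (by omega), ?_, ?_, (Commute.refl _).pow_right i⟩
    · rw [← pow_add, ← two_mul, ← hi]; exact hrW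
    · have h : e * ((s * e) ^ i)⁻¹ * e⁻¹ = (s * e) ^ i := by rw [← conj_inv, ← conj_pow, hpe, inv_pow, inv_inv]
      calc (s * e) ^ i * e * ((s * e) ^ i)⁻¹ = (s * e) ^ i * (e * ((s * e) ^ i)⁻¹ * e⁻¹) * e := by group
        _ = _ := by rw [h]
  · left
    refine ⟨(s * e) ^ i, hcW i, _, hrW, ?_⟩
    rw [hi]
    have h : s * ((s * e) ^ i)⁻¹ * s⁻¹ = (s * e) ^ i := by rw [← conj_inv, ← conj_pow, hps, inv_pow, inv_inv]
    calc (s * e) ^ i * s * ((s * e) ^ i)⁻¹ = (s * e) ^ i * (s * ((s * e) ^ i)⁻¹ * s⁻¹) * s := by group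
      _ = (s * e) ^ (2 * i + 1) * e := by
        rw [h, pow_succ, two_mul, pow_add]
        simp only [mul_assoc, he, mul_one]

namespace Coord

theorem not_lab₀_E₁ (C : Coord L) {y : ℕ} (hy : y < 256) (hn : cN y = 0) (hl : 1 ≤ lab₁' y) : ¬ C.Lab₀ (C.τ y) := by
  by_cases hL : cL y = 0
  · have hy16 : y < 16 := by unfold cL cN at *; omega
    refine C.not_lab₀ (one_mem L) hy16 (by simp) ?_
    rw [lab₁', if_pos hL] at hl
    omega
  · obtain ⟨h1, h2, h3⟩ := mvE₁_spec y hy hn (Nat.pos_of_ne_zero hL)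
    refine C.not_lab₀ (mul_mem C.w₁_mem (C.mem (64 * fm (cB y) (finv (cL y))))) h2 ?_ (by omega)
    have hsq : C.τ (64 * fm (cB y) (finv (cL y))) * C.τ (64 * fm (cB y) (finv (cL y))) = 1 := by
      rw [C.mul, (root_sq _ (fm_lt _ (cB_lt y) _ (show finv (cL y) < 4 from fq_lt (cL_lt y)))).2.1, C.τ_zero]
    have hc : C.τ (64 * fm (cB y) (finv (cL y))) * C.τ y * (C.τ (64 * fm (cB y) (finv (cL y))))⁻¹ =
        C.τ (mvE₁ y) := by
      rw [inv_eq_of_mul_eq_one_right hsq, C.mul, C.mul, mvE₁]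
    rw [← C.w₁_conj _ h1, ← hc]
    group

theorem mem_of_lab₀ {C : Coord L} {g : G} (h : C.Lab₀ g) : g ∈ L := by
  obtain ⟨c, hc, y, -, -, -, e⟩ := h
  rw [show g = c⁻¹ * C.τ y * c by rw [← e]; group]
  exact mul_mem (mul_mem (inv_mem hc) (C.mem y)) hc

end Coord

/-- The centre of the subgroup, in the group. -/
def zSub (L : Subgroup G) : Subgroup G := L ⊓ centralizer (L : Set G)

namespace Std

variable [Finite G] (S : Std L)

include S

theorem τ_mem_Zc {a : ℕ} (ha : a < 4) : S.C.τ a ∈ zSub L := ⟨S.C.mem a, S.τ_mem_K ha⟩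

theorem Zc_sq {x : G} (hx : x ∈ zSub L) : x * x = 1 := by
  obtain ⟨a, ha, rfl⟩ := S.inf_cases hx.1 hx.2
  exact S.τ_sq (by omega)

theorem Zc_commutative : IsMulCommutative (zSub L) :=
  ⟨⟨fun a b => Subtype.ext (commute_cent a.2.1 b.2.2).eq⟩⟩

theorem card_Zc : Nat.card (zSub L) = 4 := by
  let f : Fin 4 → zSub L := fun a => ⟨S.C.τ a, S.τ_mem_Zc a.2⟩
  have hf : Function.Bijective f :=
    ⟨fun i j h => Fin.ext (S.C.inj i (by omega) j (by omega) (congrArg Subtype.val h)), fun ⟨x, hx⟩ => by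
      obtain ⟨a, ha, e⟩ := S.inf_cases hx.1 hx.2
      exact ⟨⟨a, ha⟩, Subtype.ext e⟩⟩
  rw [← Nat.card_congr (Equiv.ofBijective f hf), Nat.card_fin]

theorem Zc_not_cyclic : ¬ IsCyclic (zSub L) := by
  intro h
  obtain ⟨g, hg⟩ := h.exists_generator
  have h2 : orderOf g ≤ 2 := Nat.le_of_dvd two_pos (orderOf_dvd_of_pow_eq_one (by
    rw [sq]; exact Subtype.ext (S.Zc_sq g.2)))
  rw [orderOf_eq_card_of_forall_mem_zpowers hg, S.card_Zc] at h2
  omega

variable (hun : ∀ g k : G, k ∈ centralizer (L : Set G) → k * k = 1 → k ≠ 1 →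
  g * k * g⁻¹ ∈ normalizer (L : Set G) → g * k * g⁻¹ ∈ centralizer (L : Set G))

include hun

theorem back_N {g k : G} (hk : k ∈ centralizer (L : Set G)) (h2 : k * k = 1) (h1 : k ≠ 1)
    (h : g * k * g⁻¹ ∈ normalizer (L : Set G)) : g ∈ normalizer (L : Set G) :=
  S.back g k hk (hun g k hk h2 h1 h) h2 h1

theorem sgn_eq_one (hp : commutator G = ⊤) {x : G} (hx : x ∈ normalizer (L : Set G)) : S.sgn ⟨x, hx⟩ = 1 := by
  -- an element with the same signs centralising a central involution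
  obtain ⟨a, ha, ha1, hfix⟩ : ∃ a < 4, 1 ≤ a ∧ Commute (S.C.τ a) (x ^ 3) := by
    obtain ⟨l, hl, σ, s, k, m, h⟩ := S.C.exists_act hx
    have hA := fun b (hb : b < 4) => Coord.Act.centre S.C ⟨l, hl, h⟩ hb
    have hf := cube_fix σ s k h.k₁_mem.2 m h.k₂_mem.2 h.k₁_mem.1 h.k₂_mem.1
    have hlt := fun b (hb : b < 4) => (hf b hb).1
    obtain ⟨a, ha, ha1, he⟩ : ∃ a < 4, 1 ≤ a ∧ aMap σ s k m (aMap σ s k m (aMap σ s k m a)) = a := by
      have := (hf 0 (by norm_num)).2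
      simp only [Bool.or_eq_true, Nat.beq_eq] at this
      rcases this with (h | h) | h
      exacts [⟨1, by norm_num, le_rfl, h⟩, ⟨2, by norm_num, by norm_num, h⟩, ⟨3, by norm_num, by norm_num, h⟩]
    refine ⟨a, ha, ha1, (commute_of_conj_eq ?_).symm⟩
    rw [conj_cube, hA a ha, hA _ (hlt a ha), hA _ (hlt _ (hlt a ha)), he]
  have hsq : ∀ p : Multiplicative (ZMod 2), p * p = 1 := by decide
  have hx3 : S.sgn ⟨x, hx⟩ = S.sgn (⟨x, hx⟩ ^ 3) := by
    rw [map_pow, pow_three]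
    exact Prod.ext (by simp [hsq]) (by simp [hsq])
  rw [hx3]
  have h0 : ∀ χ : normalizer (L : Set G) →* Multiplicative (ZMod 2), χ (⟨x, hx⟩ ^ 3) = 1 := by
    intro χ
    have h := transfer_eq_of_fixed hsq χ (pow_mem hx 3) (le_normalizer (S.C.mem a)) (one_mem _)
      (S.τ_sq (by omega)) (one_mul 1) hfix (Commute.one_left _) (Commute.one_right _)
      (fun g hg ht _ => absurd (inv_mem (S.back_N hun (g := g⁻¹) (S.τ_mem_K ha) (S.τ_sq (by omega))
        (S.τ_ne (by omega) (by omega)) (by simpa using ht))) (by simpa using hg))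
    have h1 : MonoidHom.transfer χ (x ^ 3) = 1 := by
      have hx' : x ^ 3 ∈ commutator G := by rw [hp]; trivial
      exact MonoidHom.mem_ker.1 (Abelianization.commutator_subset_ker _ hx')
    rw [h1] at h
    exact h.symm
  exact Prod.ext (h0 ((MonoidHom.fst _ _).comp S.sgn)) (h0 ((MonoidHom.snd _ _).comp S.sgn))

theorem inner_two (hp : commutator G = ⊤) {x : G} (hx : x ∈ normalizer (L : Set G)) {n : ℕ} (hn : x ^ 2 ^ n = 1) :
    Inner L x :=
  S.inner_of_sgn hx (S.sgn_eq_one hun hp hx) hn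

/-- Conjugation to an element with centraliser in the normaliser is inside the normaliser. -/
theorem conj_mem_N {g a b : G} (hg : g * b * g⁻¹ = a) (ha : Inner L a)
    (hb : ∀ y, Commute y b → y ∈ normalizer (L : Set G)) : g ∈ normalizer (L : Set G) := by
  have h1 : Commute (g⁻¹ * S.C.τ 1 * g) b := by
    have h := (S.inner_centZ ha 1 (by norm_num)).symm.conj g⁻¹
    rw [← hg] at h
    simpa [mul_assoc] using h
  have := S.back_N hun (g := g⁻¹) (S.τ_mem_K (show 1 < 4 by norm_num)) (S.τ_sq (by norm_num))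
    (S.τ_ne (by norm_num) one_ne_zero) (by rw [inv_inv]; exact hb _ h1)
  simpa using inv_mem this

theorem cent_good {k : G} (hk : k ∈ centralizer (L : Set G)) (h2 : k * k = 1) (h1 : k ≠ 1) {g : G}
    (hg : Commute g (S.C.τ 4 * k)) : g ∈ normalizer (L : Set G) := by
  classical
  set X := centralizer ({S.C.τ 4 * k} : Set G) with hX
  have hσk : Commute (S.C.τ 4) k := commute_cent (S.C.mem 4) hk
  have hkX : k ∈ X := mem_centralizer_singleton_iff.2 (hσk.symm.mul_right (Commute.refl k)).eq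
  have hconj : ∀ c ∈ X, c * k * c⁻¹ ∈ normalizer (L : Set G) → c ∈ normalizer (L : Set G) ∧ c * k * c⁻¹ = k := by
    intro c hc hcN
    have hcn := S.back_N hun hk h2 h1 hcN
    refine ⟨hcn, ?_⟩
    have hk' := conj_mem_K hcn hk
    have hσ' := conj_mem_L hcn (S.C.mem 4)
    have e : c * S.C.τ 4 * c⁻¹ * (c * k * c⁻¹) = S.C.τ 4 * k := by
      rw [show c * S.C.τ 4 * c⁻¹ * (c * k * c⁻¹) = c * (S.C.τ 4 * k) * c⁻¹ by group,
        mem_centralizer_singleton_iff.1 hc, mul_inv_cancel_right]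
    have e' : (S.C.τ 4)⁻¹ * (c * S.C.τ 4 * c⁻¹) = k * (c * k * c⁻¹)⁻¹ := by
      rw [eq_mul_inv_iff_mul_eq, mul_assoc, e, inv_mul_cancel_left]
    obtain ⟨a, ha, hae⟩ := S.inf_cases (mul_mem (inv_mem (S.C.mem 4)) hσ') (e' ▸ mul_mem hk (inv_mem hk'))
    have hlab : S.C.Lab₀ (c * S.C.τ 4 * c⁻¹) :=
      S.C.lab₀_conj hcn ⟨1, one_mem L, 4, by norm_num, le_rfl, by decide, by simp⟩
    have ha0 : a = 0 := by
      by_contra hne
      have hs : c * S.C.τ 4 * c⁻¹ = S.C.τ (tmul 4 a) := by rw [← S.C.mul, hae, mul_inv_cancel_left]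
      have hfact : ∀ a < 4, tmul 4 a < 16 ∧ cA (tmul 4 a) = a := by decide
      exact S.C.not_lab₀ (one_mem L) (hfact a ha).1 (by simp) (by rw [(hfact a ha).2]; exact hne) (hs ▸ hlab)
    rw [ha0, S.C.τ_zero, e'] at hae
    rw [eq_comm, mul_inv_eq_one] at hae
    exact hae.symm
  have hiso : Cfsg.IsIsolated (⟨k, hkX⟩ : X) := fun c hc => by
    have hc' : Commute k ((c : G) * k * (c : G)⁻¹) := congrArg Subtype.val hc.eq
    exact Subtype.ext (hconj c c.2 (S.cent_le hk h2 h1 hc'.symm)).2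
  have hord : orderOf (⟨k, hkX⟩ : X) = 2 := by
    rw [Subgroup.orderOf_mk]; exact orderOf_eq_prime (by rw [sq, h2]) h1
  set O := (Cfsg.pPrimeCore 2 X).map X.subtype with hO
  haveI := S.Zc_commutative
  have hZX : zSub L ≤ X := fun z hz => by
    obtain ⟨a, ha, rfl⟩ := S.inf_cases hz.1 hz.2
    exact mem_centralizer_singleton_iff.2
      (((S.C.τ_centre_comm (S.C.mem 4) ha).symm).mul_right (commute_cent (S.C.mem a) hk)).eq
  have hZO : zSub L ≤ normalizer (O : Set G) := fun z hz => by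
    have hn : (Cfsg.pPrimeCore 2 X).Normal := inferInstance
    rw [mem_normalizer_iff]
    intro o
    constructor
    · rintro ⟨o', ho', rfl⟩
      exact ⟨⟨z, hZX hz⟩ * o' * ⟨z, hZX hz⟩⁻¹, hn.conj_mem _ ho' _, rfl⟩
    · rintro ⟨o', ho', e⟩
      refine ⟨⟨z, hZX hz⟩⁻¹ * o' * ⟨z, hZX hz⟩, by simpa using hn.conj_mem _ ho' (⟨z, hZX hz⟩ : X)⁻¹, ?_⟩
      simp only [map_mul, map_inv, coe_subtype] at e ⊢
      rw [e]; group
  have hcop : (Nat.card (zSub L)).Coprime (Nat.card O) := by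
    rw [hO, card_map_of_injective X.subtype_injective, S.card_Zc]
    exact (Nat.Coprime.pow_left 2 (CfsgLib.card_pPrimeCore_coprime (G := X) 2).symm)
  have hOle : O ≤ normalizer (L : Set G) := by
    rw [← CfsgLib.coprime_generated_by_centralizers S.Zc_not_cyclic hZO hcop]
    refine iSup₂_le fun z hz => ?_
    obtain ⟨hz, hz1⟩ := hz
    intro y hy
    exact S.cent_le hz.2 (S.Zc_sq hz) hz1 (mem_centralizer_singleton_iff.1 hy.2)
  have hgX : g ∈ X := mem_centralizer_singleton_iff.2 hg.eq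
  have hmem := ZStar.commutator_mem hord hiso ⟨g, hgX⟩
  have ho : k * g * k⁻¹ * g⁻¹ ∈ normalizer (L : Set G) := hOle ⟨_, hmem, rfl⟩
  refine (hconj g hgX ?_).1
  rw [show g * k * g⁻¹ = (k * g * k⁻¹ * g⁻¹)⁻¹ * k by group]
  exact mul_mem (inv_mem ho) (cent_le_normalizer hk)

theorem cent_not_lab₀ (hp : commutator G = ⊤) {x : G} (hx : x ∈ normalizer (L : Set G)) (h2 : x * x = 1)
    (h1 : x ≠ 1) (hl : ¬ S.C.Lab₀ x) {g : G} (hg : Commute g x) : g ∈ normalizer (L : Set G) := by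
  have hin := S.inner_two hun hp hx (n := 1) (by rw [pow_one, sq, h2])
  by_cases hK : x ∈ centralizer (L : Set G)
  · exact S.cent_le hK h2 h1 hg
  obtain ⟨c, hc, k, hk, hk2, e⟩ := S.invol_normal_form hin h2 hK
  have hk1 : k ≠ 1 := fun h => hl ⟨c, hc, 4, by norm_num, le_rfl, by decide, by rw [e, h, mul_one]⟩
  have := S.cent_good hun hk hk2 hk1 (g := c * g * c⁻¹) (e ▸ hg.conj c)
  have hcN := le_normalizer hc
  rw [show g = c⁻¹ * (c * g * c⁻¹) * c by group]
  exact mul_mem (mul_mem (inv_mem hcN) this) hcN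

/-- A step: from the centraliser of a larger set to that of a smaller one. -/
theorem cent_step (hp : commutator G = ⊤) (P : ℕ → Prop) (hP : ∀ w, P w → w < 16 ∧ cA w = 0) (hP0 : P 0)
    (hP4 : P 4)
    (hfin : ∀ y < 256, cN y = 0 → ¬ P y → ∀ d, (∀ w, P w → Commute d (S.C.τ w)) → Commute d (S.C.τ y) →
      d ∈ normalizer (L : Set G))
    {d : G} (hd : ∀ w, P w → Commute d (S.C.τ w)) : d ∈ normalizer (L : Set G) := by
  set W : Set G := {g | ∃ w, P w ∧ S.C.τ w = g}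
  have hWc : ∀ w ∈ W, Commute d w := by rintro _ ⟨w, hw, rfl⟩; exact hd w hw
  obtain ⟨hl17, h17L, h17N⟩ := lab_seventeen
  have he : S.C.τ 17 * S.C.τ 17 = 1 := by rw [S.C.mul, show tmul 17 17 = 0 by decide, S.C.τ_zero]
  have hcent17 : ∀ y, Commute y (S.C.τ 17) → y ∈ normalizer (L : Set G) := fun y hy =>
    S.cent_not_lab₀ hun hp (le_normalizer (S.C.mem 17)) he (S.τ_ne (by norm_num) (by norm_num))
      (S.C.not_lab₀_E₁ (by norm_num) h17N (by omega)) hy
  have hs : d * S.C.τ 1 * d⁻¹ * (d * S.C.τ 1 * d⁻¹) = 1 := by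
    rw [show d * S.C.τ 1 * d⁻¹ * (d * S.C.τ 1 * d⁻¹) = d * (S.C.τ 1 * S.C.τ 1) * d⁻¹ by group,
      S.τ_sq (by norm_num), mul_one, mul_inv_cancel]
  have hsW : ∀ w ∈ W, Commute (d * S.C.τ 1 * d⁻¹) w := by
    rintro _ ⟨w, hw, rfl⟩
    exact ((hd w hw).mul_left (S.C.centre_comm' (by norm_num) (by have := (hP w hw).1; omega))).mul_left
      (hd w hw).inv_left
  have heW : ∀ w ∈ W, Commute (S.C.τ 17) w := by
    rintro _ ⟨w, hw, rfl⟩
    exact (S.C.centre_comm' (hP w hw).1 (by norm_num)).symm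
  rcases dihedral_step W ⟨0, hP0, S.C.τ_zero⟩ hs he hsW heW with
    ⟨c, -, w', ⟨w, hw, rfl⟩, e⟩ | ⟨v, hvW, hvn, ⟨w, hw, hv2⟩, hve, hsev⟩
  · exfalso
    obtain ⟨hlt, hge⟩ := coset_seventeen w (hP w hw).1
    rw [S.C.mul, show c * (d * S.C.τ 1 * d⁻¹) * c⁻¹ = c * d * S.C.τ 1 * (c * d)⁻¹ by group] at e
    have hK := hun (c * d) (S.C.τ 1) (S.τ_mem_K (by norm_num)) (S.τ_sq (by norm_num))
      (S.τ_ne (by norm_num) one_ne_zero) (e ▸ le_normalizer (S.C.mem _))
    rw [e] at hK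
    obtain ⟨a, ha, hae⟩ := S.inf_cases (S.C.mem _) hK
    have := S.C.inj a (by omega) _ hlt hae
    omega
  · rw [← hv2] at hve
    have hvN : v ∈ normalizer (L : Set G) := S.conj_mem_N hun hve
      (Inner.of_mem (mul_mem (S.C.mem _) (S.C.mem _))) hcent17
    have hv4 : v ^ 2 ^ 2 = 1 := by
      rw [show v ^ 2 ^ 2 = v * v * (v * v) by simp [pow_succ, mul_assoc], ← hv2, S.τ_sq (hP w hw).1]
    obtain ⟨l, hl, k, hk, e⟩ := S.inner_two hun hp hvN hv4
    have hlσ : Commute l (S.C.τ 4) := by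
      rw [show l = v * k⁻¹ by rw [← e, mul_inv_cancel_right]]
      exact (hvW _ ⟨4, hP4, rfl⟩).mul_left (commute_cent (S.C.mem 4) hk).symm.inv_left
    obtain ⟨y, hy, rfl⟩ := S.C.centr l hl 4 (by norm_num) le_rfl hlσ
    have hke : v * S.C.τ 17 * v⁻¹ = S.C.τ (tmul (tmul y 17) (tinv y)) := by
      rw [← e, ← S.C.conj_τ_τ hy, mul_inv_rev]
      calc S.C.τ y * k * S.C.τ 17 * (k⁻¹ * (S.C.τ y)⁻¹) = S.C.τ y * (k * S.C.τ 17 * k⁻¹) * (S.C.τ y)⁻¹ := by group
        _ = _ := by rw [← (commute_cent (S.C.mem 17) hk).eq, mul_inv_cancel_right]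
    rw [hke, S.C.mul] at hve
    obtain ⟨hyN, hy2⟩ := comm_seventeen y hy w (hP w hw).1 (hP w hw).2
      (S.C.inj _ (tmul_lt _ _) _ (coset_seventeen w (hP w hw).1).1 hve)
    have hk2 : k * k = 1 := by
      have h : v * v = k * k := by
        rw [← e, (commute_cent hl hk).symm.mul_mul_mul_comm, S.C.mul, hy2, S.C.τ_zero, one_mul]
      rw [h] at hv2
      obtain ⟨a, ha, hae⟩ := S.inf_cases (hv2 ▸ S.C.mem w) (mul_mem hk hk)
      rw [← hv2] at hae
      have e0 := S.C.inj a (by omega) w (by have := (hP w hw).1; omega) hae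
      have : w = 0 := by
        have h0 := (hP w hw).2
        unfold cA at h0; omega
      rw [← hv2, this, S.C.τ_zero]
    suffices hse : d * S.C.τ 1 * d⁻¹ * S.C.τ 17 ∈ normalizer (L : Set G) by
      have hsN : d * S.C.τ 1 * d⁻¹ ∈ normalizer (L : Set G) := by
        simpa [mul_assoc] using mul_mem hse (inv_mem (le_normalizer (S.C.mem 17)))
      exact S.back_N hun (S.τ_mem_K (show 1 < 4 by norm_num)) (S.τ_sq (by norm_num))
        (S.τ_ne (by norm_num) one_ne_zero) hsN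
    have hseW : ∀ u, P u → Commute (d * S.C.τ 1 * d⁻¹ * S.C.τ 17) (S.C.τ u) := fun u hu =>
      (hsW _ ⟨u, hu, rfl⟩).mul_left (heW _ ⟨u, hu, rfl⟩)
    by_cases hkL : k ∈ L
    · obtain ⟨a, ha, rfl⟩ := S.inf_cases hkL hk
      rw [S.C.mul] at e
      have hcn : cN (tmul y a) = 0 := by
        rw [(parts_tmul y a).2.2.2, hyN, show cN a = 0 by unfold cN; omega]; rfl
      refine hfin (tmul y a) (tmul_lt _ _) hcn (fun hp' => hvn ⟨_, hp', e⟩) _ hseW ?_
      rw [e]; exact hsev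
    · have hv2' : v * v = 1 := by
        rw [← e, (commute_cent hl hk).symm.mul_mul_mul_comm, hk2, mul_one, S.C.mul, hy2, S.C.τ_zero]
      refine S.cent_not_lab₀ hun hp hvN hv2' (fun h => hvn (h ▸ ⟨0, hP0, S.C.τ_zero⟩)) (fun h => hkL ?_) hsev
      rw [show k = (S.C.τ y)⁻¹ * v by rw [← e, inv_mul_cancel_left]]
      exact mul_mem (inv_mem hl) (Coord.mem_of_lab₀ h)

theorem cent_lab_pos (hp : commutator G = ⊤) {y : ℕ} (hy : y < 256) (hn : cN y = 0) (hl : 1 ≤ lab₁' y) {d : G}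
    (hd : Commute d (S.C.τ y)) : d ∈ normalizer (L : Set G) := by
  have h2 : S.C.τ y * S.C.τ y = 1 := by
    have hfact : ∀ y < 256, cN y = 0 → tmul y y = 0 := by decide +kernel
    rw [S.C.mul, hfact y hy hn, S.C.τ_zero]
  refine S.cent_not_lab₀ hun hp (le_normalizer (S.C.mem y)) h2 (fun h => ?_) (S.C.not_lab₀_E₁ hy hn hl) hd
  have := S.C.inj y hy 0 (by norm_num) (h.trans S.C.τ_zero.symm)
  subst this
  simp [lab₁', cL, cA] at hl

theorem cent_U (hp : commutator G = ⊤) {d : G} (h4 : Commute d (S.C.τ 4)) (h8 : Commute d (S.C.τ 8)) :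
    d ∈ normalizer (L : Set G) := by
  refine S.cent_step hun hp (fun w => w < 16 ∧ cA w = 0) (fun _ h => h) (by decide) (by decide)
    (fun y hy hn hnP c hc hcy => ?_) fun w hw => ?_
  · rcases coset_good_U y hy hn with h | ⟨w, hw, hw0, hl⟩
    · exact absurd (by rcases h with rfl | rfl | rfl | rfl <;> decide) hnP
    · refine S.cent_lab_pos hun hp (tmul_lt _ _) ?_ hl (S.C.mul y w ▸ hcy.mul_right (hc w ⟨hw, hw0⟩))
      rw [(parts_tmul y w).2.2.2, hn, show cN w = 0 by unfold cN; omega]; rfl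
  · have hw' : w = 0 ∨ w = 4 ∨ w = 8 ∨ w = 12 := by
      have := hw.1; have := hw.2; unfold cA at this; omega
    rcases hw' with rfl | rfl | rfl | rfl
    · rw [S.C.τ_zero]; exact Commute.one_right d
    · exact h4
    · exact h8
    · rw [show (12 : ℕ) = tmul 4 8 by decide, ← S.C.mul]; exact h4.mul_right h8

theorem cent_four (hp : commutator G = ⊤) {d : G} (h4 : Commute d (S.C.τ 4)) :
    d ∈ normalizer (L : Set G) := by
  refine S.cent_step hun hp (fun w => w = 0 ∨ w = 4) (by rintro w (rfl | rfl) <;> decide) (.inl rfl) (.inr rfl)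
    (fun y hy hn hnP c hc hcy => ?_) ?_
  · have hc4 : Commute c (S.C.τ 4) := hc 4 (.inr rfl)
    rcases coset_good y hy hn with h | h | (rfl | rfl) | h | h
    · exact absurd (Or.inl h) hnP
    · exact absurd (Or.inr h) hnP
    · exact S.cent_U hun hp hc4 hcy
    · refine S.cent_U hun hp hc4 ?_
      rw [show (8 : ℕ) = tmul 4 12 by decide, ← S.C.mul]; exact hc4.mul_right hcy
    · exact S.cent_lab_pos hun hp hy hn h hcy
    · refine S.cent_lab_pos hun hp (tmul_lt _ _) ?_ h (S.C.mul y 4 ▸ hcy.mul_right hc4)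
      rw [(parts_tmul y 4).2.2.2, hn]; rfl
  · rintro w (rfl | rfl)
    · rw [S.C.τ_zero]; exact Commute.one_right d
    · exact h4

theorem cent_inner (hp : commutator G = ⊤) {x : G} (hx : x ∈ normalizer (L : Set G)) (h2 : x * x = 1) (h1 : x ≠ 1)
    {g : G} (hg : Commute g x) : g ∈ normalizer (L : Set G) := by
  by_cases hl : S.C.Lab₀ x
  swap
  · exact S.cent_not_lab₀ hun hp hx h2 h1 hl hg
  obtain ⟨c, hc, y, hy, hy4, hy0, e⟩ := hl
  obtain ⟨c', hc', e'⟩ : ∃ c' ∈ L, c' * x * c'⁻¹ = S.C.τ 4 := by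
    have hfact : ∀ y < 16, 4 ≤ y → cA y = 0 → y = 4 ∨ tEta y = 4 ∨ tEta (tEta y) = 4 := by decide
    rcases hfact y hy hy4 hy0 with h | h | h
    · exact ⟨c, hc, by rw [e, h]⟩
    · exact ⟨S.C.η * c, mul_mem S.C.η_mem hc, by rw [← h, ← S.C.η_conj, ← e]; group⟩
    · exact ⟨S.C.η * S.C.η * c, mul_mem (mul_mem S.C.η_mem S.C.η_mem) hc,
        by rw [← h, ← S.C.η_conj_two, ← e]; group⟩
  have := S.cent_four hun hp (d := c' * g * c'⁻¹) (e' ▸ hg.conj c')
  have hcN := le_normalizer hc'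
  rw [show g = c'⁻¹ * (c' * g * c'⁻¹) * c' by group]
  exact mul_mem (mul_mem (inv_mem hcN) this) hcN

omit hun in
/-- Some involution centralising the subgroup is fused to one outside. -/
theorem exists_fused [IsSimpleGroup G] (hG : ¬ IsMulCommutative G) (hne : normalizer (L : Set G) ≠ ⊤) :
    ∃ g k : G, k ∈ centralizer (L : Set G) ∧ k * k = 1 ∧ k ≠ 1 ∧ g * k * g⁻¹ ∈ normalizer (L : Set G) ∧
      g * k * g⁻¹ ∉ centralizer (L : Set G) := by
  by_contra! hun
  have hp : commutator G = ⊤ := OvalPlane.commutator_eq_top_of_simple hG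
  have hσ : ∀ g, g * S.C.τ 4 * g⁻¹ ∈ normalizer (L : Set G) := by
    intro g
    have hs : g * S.C.τ 4 * g⁻¹ * (g * S.C.τ 4 * g⁻¹) = 1 := by
      rw [show g * S.C.τ 4 * g⁻¹ * (g * S.C.τ 4 * g⁻¹) = g * (S.C.τ 4 * S.C.τ 4) * g⁻¹ by group,
        S.τ_sq (by norm_num), mul_one, mul_inv_cancel]
    rcases dihedral_step ({1} : Set G) rfl hs (S.τ_sq (show 1 < 16 by norm_num))
        (by rintro w rfl; exact Commute.one_right _) (by rintro w rfl; exact Commute.one_right _) with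
      ⟨c, -, w, hw, e⟩ | ⟨v, -, hv1, hv2, hve, hsev⟩
    · exfalso
      rw [Set.mem_singleton_iff] at hw
      rw [hw, one_mul, show c * (g * S.C.τ 4 * g⁻¹) * c⁻¹ = c * g * S.C.τ 4 * (c * g)⁻¹ by group] at e
      have hK := hun (c * g)⁻¹ (S.C.τ 1) (S.τ_mem_K (by norm_num)) (S.τ_sq (by norm_num))
        (S.τ_ne (by norm_num) one_ne_zero)
      rw [← e, show (c * g)⁻¹ * (c * g * S.C.τ 4 * (c * g)⁻¹) * (c * g)⁻¹⁻¹ = S.C.τ 4 by group] at hK
      obtain ⟨a, ha, hae⟩ := S.inf_cases (S.C.mem 4) (hK (le_normalizer (S.C.mem 4)))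
      have := S.C.inj a (by omega) 4 (by norm_num) hae
      omega
    · rw [Set.mem_singleton_iff] at hv2 hv1
      rw [hv2, one_mul] at hve
      have hvN := S.cent_le (S.τ_mem_K (show 1 < 4 by norm_num)) (S.τ_sq (by norm_num))
        (S.τ_ne (by norm_num) one_ne_zero) (commute_of_conj_eq hve)
      refine S.cent_inner hun hp hvN hv2 hv1 ?_
      have h' := hsev.mul_left (commute_of_conj_eq hve).symm
      rwa [mul_assoc, S.τ_sq (show 1 < 16 by norm_num), mul_one] at h'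
  refine hne (top_le_iff.1 ?_)
  have hn : (Subgroup.normalClosure ({S.C.τ 4} : Set G)).Normal := Subgroup.normalClosure_normal
  rcases hn.eq_bot_or_eq_top with h | h
  · exfalso
    have := Subgroup.subset_normalClosure (s := ({S.C.τ 4} : Set G)) rfl
    rw [h] at this
    exact S.τ_ne (by norm_num) (by norm_num) this
  · rw [← h]
    refine (Subgroup.closure_le _).2 fun x hx => ?_
    obtain ⟨y, hy, hxy⟩ := Group.mem_conjugatesOfSet_iff.1 hx
    obtain ⟨g, rfl⟩ := isConj_iff.1 hxy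
    rw [Set.mem_singleton_iff] at hy
    subst hy
    exact hσ g

end Std

end CfsgLib.StdHe
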