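import Cfsg.Agent.Lib.StdHe.AModel

/-!
Facts about the codes for the outer involutions not centralising the centre.
-/

set_option autoImplicit false
set_option synthInstance.maxSize 4096

namespace CfsgLib.StdHe

/-- A small element of the Sylow subgroup. -/
def jl (j : ℕ) : ℕ := tmul (16 * (j % 4)) (64 * (j / 4))

/-- Conjugate an outer element by an element. -/
def outConj (σ s : Bool) (k m l y : ℕ) : ℕ := tmul (tmul l y) (aMap σ s k m (tinv l))

/-- The action of an outer element on a generator. -/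
def outAct (σ s : Bool) (k m y x : ℕ) : ℕ := tmul (tmul y (aMap σ s k m x)) (tinv y)

theorem outAct_lt (σ s : Bool) (k m y x : ℕ) : outAct σ s k m y x < 256 := tmul_lt _ _

theorem gamma_kk : ∀ k < 4, ∀ m < 4, 1 ≤ k → 1 ≤ m →
    aMap true false k m (aMap true false k m 1) = 1 → aMap true false k m (aMap true false k m 4) = 4 →
      (k = 1 ∧ m = 1) ∨ (k = 2 ∧ m = 3) ∨ (k = 3 ∧ m = 2) := by
  decide +kernel

theorem gamma_reduce : ∀ p ∈ [(1, 1), (2, 3), (3, 2)], ∀ y < 256,
    tmul y (aMap true false p.1 p.2 y) < 4 → ∃ j < 16, outConj true false p.1 p.2 (jl j) y < 4 := by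
  decide +kernel

theorem gamma_witness : ∀ p ∈ [(1, 1), (2, 3), (3, 2)],
    aMap true false p.1 p.2 12 = 12 ∧ aMap true false p.1 p.2 4 = 4 ∧
      ∃ j < 256, tmul j (aMap true false p.1 p.2 (tinv j)) = 4 := by
  decide +kernel

theorem gamma_comm : tmul (tEta 12) 12 = 4 ∧ tinv 12 = 12 := by decide

theorem phi_reduce : ∀ k < 4, ∀ m < 4, 1 ≤ k → 1 ≤ m → ∀ q < 16,
    outAct false true k m (jl q) (outAct false true k m (jl q) 16) = 16 →
    outAct false true k m (jl q) (outAct false true k m (jl q) 64) = 64 →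
      ∃ j < 16, outConj false true k m (jl j) (jl q) < 16 := by
  decide +kernel

theorem phi_witness : ∀ k < 4, ∀ m < 4, 1 ≤ k → 1 ≤ m →
    aMap false true k m (16 * fq k) = 16 * fq k ∧ aMap false true k m (64 * fq m) = 64 * fq m ∧
      4 ≤ cm (fq k) (fq m) ∧ cm (fq k) (fq m) < 16 ∧
      ∃ j < 256, tmul j (aMap false true k m (tinv j)) = cm (fq k) (fq m) := by
  decide +kernel

theorem jl_split : ∀ y < 256, ∃ r < 16, ∃ q < 16, y = tmul r (jl q) := by decide +kernel

theorem out_twice : ∀ σ s : Bool, σ ≠ s → ∀ k < 4, ∀ m < 4, 1 ≤ k → 1 ≤ m →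
    aMap σ s k m 16 < 256 ∧ aMap σ s k m 64 < 256 := by decide +kernel

end CfsgLib.StdHe
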