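import Cfsg.Agent.Lib.StdHe.NBasic
import Cfsg.Agent.Lib.StdHe.WModel
import Cfsg.Agent.Lib.AlperinBound.Fixed

/-!
An outer involution moving the centre is conjugate to its product with a commutator of elements it centralises.
-/

set_option autoImplicit false
set_option linter.unusedSectionVars false

namespace CfsgLib.StdHe

open Subgroup
open scoped Pointwise

universe u

variable {G : Type u} [Group G] {L : Subgroup G}

/-- The witness for an outer involution. -/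
def HasWit (L : Subgroup G) (u : G) : Prop :=
  ∃ p q x : G, Commute p u ∧ Commute q u ∧ x = p * q * p⁻¹ * q⁻¹ ∧ x ∈ L ∧ x * x = 1 ∧
    x ∉ centralizer (L : Set G) ∧ ∃ l ∈ L, l * u * l⁻¹ = x * u

theorem HasWit.conj {u c : G} (h : HasWit L u) (hc : c ∈ L) : HasWit L (c * u * c⁻¹) := by
  obtain ⟨p, q, x, hp, hq, hx, hxL, hx2, hxK, l, hl, he⟩ := h
  refine ⟨c * p * c⁻¹, c * q * c⁻¹, c * x * c⁻¹, hp.conj c, hq.conj c, by rw [hx]; group,
    mul_mem (mul_mem hc hxL) (inv_mem hc), by rw [show c * x * c⁻¹ * (c * x * c⁻¹) = c * (x * x) * c⁻¹ by group, hx2]; group,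
    fun h => hxK ?_, c * l * c⁻¹, mul_mem (mul_mem hc hl) (inv_mem hc), ?_⟩
  · rw [show x = c⁻¹ * (c * x * c⁻¹) * c⁻¹⁻¹ by group]
    exact conj_mem_K (le_normalizer (inv_mem hc)) h
  · calc c * l * c⁻¹ * (c * u * c⁻¹) * (c * l * c⁻¹)⁻¹ = c * (l * u * l⁻¹) * c⁻¹ := by group
      _ = _ := by rw [he]; group

namespace Std

variable [Finite G] (S : Std L)

include S

/-- An involution normalising the subgroup normalises a Sylow subgroup of it. -/
theorem exists_invol_norm_T {u : G} (hu : u ∈ normalizer (L : Set G)) (h2 : u * u = 1) :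
    ∃ c ∈ L, ∀ i < 256, ∃ j < 256, c * u * c⁻¹ * S.C.τ i * (c * u * c⁻¹)⁻¹ = S.C.τ j := by
  haveI : Fact (Nat.Prime 2) := ⟨Nat.prime_two⟩
  have huu : ∀ x : G, u * (u * x * u⁻¹) * u⁻¹ = x := fun x => by
    rw [show u * (u * x * u⁻¹) * u⁻¹ = u * u * x * (u * u)⁻¹ by group, h2, one_mul, inv_one, mul_one]
  let α : MulAut L :=
    { toFun := fun x => ⟨u * x * u⁻¹, conj_mem_L hu x.2⟩
      invFun := fun x => ⟨u * x * u⁻¹, conj_mem_L hu x.2⟩
      left_inv := fun x => Subtype.ext (huu x)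
      right_inv := fun x => Subtype.ext (huu x)
      map_mul' := fun x y => Subtype.ext (by simp [mul_assoc]) }
  obtain ⟨P, hP⟩ := AlperinBound.exists_invariant_sylow (p := 2) (α := α) (by
    rw [sq]; ext x; exact huu x)
  have hfac : (Nat.card L).factorization 2 = 8 := by
    rw [S.C.card, show 80640 = 2 ^ 8 * 315 by norm_num, Nat.factorization_mul (by norm_num) (by norm_num),
      Nat.Prime.factorization_pow Nat.prime_two, Finsupp.add_apply, Finsupp.single_eq_same,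
      Nat.factorization_eq_zero_of_not_dvd (by norm_num)]
  have c1 : Nat.card (S.C.T.subgroupOf L) = 2 ^ (Nat.card L).factorization 2 := by
    rw [Nat.card_congr (subgroupOfEquivOfLe S.C.T_le).toEquiv, S.C.card_T, hfac]; norm_num
  obtain ⟨l, hl⟩ := MulAction.exists_smul_eq L (Sylow.ofCard _ c1) P
  have h' := congrArg (fun Q : Sylow 2 L => (Q : Subgroup L)) hl
  simp only [Sylow.coe_subgroup_smul, Sylow.ofCard] at h'
  have h'' : MulAut.conj l • S.C.T.subgroupOf L = (P : Subgroup L) := h'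
  refine ⟨(l : G)⁻¹, inv_mem l.2, fun i hi => ?_⟩
  have hm : l * ⟨S.C.τ i, S.C.mem i⟩ * l⁻¹ ∈ (P : Subgroup L) := by
    rw [← h'']
    exact Subgroup.smul_mem_pointwise_smul _ (MulAut.conj l) _
      (show (⟨S.C.τ i, S.C.mem i⟩ : L) ∈ S.C.T.subgroupOf L from S.C.τ_mem_T hi)
  have hm' := hP _ hm
  rw [← h''] at hm'
  obtain ⟨t, ⟨j, hj, hjt⟩, e⟩ := hm'
  refine ⟨j, hj, ?_⟩
  have e' : (l : G) * t * (l : G)⁻¹ = u * ((l : G) * S.C.τ i * (l : G)⁻¹) * u⁻¹ := congrArg Subtype.val e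
  have hjt' : S.C.τ j = (t : G) := hjt
  rw [hjt', inv_inv, show (l : G)⁻¹ * u * l * S.C.τ i * ((l : G)⁻¹ * u * l)⁻¹ =
    (l : G)⁻¹ * (u * ((l : G) * S.C.τ i * (l : G)⁻¹) * u⁻¹) * l by group, ← e']
  group

theorem wit_of_normal {u : G} {σ s : Bool} {k m : ℕ}
    (ht : ∀ i < 256, u * S.C.τ i * u⁻¹ = S.C.τ (aMap σ s k m i)) {p : G} {pp q x : ℕ} (hx : x < 16) (hx4 : 4 ≤ x)
    (hq : q < 256) (hq' : aMap σ s k m q = q) (hp : Commute p u)
    (hpq : p * S.C.τ q * p⁻¹ = S.C.τ pp) (hxe : tmul pp (tinv q) = x)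
    {j : ℕ} (hj : j < 256) (hje : tmul j (aMap σ s k m (tinv j)) = x) : HasWit L u := by
  refine ⟨p, S.C.τ q, S.C.τ x, hp, ?_, ?_, S.C.mem x, S.τ_sq hx, fun h => ?_, S.C.τ j, S.C.mem j, ?_⟩
  · exact (commute_of_eq_conj (by rw [ht q hq, hq'])).symm
  · rw [hpq, S.C.τ_tinv hq, S.C.mul, hxe]
  · obtain ⟨a, ha, e⟩ := S.inf_cases (S.C.mem x) h
    have := S.C.inj a (by omega) x (by omega) e
    omega
  · rw [S.C.τ_tinv hj, ← hje, ← S.C.mul, ← ht _ (tmul_group j hj).2.2.1]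
    group
where
  commute_of_eq_conj {a b : G} (h : a * b * a⁻¹ = b) : Commute a b := mul_inv_eq_iff_eq_mul.1 h

/-- An outer involution moving the centre has a witness. -/
theorem exists_wit {u : G} (hu : u ∈ normalizer (L : Set G)) (h2 : u * u = 1) (hZ : ¬ S.CentZ u) : HasWit L u := by
  suffices H : ∀ u, u ∈ normalizer (L : Set G) → u * u = 1 → ¬ S.CentZ u →
      (∀ i < 256, ∃ j < 256, u * S.C.τ i * u⁻¹ = S.C.τ j) → HasWit L u by
    obtain ⟨c, hc, hn⟩ := S.exists_invol_norm_T hu h2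
    have hcN := le_normalizer hc
    have := H (c * u * c⁻¹) (mul_mem (mul_mem hcN hu) (inv_mem hcN))
      (by rw [show c * u * c⁻¹ * (c * u * c⁻¹) = c * (u * u) * c⁻¹ by group, h2]; group)
      (fun h => hZ fun a ha => by
        have e := (h a ha).conj c⁻¹
        rw [show c⁻¹ * S.C.τ a * c⁻¹⁻¹ = S.C.τ a by
          rw [(S.C.τ_centre_comm (inv_mem hc) ha).eq, mul_inv_cancel_right]] at e
        simpa [mul_assoc] using e) hn
    have := this.conj (c := c⁻¹) (inv_mem hc)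
    simpa [mul_assoc] using this
  clear hu h2 hZ u
  intro u hu h2 hZ hn
  obtain ⟨y₀, hy₀, σ, s, k, m, hA⟩ := S.C.exists_act_T hu hn
  have hne : σ ≠ s := fun e => hZ (S.centZ_of_bits ⟨_, S.C.mem y₀, hA⟩ e h2)
  obtain ⟨hk0, hk⟩ := hA.k₁_mem
  obtain ⟨hm0, hm⟩ := hA.k₂_mem
  obtain ⟨y, hy, hyd⟩ : ∃ y, y < 256 ∧ y = tinv y₀ := ⟨_, (tmul_group y₀ hy₀).2.2.1, rfl⟩
  obtain ⟨x, hx⟩ : ∃ x, x = S.C.τ y₀ * u := ⟨_, rfl⟩
  rw [← hx] at hA
  have hux : u = S.C.τ y * x := by rw [hyd, ← S.C.τ_tinv hy₀, hx, inv_mul_cancel_left]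
  have halt : ∀ z, aMap σ s k m z < 256 := aMap_lt σ s hk hm
  have hact : ∀ i < 256, u * S.C.τ i * u⁻¹ = S.C.τ (outAct σ s k m y i) := fun i hi => by
    rw [outAct, ← S.C.conj_τ_τ hy, ← hA.τ i hi, hux]; group
  have htwice : ∀ i < 256, outAct σ s k m y (outAct σ s k m y i) = i := fun i hi => by
    refine S.C.inj _ (outAct_lt σ s k m y (outAct σ s k m y i)) i hi ?_
    rw [← hact _ (outAct_lt σ s k m y i), ← hact i hi,
      show u * (u * S.C.τ i * u⁻¹) * u⁻¹ = u * u * S.C.τ i * (u * u)⁻¹ by group, h2]; group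
  have hoc : ∀ l < 256, S.C.τ l * u * (S.C.τ l)⁻¹ = S.C.τ (outConj σ s k m l y) * x := fun l hl => by
    rw [outConj, ← S.C.mul, ← S.C.mul, ← hA.τ _ (tmul_group l hl).2.2.1, hux, ← S.C.τ_tinv hl]
    group
  suffices hwit : ∃ l < 256, HasWit L (S.C.τ l * u * (S.C.τ l)⁻¹) by
    obtain ⟨l, -, hwit⟩ := hwit
    have := hwit.conj (c := (S.C.τ l)⁻¹) (inv_mem (S.C.mem l))
    simpa [mul_assoc] using this
  have hjl : ∀ j, jl j < 256 := fun j => tmul_lt _ _
  revert hne
  cases σ <;> cases s <;> intro hne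
  · exact absurd rfl hne
  · -- the field automorphism
    obtain ⟨r, hr, q, hq, e⟩ := jl_split y hy
    have hrτ : ∀ z < 256, S.C.τ r * S.C.τ z * (S.C.τ r)⁻¹ = S.C.τ z := fun z hz => by
      rw [(S.C.centre_comm' hr hz).eq, mul_inv_cancel_right]
    have hout : ∀ i < 256, outAct false true k m y i = outAct false true k m (jl q) i := fun i hi => by
      refine S.C.inj _ (outAct_lt _ _ _ _ _ _) _ (outAct_lt _ _ _ _ _ _) ?_
      unfold outAct
      rw [ ← S.C.conj_τ_τ hy, ← S.C.conj_τ_τ (hjl q), e, ← S.C.mul]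
      calc S.C.τ r * S.C.τ (jl q) * S.C.τ (aMap false true k m i) * (S.C.τ r * S.C.τ (jl q))⁻¹ =
          S.C.τ r * (S.C.τ (jl q) * S.C.τ (aMap false true k m i) * (S.C.τ (jl q))⁻¹) * (S.C.τ r)⁻¹ := by group
        _ = _ := by rw [S.C.conj_τ_τ (hjl q), hrτ _ (tmul_lt _ _)]
    have t16 := htwice 16 (by norm_num)
    rw [hout _ (outAct_lt _ _ _ _ _ _), hout _ (by norm_num)] at t16
    have t64 := htwice 64 (by norm_num)
    rw [hout _ (outAct_lt _ _ _ _ _ _), hout _ (by norm_num)] at t64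
    obtain ⟨j, -, hjz⟩ := phi_reduce k hk m hm hk0 hm0 q hq t16 t64
    refine ⟨jl j, hjl j, ?_⟩
    obtain ⟨z, hz, hze⟩ : ∃ z, z < 16 ∧ S.C.τ (jl j) * u * (S.C.τ (jl j))⁻¹ = S.C.τ z * x := by
      refine ⟨tmul r (outConj false true k m (jl j) (jl q)), ?_, ?_⟩
      · have hfact : ∀ a < 16, ∀ b < 16, tmul a b < 16 := by decide
        exact hfact r hr _ hjz
      · rw [hoc _ (hjl j)]
        congr 1
        rw [← S.C.mul, outConj, outConj, ← S.C.mul, ← S.C.mul, ← S.C.mul, ← S.C.mul, e, ← S.C.mul,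
          ← mul_assoc (S.C.τ (jl j)), ← (S.C.centre_comm' hr (hjl j)).eq]
        group
    rw [hze]
    have ht : ∀ i < 256, S.C.τ z * x * S.C.τ i * (S.C.τ z * x)⁻¹ = S.C.τ (aMap false true k m i) := fun i hi => by
      rw [show S.C.τ z * x * S.C.τ i * (S.C.τ z * x)⁻¹ = S.C.τ z * (x * S.C.τ i * x⁻¹) * (S.C.τ z)⁻¹ by group,
        hA.τ i hi, (S.C.centre_comm' hz (halt i)).eq, mul_inv_cancel_right]
    obtain ⟨w1, w2, w3, w4, j', hj', hje⟩ := phi_witness k hk m hm hk0 hm0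
    have hp16 : 16 * fq k < 256 := by have := fq_lt hk; omega
    have hq64 : 64 * fq m < 256 := by have := fq_lt hm; omega
    have hcm : ∀ a < 4, ∀ b < 4,
        tmul (tmul (tmul (16 * a) (64 * b)) (tinv (16 * a))) (tinv (64 * b)) = cm a b := by decide +kernel
    refine S.wit_of_normal ht (p := S.C.τ (16 * fq k)) w4 w3 hq64 w2 ?_ (S.C.conj_τ_τ hp16 _)
      (hcm _ (fq_lt hk) _ (fq_lt hm)) hj' hje
    exact (mul_inv_eq_iff_eq_mul.1 (by rw [ht _ hp16, w1]) : Commute (S.C.τ z * x) (S.C.τ (16 * fq k))).symm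
  · -- the graph automorphism
    have hη : x * S.C.η * x⁻¹ = S.C.η := by simpa using hA.η
    have h1 : u * u * S.C.τ 1 * (u * u)⁻¹ = S.C.τ 1 := by rw [h2]; group
    have hk1 : aMap true false k m (aMap true false k m 1) = 1 ∧ aMap true false k m (aMap true false k m 4) = 4 := by
      have hfact : ∀ i ∈ [1, 4], i < 16 := by decide
      have key : ∀ i, i < 16 → aMap true false k m (aMap true false k m i) = i := fun i hi => by
        have h := htwice i (by omega)
        have hlt : aMap true false k m i < 16 := (aMap_centre true false k hk m hm hk0 hm0 i hi).1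
        have o : ∀ i, aMap true false k m i < 16 → outAct true false k m y i = aMap true false k m i := fun i hi => by
          refine S.C.inj _ (outAct_lt _ _ _ _ _ _) _ (halt i) ?_
          unfold outAct
          rw [ ← S.C.conj_τ_τ hy, ← (S.C.centre_comm' hi hy).eq, mul_inv_cancel_right]
        rw [o i hlt, o _ ((aMap_centre true false k hk m hm hk0 hm0 _ hlt).1)] at h
        exact h
      exact ⟨key 1 (by norm_num), key 4 (by norm_num)⟩
    have hkm := gamma_kk k hk m hm hk0 hm0 hk1.1 hk1.2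
    have hmem : (k, m) ∈ [(1, 1), (2, 3), (3, 2)] := by
      rcases hkm with ⟨rfl, rfl⟩ | ⟨rfl, rfl⟩ | ⟨rfl, rfl⟩ <;> decide
    -- the square of the acting element is central
    have hw : tmul y (aMap true false k m y) < 4 := by
      have hxx : x * x = (S.C.τ (tmul y (aMap true false k m y)))⁻¹ := by
        rw [eq_inv_iff_mul_eq_one, ← S.C.mul, ← hA.τ y hy]
        calc x * x * (S.C.τ y * (x * S.C.τ y * x⁻¹)) = x * (x * S.C.τ y * x) * S.C.τ y * x⁻¹ := by group
          _ = 1 := by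
            have e : x * S.C.τ y * x * S.C.τ y = 1 := by
              calc x * S.C.τ y * x * S.C.τ y = (S.C.τ y)⁻¹ * (u * u) * S.C.τ y := by rw [hux]; group
                _ = 1 := by rw [h2]; group
            rw [show x * (x * S.C.τ y * x) * S.C.τ y * x⁻¹ = x * (x * S.C.τ y * x * S.C.τ y) * x⁻¹ by group, e]
            group
      have hc : Commute (x * x) S.C.η := mul_inv_eq_iff_eq_mul.1 (by
        rw [show x * x * S.C.η * (x * x)⁻¹ = x * (x * S.C.η * x⁻¹) * x⁻¹ by group, hη, hη])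
      rw [hxx] at hc
      have hc' : S.C.η * S.C.τ (tmul y (aMap true false k m y)) * S.C.η⁻¹ =
          S.C.τ (tmul y (aMap true false k m y)) := by
        have h := hc.inv_left; rw [inv_inv] at h
        rw [h.symm.eq, mul_inv_cancel_right]
      rw [S.C.η_conj] at hc'
      have hfix : ∀ y < 256, tEta y = y → y < 4 := by decide +kernel
      exact hfix _ (tmul_lt _ _) (S.C.inj _ (tEta_lt _) _ (tmul_lt _ _) hc')
    obtain ⟨j, -, hjz⟩ := gamma_reduce (k, m) hmem y hy hw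
    refine ⟨jl j, hjl j, ?_⟩
    rw [hoc _ (hjl j)]
    generalize outConj true false k m (jl j) y = c at hjz
    have hcL : ∀ g ∈ L, Commute g (S.C.τ c) := fun g hg => S.C.τ_centre_comm hg hjz
    have ht : ∀ i < 256, S.C.τ c * x * S.C.τ i * (S.C.τ c * x)⁻¹ = S.C.τ (aMap true false k m i) := fun i hi => by
      rw [show S.C.τ c * x * S.C.τ i * (S.C.τ c * x)⁻¹ = S.C.τ c * (x * S.C.τ i * x⁻¹) * (S.C.τ c)⁻¹ by group,
        hA.τ i hi, ← (hcL _ (S.C.mem _)).eq, mul_inv_cancel_right]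
    have htη : Commute (S.C.τ c * x) S.C.η := mul_inv_eq_iff_eq_mul.1 (by
      rw [show S.C.τ c * x * S.C.η * (S.C.τ c * x)⁻¹ = S.C.τ c * (x * S.C.η * x⁻¹) * (S.C.τ c)⁻¹ by group, hη,
        ← (hcL _ S.C.η_mem).eq, mul_inv_cancel_right])
    obtain ⟨g1, g2, j', hj', hje⟩ := gamma_witness (k, m) hmem
    refine S.wit_of_normal ht (p := S.C.η) (by norm_num : 4 < 16) le_rfl (show 12 < 256 by norm_num) g1 htη.symm
      (S.C.η_conj 12) (by rw [gamma_comm.2]; exact gamma_comm.1) hj' hje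
  · exact absurd rfl hne

end Std

end CfsgLib.StdHe
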