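import Cfsg.Agent.Lib.StdHe.FusedA
import Cfsg.Agent.Lib.StdHe.Witness
import Cfsg.Agent.Lib.StdHe.Unfused

/-!
The involutions centralising the standard subgroup lie in its centre.
-/

set_option autoImplicit false
set_option linter.unusedSectionVars false

namespace CfsgLib.StdHe

open Subgroup

universe u

variable {G : Type u} [Group G] {L : Subgroup G}

namespace Std

variable [Finite G] (S : Std L)

include S

theorem not_mem_N {g k : G} (hk : k ∈ centralizer (L : Set G))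
    (hnK : g * k * g⁻¹ ∉ centralizer (L : Set G)) : g ∉ normalizer (L : Set G) :=
  fun hg => hnK (conj_mem_K hg hk)

theorem sgn_comm {p q : normalizer (L : Set G)} : S.sgn (p * q * p⁻¹ * q⁻¹) = 1 := by
  rw [map_mul, map_mul, map_mul, map_inv, map_inv]
  exact commutatorElement_eq_one_iff_mul_comm.2 (mul_comm _ _)

/-- A conjugating element in normal form exists. -/
theorem exists_nrm_any [IsSimpleGroup G] (hG : ¬ IsMulCommutative G) (hne : normalizer (L : Set G) ≠ ⊤) :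
    ∃ g k₀ a, S.Nrm g k₀ a := by
  obtain ⟨g, k, hk, hk2, hk1, hgN, hgK⟩ := S.exists_fused hG hne
  suffices H : ∃ g : G, g ∉ normalizer (L : Set G) ∧ S.ZIn g by
    obtain ⟨g, hg, hz⟩ := H
    obtain ⟨c, -, k₀, a, h⟩ := S.exists_nrm hz hg
    exact ⟨c * g, k₀, a, h⟩
  have hg := S.not_mem_N hk hgK
  by_cases hc : S.CentZ (g * k * g⁻¹)
  · exact ⟨g, hg, S.zin_of_centZ hk hk2 hk1 hc⟩
  have hu2 : g * k * g⁻¹ * (g * k * g⁻¹) = 1 := by
    rw [show g * k * g⁻¹ * (g * k * g⁻¹) = g * (k * k) * g⁻¹ by group, hk2]; group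
  obtain ⟨p, q, x, hp, hq, hx, hxL, hx2, hxK, l, hl, he⟩ := S.exists_wit hgN hu2 hc
  have hback : ∀ {p : G}, Commute p (g * k * g⁻¹) → g⁻¹ * p * g ∈ normalizer (L : Set G) := fun {p} hp =>
    S.cent_le hk hk2 hk1 (by simpa [mul_assoc] using hp.conj g⁻¹)
  obtain ⟨y, hy⟩ : ∃ y, y = g⁻¹ * x * g := ⟨_, rfl⟩
  have hy' : y = (⟨_, hback hp⟩ * ⟨_, hback hq⟩ * (⟨_, hback hp⟩ : normalizer (L : Set G))⁻¹ *
      (⟨_, hback hq⟩ : normalizer (L : Set G))⁻¹ : normalizer (L : Set G)) := by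
    rw [hy, hx]; push_cast; group
  have hy2 : y * y = 1 := by rw [hy, show g⁻¹ * x * g * (g⁻¹ * x * g) = g⁻¹ * (x * x) * g by group, hx2]; group
  have hyN : y ∈ normalizer (L : Set G) := hy' ▸ SetLike.coe_mem _
  have hyI : Inner L y := S.inner_of_sgn hyN (by
    convert S.sgn_comm (p := ⟨_, hback hp⟩) (q := ⟨_, hback hq⟩) using 2
    exact Subtype.ext hy') (n := 1) (by rw [pow_one, sq, hy2])
  by_cases hyk : y * k ∈ centralizer (L : Set G)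
  · have hyK : y ∈ centralizer (L : Set G) := by simpa using mul_mem hyk (inv_mem hk)
    have hgx : g * y * g⁻¹ = x := by rw [hy]; group
    have hy1 : y ≠ 1 := fun e => hxK (by rw [← hgx, e, mul_one, mul_inv_cancel]; exact one_mem _)
    exact ⟨g, hg, S.zin_of_centZ hyK hy2 hy1 (hgx ▸ S.inner_centZ (Inner.of_mem hxL))⟩
  · have e : g⁻¹ * l * g * k * (g⁻¹ * l * g)⁻¹ = y * k := by
      calc g⁻¹ * l * g * k * (g⁻¹ * l * g)⁻¹ = g⁻¹ * (l * (g * k * g⁻¹) * l⁻¹) * g := by group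
        _ = _ := by rw [he, hy]; group
    exact ⟨g⁻¹ * l * g, S.not_mem_N hk (e ▸ hyk),
      S.zin_of_centZ hk hk2 hk1 (e ▸ S.inner_centZ (hyI.mul (Inner.of_cent hk)))⟩

variable {g k₀ : G} {a₀ : ℕ}

theorem nrm_zin (h : S.Nrm g k₀ a₀) : S.ZIn g := by
  obtain ⟨h1, h4, -, hk, -, e⟩ := h
  refine S.zin_of_centZ (S.τ_mem_K h4) (S.τ_sq (by omega)) (S.τ_ne (by omega) (by omega)) ?_
  rw [e]
  exact S.inner_centZ ((Inner.of_mem (S.C.mem 4)).mul (Inner.of_cent hk))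

theorem nrm_back (h : S.Nrm g k₀ a₀) {p : ℕ} (hp : p < 256) : g⁻¹ * S.C.τ p * g ∈ normalizer (L : Set G) := by
  obtain ⟨h1, h4, -, hk, -, e⟩ := h
  refine S.cent_le (S.τ_mem_K h4) (S.τ_sq (by omega)) (S.τ_ne (by omega) (by omega)) ?_
  have hc : Commute (S.C.τ p) (g * S.C.τ a₀ * g⁻¹) :=
    e ▸ (S.C.centre_comm' (by norm_num) hp).symm.mul_right (commute_cent (S.C.mem p) hk)
  simpa [mul_assoc] using hc.conj g⁻¹

theorem nrm_centR_Z (h : S.Nrm g k₀ a₀) {r : ℕ} (hr : r < 16) : S.CentZ (g⁻¹ * S.C.τ r * g) := by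
  have hb : ∀ p, ∀ hp : p < 256, S.sgn ⟨g⁻¹ * S.C.τ p * g, S.nrm_back h hp⟩ * S.sgn ⟨g⁻¹ * S.C.τ p * g, S.nrm_back h hp⟩ = 1 :=
    fun p hp => Prod.ext (bit₂_mul_self _) (bit₂_mul_self _)
  have hmul : ∀ p q, ∀ hp : p < 256, ∀ hq : q < 256,
      S.sgn ⟨g⁻¹ * S.C.τ (tmul p q) * g, S.nrm_back h (tmul_lt p q)⟩ =
        S.sgn ⟨g⁻¹ * S.C.τ p * g, S.nrm_back h hp⟩ * S.sgn ⟨g⁻¹ * S.C.τ q * g, S.nrm_back h hq⟩ := by
    intro p q hp hq
    rw [← map_mul]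
    refine congrArg S.sgn (Subtype.ext ?_)
    show g⁻¹ * S.C.τ (tmul p q) * g = g⁻¹ * S.C.τ p * g * (g⁻¹ * S.C.τ q * g)
    rw [← S.C.mul]; group
  have hcast : ∀ p q, ∀ hp : p < 256, ∀ hq : q < 256, p = q →
      S.sgn ⟨g⁻¹ * S.C.τ p * g, S.nrm_back h hp⟩ = S.sgn ⟨g⁻¹ * S.C.τ q * g, S.nrm_back h hq⟩ := by
    rintro p q hp hq rfl; rfl
  have hcm : ∀ l < 4, ∀ n < 4, ∀ hlt : cm l n < 256, S.sgn ⟨g⁻¹ * S.C.τ (cm l n) * g, S.nrm_back h hlt⟩ = 1 := by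
    intro l _ n _ hlt
    rw [hcast (cm l n) _ hlt (tmul_lt _ _) (show cm l n = tmul (tmul (64 * n) (16 * l)) (tmul (64 * n) (16 * l)) from rfl),
      hmul _ _ (tmul_lt _ _) (tmul_lt _ _)]
    exact hb _ (tmul_lt _ _)
  have hbit : ∀ (b : Bool), ∀ l < 4, ∀ n < 4, ∀ hlt : bitc b l n < 256,
      S.sgn ⟨g⁻¹ * S.C.τ (bitc b l n) * g, S.nrm_back h hlt⟩ = 1 := by
    intro b l hl n hn hlt
    cases b
    · have e0 : (⟨g⁻¹ * S.C.τ (bitc false l n) * g, S.nrm_back h hlt⟩ : normalizer (L : Set G)) = 1 := by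
        refine Subtype.ext ?_
        show g⁻¹ * S.C.τ (bitc false l n) * g = 1
        rw [show bitc false l n = 0 from rfl, S.C.τ_zero]; group
      rw [e0, map_one]
    · exact hcm l hl n hn hlt
  have hblt : ∀ (b : Bool) (l n : ℕ), bitc b l n < 256 := fun b l n => by
    cases b
    · exact (by norm_num : (0 : ℕ) < 256)
    · exact tmul_lt _ _
  obtain ⟨a, b, c, d, e⟩ := cm_span r hr
  refine S.inner_centZ (S.inner_of_sgn (S.nrm_back h (by omega)) ?_ (n := 1)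
    (by rw [pow_one, sq]; simpa using (show g⁻¹ * S.C.τ r * g * (g⁻¹ * S.C.τ r * g) = 1 by
      rw [show g⁻¹ * S.C.τ r * g * (g⁻¹ * S.C.τ r * g) = g⁻¹ * (S.C.τ r * S.C.τ r) * g by group, S.τ_sq hr]; group)))
  rw [hcast r _ (by omega) (tmul_lt _ _) e.symm, hmul _ _ (tmul_lt _ _) (tmul_lt _ _),
    hmul _ _ (hblt a _ _) (hblt b _ _), hmul _ _ (hblt c _ _) (hblt d _ _),
    hbit a 1 (by norm_num) 1 (by norm_num) (hblt _ _ _), hbit b 2 (by norm_num) 1 (by norm_num) (hblt _ _ _),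
    hbit c 1 (by norm_num) 2 (by norm_num) (hblt _ _ _), hbit d 2 (by norm_num) 2 (by norm_num) (hblt _ _ _)]
  simp

/-- The form of a member. -/
theorem nrm_member (h : S.Nrm g k₀ a₀) {a : ℕ} (ha : a < 4) (ha1 : 1 ≤ a) :
    ∃ y < 16, 4 ≤ y ∧ ∃ k ∈ centralizer (L : Set G), k * k = 1 ∧ S.C.τ y * k = g * S.C.τ a * g⁻¹ := by
  have hz := S.nrm_zin h
  have hgN := h.2.2.1
  have hcomm : ∀ p, ∀ hp : p < 256, S.CentZ (g⁻¹ * S.C.τ p * g) → Commute (g * S.C.τ a * g⁻¹) (S.C.τ p) :=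
    fun p hp hc => by
      have := ((hc a ha).conj g).symm
      simpa [mul_assoc] using this
  obtain ⟨y, hy, k, hk, e⟩ := S.act_centR (S.zin_swap hz a ha) (S.member_centZ hz hgN ha)
    (hcomm 4 (by norm_num) (S.nrm_centR_Z h (by norm_num)))
    (hcomm 8 (by norm_num) (S.nrm_centR_Z h (by norm_num)))
  have h2 := S.member_sq g ha
  rw [← e, (commute_cent (S.C.mem y) hk).symm.mul_mul_mul_comm] at h2
  have hyy : S.C.τ y * S.C.τ y = 1 := S.C.sq_center _ (S.C.mem y)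
    (eq_inv_of_mul_eq_one_left h2 ▸ inv_mem (mul_mem hk hk))
  rw [hyy, one_mul] at h2
  have hy16 : y < 16 := by
    by_contra! hge
    obtain ⟨p, hp, c1, c2, c3⟩ := trio y hy hge
    obtain ⟨hp1, hp2⟩ := trio_lt p hp
    let χ : normalizer (L : Set G) →* Multiplicative (ZMod 2) :=
      (MonoidHom.fst _ _).comp S.sgn * (MonoidHom.snd _ _).comp S.sgn
    have hkey : ∀ q, ∀ hq : q < 256, tcomm y q = false → χ ⟨g⁻¹ * S.C.τ q * g, S.nrm_back h hq⟩ ≠ 1 := by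
      intro q hq hcq hχ
      have hχ' : (S.sgn ⟨g⁻¹ * S.C.τ q * g, S.nrm_back h hq⟩).1 = (S.sgn ⟨g⁻¹ * S.C.τ q * g, S.nrm_back h hq⟩).2 := by
        have key : ∀ u v : Multiplicative (ZMod 2), u * v = 1 → u = v := by decide
        exact key _ _ hχ
      have hcZ : S.CentZ (g⁻¹ * S.C.τ q * g) := S.centZ_of_two (S.nrm_back h hq) hχ' (n := 2) (by
        rw [show g⁻¹ * S.C.τ q * g = g⁻¹ * S.C.τ q * g⁻¹⁻¹ by rw [inv_inv], conj_pow, S.τ_four_pow hq]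
        group)
      have hc := hcomm q hq hcZ
      rw [← e] at hc
      have hc' : Commute (S.C.τ y) (S.C.τ q) := by
        have := hc.mul_left ((commute_cent (S.C.mem q) hk).symm.inv_left)
        rwa [mul_inv_cancel_right] at this
      have heq : tmul y q = tmul q y := S.C.inj _ (tmul_lt _ _) _ (tmul_lt _ _) (by rw [← S.C.mul, ← S.C.mul]; exact hc'.eq)
      rw [tcomm, heq, Nat.beq_refl] at hcq
      exact Bool.noConfusion hcq
    have k1 := hkey _ hp1 c1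
    have k2 := hkey _ hp2 c2
    have k3 := hkey _ (tmul_lt _ _) c3
    have e3 : χ ⟨g⁻¹ * S.C.τ (tmul p.1 p.2) * g, S.nrm_back h (tmul_lt _ _)⟩ =
        χ ⟨g⁻¹ * S.C.τ p.1 * g, S.nrm_back h hp1⟩ * χ ⟨g⁻¹ * S.C.τ p.2 * g, S.nrm_back h hp2⟩ := by
      rw [← map_mul]
      refine congrArg χ (Subtype.ext ?_)
      show g⁻¹ * S.C.τ (tmul p.1 p.2) * g = g⁻¹ * S.C.τ p.1 * g * (g⁻¹ * S.C.τ p.2 * g)
      rw [← S.C.mul]; group
    have key : ∀ p q : Multiplicative (ZMod 2), p ≠ 1 → q ≠ 1 → p * q = 1 := by decide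
    exact k3 (e3.trans (key _ _ k1 k2))
  refine ⟨y, hy16, ?_, k, hk, h2, e⟩
  by_contra! hlt
  exact S.member_not_K hgN ha ha1 (e ▸ mul_mem (S.τ_mem_K hlt) hk)

/-- Members cover the moved part of the centre. -/
theorem nrm_member_b (h : S.Nrm g k₀ a₀) {b : ℕ} (hb : b < 4) (hb1 : 1 ≤ b) :
    ∃ a < 4, ∃ y < 16, cB y = b ∧ ∃ k ∈ centralizer (L : Set G), k * k = 1 ∧ S.C.τ y * k = g * S.C.τ a * g⁻¹ := by
  obtain ⟨hs1, hs2, hs3, hs4⟩ := small_facts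
  have ha₀ := h.1
  have ha₀' := h.2.1
  obtain ⟨a, ha, ha1, hne⟩ : ∃ a < 4, 1 ≤ a ∧ a ≠ a₀ := by
    by_cases e : a₀ = 1
    · exact ⟨2, by norm_num, by norm_num, by omega⟩
    · exact ⟨1, by norm_num, le_rfl, fun h => e h.symm⟩
  obtain ⟨y, hy, hy4, k, hk, hk2, e⟩ := S.nrm_member h ha ha1
  have hk₀ := h.2.2.2.1
  have hprod : g * S.C.τ (tmul a₀ a) * g⁻¹ = S.C.τ (tmul 4 y) * (k₀ * k) := by
    rw [← S.member_mul, h.2.2.2.2.2, ← e, (commute_cent (S.C.mem y) hk₀).symm.mul_mul_mul_comm, S.C.mul]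
  obtain ⟨haa, haa'⟩ := hs1 a₀ ha₀' a ha
  obtain ⟨hyy, hcB, -⟩ := hs3 4 (by norm_num) y hy
  have hby : cB y ≠ 1 := fun hb1' => by
    have hl : tmul 4 y < 4 := (hs3 4 (by norm_num) y hy).2.2 (by rw [hb1']; rfl)
    exact hne (haa' (S.member_zero h.2.2.1 haa (hprod ▸ mul_mem (S.τ_mem_K hl) (mul_mem hk₀ hk)))).symm
  have hby2 : 2 ≤ cB y := by
    have := (hs4 y hy).2.1 hy4
    omega
  rcases three_split b hb (cB y) (cB_lt y) hb1 hby2 with rfl | rfl | rfl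
  · exact ⟨a₀, ha₀', 4, by norm_num, rfl, k₀, hk₀, h.2.2.2.2.1, h.2.2.2.2.2.symm⟩
  · exact ⟨a, ha, y, hy, rfl, k, hk, hk2, e⟩
  · refine ⟨tmul a₀ a, haa, tmul 4 y, hyy, by rw [hcB]; rfl, k₀ * k, mul_mem hk₀ hk, ?_, hprod.symm⟩
    have h2 := S.member_sq g haa
    rw [hprod, (commute_cent (S.C.mem (tmul 4 y)) (mul_mem hk₀ hk)).symm.mul_mul_mul_comm, S.τ_sq hyy, one_mul] at h2
    exact h2

theorem commute_of_member (h : S.Nrm g k₀ a₀) {x : G} (hx : x ∈ normalizer (L : Set G)) (hZ : S.CentZ x)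
    (hm : ∀ a < 4, Commute x (g * S.C.τ a * g⁻¹)) : Commute x (S.C.τ 4) ∧ Commute x (S.C.τ 8) := by
  obtain ⟨hs1, hs2, hs3, hs4⟩ := small_facts
  have key : ∀ b < 4, 1 ≤ b → Commute x (S.C.τ (4 * b)) := by
    intro b hb hb1
    obtain ⟨a, ha, y, hy, hyb, k, hk, -, e⟩ := S.nrm_member_b h hb hb1
    have hc : x * (S.C.τ y * k) * x⁻¹ = S.C.τ y * k := by rw [e, (hm a ha).eq, mul_inv_cancel_right]
    have e1 : (S.C.τ y)⁻¹ * (x * S.C.τ y * x⁻¹) = k * (x * k * x⁻¹)⁻¹ := by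
      rw [eq_mul_inv_iff_mul_eq, mul_assoc, show x * S.C.τ y * x⁻¹ * (x * k * x⁻¹) = x * (S.C.τ y * k) * x⁻¹ by group,
        hc, inv_mul_cancel_left]
    obtain ⟨d, hd, hd'⟩ := S.inf_cases (mul_mem (inv_mem (S.C.mem y)) (conj_mem_L hx (S.C.mem y)))
      (e1 ▸ mul_mem hk (inv_mem (conj_mem_K hx hk)))
    have hxy : x * S.C.τ y * x⁻¹ = S.C.τ (tmul y d) := by rw [← S.C.mul, hd', mul_inv_cancel_left]
    have hA : S.C.τ y = S.C.τ (4 * b) * S.C.τ (cA y) := by rw [S.C.mul, ← hyb, (hs4 y hy).1]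
    have e2 : x * S.C.τ (4 * b) * x⁻¹ = S.C.τ (tmul (4 * b) d) := by
      have h3 := hxy
      rw [← S.C.mul, hA, show x * (S.C.τ (4 * b) * S.C.τ (cA y)) * x⁻¹ =
        x * S.C.τ (4 * b) * x⁻¹ * (x * S.C.τ (cA y) * x⁻¹) by group, (hZ _ (cA_lt y)).eq, mul_inv_cancel_right,
        mul_assoc (S.C.τ (4 * b)), (S.C.τ_centre_comm (S.C.mem d) (cA_lt y)).symm.eq, ← mul_assoc] at h3
      rw [← S.C.mul]
      exact mul_right_cancel h3
    have h4b : 4 * b < 16 ∧ 4 ≤ 4 * b ∧ cA (4 * b) = 0 := by unfold cA; omega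
    have hlab : S.C.Lab₀ (x * S.C.τ (4 * b) * x⁻¹) :=
      S.C.lab₀_conj hx ⟨1, one_mem L, 4 * b, h4b.1, h4b.2.1, h4b.2.2, by simp⟩
    obtain ⟨d1, -, d3⟩ := hs2 (4 * b) h4b.1 d hd
    have hd0 : d = 0 := by
      by_contra hne
      refine S.C.not_lab₀ (one_mem L) d1 (by rw [one_mul, inv_one, mul_one]) ?_ (e2 ▸ hlab)
      rw [d3, h4b.2.2, Nat.zero_xor]; exact hne
    rw [hd0, ← S.C.mul, S.C.τ_zero, mul_one] at e2
    exact mul_inv_eq_iff_eq_mul.1 e2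
  exact ⟨key 1 (by norm_num) le_rfl, key 2 (by norm_num) (by norm_num)⟩

/-- The involutions of the conjugate of the centraliser in the normaliser are the members. -/
theorem meet (h : S.Nrm g k₀ a₀) {w : G} (hw : w ∈ normalizer (L : Set G)) (h2 : w * w = 1) (h1 : w ≠ 1)
    (hwK : g⁻¹ * w * g ∈ centralizer (L : Set G)) : ∃ a < 4, w = g * S.C.τ a * g⁻¹ := by
  obtain ⟨hs1, hs2, hs3, hs4⟩ := small_facts
  have hz := S.nrm_zin h
  have hgN := h.2.2.1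
  have hv2 : g⁻¹ * w * g * (g⁻¹ * w * g) = 1 := by
    rw [show g⁻¹ * w * g * (g⁻¹ * w * g) = g⁻¹ * (w * w) * g by group, h2]; group
  have hv1 : g⁻¹ * w * g ≠ 1 := fun e => h1 (by
    rw [show w = g * (g⁻¹ * w * g) * g⁻¹ by group, e, mul_one, mul_inv_cancel])
  have hm : ∀ a < 4, Commute w (g * S.C.τ a * g⁻¹) := fun a ha => by
    have := ((commute_cent (S.C.mem a) hwK).symm).conj g
    simpa [mul_assoc] using this
  have hcZ : S.CentZ w := by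
    intro b hb
    obtain ⟨d, hd, ed⟩ := S.inf_cases (conj_mem_L hw (S.C.mem b)) (conj_mem_K hw (S.τ_mem_K hb))
    have hwi : w⁻¹ = w := inv_eq_of_mul_eq_one_right h2
    have hbi : (S.C.τ b)⁻¹ = S.C.τ b := inv_eq_of_mul_eq_one_right (S.τ_sq (by omega))
    obtain ⟨hbd, hbd'⟩ := hs1 b hb d hd
    have hmem : g⁻¹ * S.C.τ (tmul b d) * g ∈ centralizer (L : Set G) := by
      rw [← S.C.mul, ed, hwi, show g⁻¹ * (S.C.τ b * (w * S.C.τ b * w)) * g =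
        g⁻¹ * S.C.τ b * g * (g⁻¹ * w * g) * (g⁻¹ * (S.C.τ b)⁻¹ * g) * (g⁻¹ * w * g) by rw [hbi]; group,
        show g⁻¹ * (S.C.τ b)⁻¹ * g = (g⁻¹ * S.C.τ b * g)⁻¹ by group]
      exact mul_mem (conj_mem_K (hz b hb) hwK) hwK
    have h0 := S.member_zero (g := g⁻¹) (fun hh => hgN (by simpa using inv_mem hh)) hbd (by rwa [inv_inv])
    rw [← hbd' h0] at ed
    exact mul_inv_eq_iff_eq_mul.1 ed.symm
  obtain ⟨h4c, h8c⟩ := S.commute_of_member h hw hcZ hm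
  obtain ⟨y, hy, k, hk, e⟩ := S.act_centR hw hcZ h4c h8c
  have h2' := h2
  rw [← e, (commute_cent (S.C.mem y) hk).symm.mul_mul_mul_comm] at h2'
  have hyy : S.C.τ y * S.C.τ y = 1 := S.C.sq_center _ (S.C.mem y)
    (eq_inv_of_mul_eq_one_left h2' ▸ inv_mem (mul_mem hk hk))
  -- elements of the subgroup centralising `w`
  have hloc : ∀ x ∈ L, Commute x w → ∃ z < 256, ∃ i < 3, x = S.C.τ z * S.C.η ^ i := by
    intro x hx hxw
    have hx' : g⁻¹ * x * g ∈ normalizer (L : Set G) := S.cent_le hwK hv2 hv1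
      (by simpa [mul_assoc] using hxw.conj g⁻¹)
    have ha₀' := h.2.1
    obtain ⟨c, hc, ec⟩ := S.inf_cases (conj_mem_L hx' (S.C.mem a₀)) (conj_mem_K hx' (S.τ_mem_K ha₀'))
    have hk₀ := h.2.2.2.1
    have hxk : x * S.C.τ 4 * x⁻¹ * k₀ = g * S.C.τ c * g⁻¹ := by
      rw [ec, show g * (g⁻¹ * x * g * S.C.τ a₀ * (g⁻¹ * x * g)⁻¹) * g⁻¹ = x * (g * S.C.τ a₀ * g⁻¹) * x⁻¹ by group,
        h.2.2.2.2.2, show x * (S.C.τ 4 * k₀) * x⁻¹ = x * S.C.τ 4 * x⁻¹ * (x * k₀ * x⁻¹) by group,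
        (commute_cent hx hk₀).eq, mul_inv_cancel_right]
    have hc1 : 1 ≤ c := by
      by_contra! hc0
      obtain rfl : c = 0 := by omega
      rw [S.C.τ_zero] at ec
      exact S.τ_ne (show a₀ < 256 by omega) (by have := h.1; omega) (conj_eq_one_iff.1 ec.symm)
    obtain ⟨yc, hyc, hyc4, kc, hkc, -, e'⟩ := S.nrm_member h hc hc1
    rw [← e'] at hxk
    have e1 : (S.C.τ yc)⁻¹ * (x * S.C.τ 4 * x⁻¹) = kc * k₀⁻¹ := by
      rw [eq_mul_inv_iff_mul_eq, mul_assoc, hxk, inv_mul_cancel_left]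
    obtain ⟨d, hd, ed⟩ := S.inf_cases (mul_mem (inv_mem (S.C.mem yc)) (mul_mem (mul_mem hx (S.C.mem 4)) (inv_mem hx)))
      (e1 ▸ mul_mem hkc (inv_mem hk₀))
    obtain ⟨d1, d2, -⟩ := hs2 yc hyc d hd
    refine S.C.conj_center hx (show 4 < 16 by norm_num) d1 ?_
      (show x * S.C.τ 4 * x⁻¹ = S.C.τ (tmul yc d) by rw [← S.C.mul, ed, mul_inv_cancel_left])
    rw [(hs4 _ d1).2, d2, ← (hs4 _ hyc).2]; exact hyc4
  have hy16 : y < 16 := by
    obtain ⟨c, hc, y0, hy0, e0⟩ := S.C.inv_conj _ (S.C.mem y) hyy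
    suffices hall : ∀ p < 256, Commute (S.C.τ y) (S.C.τ p) by
      refine centre_fact y hy ?_ ?_ <;>
        refine S.C.inj _ (tmul_lt _ _) _ (tmul_lt _ _) ?_ <;> rw [← S.C.mul, ← S.C.mul]
      exacts [(hall 16 (by norm_num)).eq, (hall 64 (by norm_num)).eq]
    -- a conjugate of the Sylow subgroup centralises the element and lies in the Sylow subgroup
    have hin : ∀ p < 256, c⁻¹ * S.C.τ p * c ∈ S.C.T := by
      intro p hp
      have hx : c⁻¹ * S.C.τ p * c ∈ L := mul_mem (mul_mem (inv_mem hc) (S.C.mem p)) hc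
      have hcy : Commute (c⁻¹ * S.C.τ p * c) (S.C.τ y) := by
        have := ((S.C.centre_comm' hy0 hp).symm).conj c⁻¹
        rw [← e0] at this
        simpa [mul_assoc] using this
      have hxw : Commute (c⁻¹ * S.C.τ p * c) w := e ▸ hcy.mul_right (commute_cent hx hk)
      obtain ⟨z, hz, i, hi, ex⟩ := hloc _ hx hxw
      have hx4 : (c⁻¹ * S.C.τ p * c) ^ 2 ^ 2 = 1 := by
        rw [show c⁻¹ * S.C.τ p * c = c⁻¹ * S.C.τ p * c⁻¹⁻¹ by rw [inv_inv], conj_pow, S.τ_four_pow hp]; group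
      obtain ⟨m, hm⟩ := exists_pow_eq_self_of_coprime (x := c⁻¹ * S.C.τ p * c) (n := 3)
        (Nat.Coprime.coprime_dvd_right (orderOf_dvd_of_pow_eq_one hx4) (Nat.Coprime.pow_right 2 (by norm_num)))
      rw [← hm]
      refine pow_mem ?_ m
      have h3 : (S.C.η ^ i) * ((S.C.η ^ i) * (S.C.η ^ i)) = 1 := by
        rw [← pow_add, ← pow_add, show i + (i + i) = 3 * i by ring, pow_mul, pow_three, S.C.η_three, one_pow]
      have hconj : ∀ t ∈ S.C.T, S.C.η ^ i * t * (S.C.η ^ i)⁻¹ ∈ S.C.T := by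
        rintro _ ⟨t, ht, rfl⟩
        interval_cases i
        · simpa using S.C.τ_mem_T ht
        · rw [pow_one, S.C.η_conj]; exact S.C.τ_mem_T (tEta_lt t)
        · rw [sq, S.C.η_conj_two]; exact S.C.τ_mem_T (tEta_lt _)
      rw [ex, show (S.C.τ z * S.C.η ^ i) ^ 3 = S.C.τ z * (S.C.η ^ i * S.C.τ z * (S.C.η ^ i)⁻¹) *
        (S.C.η ^ i * (S.C.η ^ i * S.C.τ z * (S.C.η ^ i)⁻¹) * (S.C.η ^ i)⁻¹) *
          (S.C.η ^ i * (S.C.η ^ i * S.C.η ^ i)) by simp [pow_succ, mul_assoc], h3, mul_one]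
      exact mul_mem (mul_mem (S.C.τ_mem_T hz) (hconj _ (S.C.τ_mem_T hz))) (hconj _ (hconj _ (S.C.τ_mem_T hz)))
    intro p hp
    let f : S.C.T → S.C.T := fun t => ⟨c⁻¹ * (t : G) * c, by
      obtain ⟨p, hp, ht⟩ := t.2; rw [← ht]; exact hin p hp⟩
    obtain ⟨t, ht⟩ := (Finite.injective_iff_surjective.1 fun t t' e => Subtype.ext
      (mul_left_cancel (mul_right_cancel (congrArg Subtype.val e))) : Function.Surjective f) ⟨_, S.C.τ_mem_T hp⟩
    have ht' : c⁻¹ * (t : G) * c = S.C.τ p := congrArg Subtype.val ht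
    obtain ⟨q, hq, hqt⟩ := t.2
    rw [← ht', ← hqt, show S.C.τ y = c⁻¹ * S.C.τ y0 * c by rw [← e0]; group]
    simpa [mul_assoc] using (S.C.centre_comm' hy0 hq).conj c⁻¹
  have hk2 : k * k = 1 := by rwa [hyy, one_mul] at h2'
  have hyK : ¬ y < 4 := fun hlt => hgN (by
    have hwK' : w ∈ centralizer (L : Set G) := e ▸ mul_mem (S.τ_mem_K hlt) hk
    have := inv_mem (S.back g⁻¹ w hwK' (by rwa [inv_inv]) h2 h1)
    rwa [inv_inv] at this)
  obtain ⟨a, ha, ya, hya, hyb, ka, hka, -, ea⟩ := S.nrm_member_b h (cB_lt y)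
    (by have := (hs4 y hy16).2.1 (by omega); omega)
  refine ⟨a, ha, ?_⟩
  have hprodK : w * (g * S.C.τ a * g⁻¹) ∈ centralizer (L : Set G) := by
    rw [← e, ← ea, (commute_cent (S.C.mem ya) hk).symm.mul_mul_mul_comm, S.C.mul]
    exact mul_mem (S.τ_mem_K ((hs3 y hy16 ya hya).2.2 hyb.symm)) (mul_mem hk hka)
  have hprod2 : w * (g * S.C.τ a * g⁻¹) * (w * (g * S.C.τ a * g⁻¹)) = 1 := by
    rw [(hm a ha).symm.mul_mul_mul_comm, h2, S.member_sq g ha, one_mul]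
  by_contra hne
  refine hgN ?_
  have := inv_mem (S.back g⁻¹ _ hprodK (by
    rw [inv_inv, show g⁻¹ * (w * (g * S.C.τ a * g⁻¹)) * g = g⁻¹ * w * g * S.C.τ a by group]
    exact mul_mem hwK (S.τ_mem_K ha)) hprod2 (fun h => hne (by
      rw [eq_inv_of_mul_eq_one_left h]
      exact inv_eq_of_mul_eq_one_right (S.member_sq g ha))))
  rwa [inv_inv] at this

/-- The involutions centralising the subgroup lie in it. -/
theorem inv_K_mem (h : S.Nrm g k₀ a₀) {k : G} (hk : k ∈ centralizer (L : Set G)) (h2 : k * k = 1) :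
    ∃ a < 4, k = S.C.τ a := by
  by_cases h1 : k = 1
  · exact ⟨0, by norm_num, by rw [h1, S.C.τ_zero]⟩
  have hgN := h.2.2.1
  obtain ⟨c, hc, k₁, a₁, h'⟩ := S.exists_nrm (S.zin_inv (S.nrm_zin h)) (fun hh => hgN (by simpa using inv_mem hh))
  have back : ∀ v, v ∈ centralizer (L : Set G) → v * v = 1 → v ≠ 1 → g⁻¹ * v * g ∈ normalizer (L : Set G) →
      ∃ a < 4, v = S.C.τ a := by
    intro v hv hv2 hv1 hvN
    obtain ⟨a, ha, e⟩ := S.meet h' (w := c * (g⁻¹ * v * g) * c⁻¹)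
      (mul_mem (mul_mem (le_normalizer hc) hvN) (inv_mem (le_normalizer hc)))
      (by rw [show c * (g⁻¹ * v * g) * c⁻¹ * (c * (g⁻¹ * v * g) * c⁻¹) = c * (g⁻¹ * (v * v) * g) * c⁻¹ by group, hv2]
          group)
      (fun e => hv1 (by
        calc v = g * (c⁻¹ * (c * (g⁻¹ * v * g) * c⁻¹) * c) * g⁻¹ := by group
          _ = 1 := by rw [e]; group))
      (by rw [show (c * g⁻¹)⁻¹ * (c * (g⁻¹ * v * g) * c⁻¹) * (c * g⁻¹) = v by group]; exact hv)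
    refine ⟨a, ha, ?_⟩
    calc v = (c * g⁻¹)⁻¹ * (c * (g⁻¹ * v * g) * c⁻¹) * (c * g⁻¹) := by group
      _ = _ := by rw [e]; group
  have hk₀' := h.2.2.2.1
  obtain ⟨b, hb, hk₀⟩ : ∃ b < 4, k₀ = S.C.τ b := by
    by_cases h0 : k₀ = 1
    · exact ⟨0, by norm_num, by rw [h0, S.C.τ_zero]⟩
    refine back k₀ hk₀' h.2.2.2.2.1 h0 ?_
    have e : g⁻¹ * k₀ * g = (g⁻¹ * S.C.τ 4 * g)⁻¹ * S.C.τ a₀ := by
      have := h.2.2.2.2.2
      calc g⁻¹ * k₀ * g = (g⁻¹ * S.C.τ 4 * g)⁻¹ * (g⁻¹ * (S.C.τ 4 * k₀) * g) := by group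
        _ = _ := by rw [← this]; group
    rw [e]
    exact mul_mem (inv_mem (S.nrm_back h (by norm_num))) (le_normalizer (S.C.mem _))
  refine back k hk h2 h1 ?_
  have ha₀' := h.2.1
  refine S.cent_le (S.τ_mem_K ha₀') (S.τ_sq (by omega)) (S.τ_ne (by omega) (by have := h.1; omega)) ?_
  have e := h.2.2.2.2.2
  rw [hk₀, S.C.mul] at e
  have hc' : Commute k (g * S.C.τ a₀ * g⁻¹) := e ▸ (commute_cent (S.C.mem _) hk).symm
  simpa [mul_assoc] using hc'.conj g⁻¹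

end Std

end CfsgLib.StdHe
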