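import Cfsg.Agent.Lib.StdHe.FusedB
import Cfsg.Agent.Lib.StdHe.CMod

/-!
Conjugates of the centre lying in the standard subgroup, and an element exchanging them with the centre.
-/

set_option autoImplicit false
set_option linter.unusedSectionVars false

namespace CfsgLib.StdHe

open Subgroup

universe u

variable {G : Type u} [Group G] {L : Subgroup G}

namespace Std

variable [Finite G] (S : Std L)

/-- Conjugation by the element is given on the Sylow subgroup by a map of codes. -/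
def NormT (h : G) : Prop := ∀ i < 256, ∃ j < 256, h * S.C.τ i * h⁻¹ = S.C.τ j

include S

theorem normT_inv {h : G} (hh : S.NormT h) : S.NormT h⁻¹ := by
  choose! φ hφ hh' using hh
  let f : Fin 256 → Fin 256 := fun i => ⟨φ i, hφ i i.2⟩
  have hf : Function.Surjective f := Finite.injective_iff_surjective.1 fun i j e => Fin.ext <| by
    have e' : h * S.C.τ i * h⁻¹ = h * S.C.τ j * h⁻¹ := by rw [hh' i i.2, hh' j j.2, show φ i = φ j from congrArg Fin.val e]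
    exact S.C.inj i i.2 j j.2 (mul_left_cancel (mul_right_cancel e'))
  intro j hj
  obtain ⟨i, e⟩ := hf ⟨j, hj⟩
  refine ⟨i, i.2, ?_⟩
  have e' : φ i = j := congrArg Fin.val e
  rw [← e', ← hh' i i.2]
  group

theorem normT_R {h : G} (hh : S.NormT h) {r : ℕ} (hr : r < 16) : ∃ z < 16, h * S.C.τ r * h⁻¹ = S.C.τ z := by
  obtain ⟨z, hz, e⟩ := hh r (by omega)
  refine ⟨z, ?_, e⟩
  have hc : ∀ j < 256, Commute (S.C.τ z) (S.C.τ j) := fun j hj => by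
    obtain ⟨i, hi, e'⟩ := S.normT_inv hh j hj
    have hj' : S.C.τ j = h * S.C.τ i * h⁻¹ := by rw [← e']; group
    rw [← e, hj']
    exact (Commute.conj_iff h).2 (S.C.centre_comm' hr hi)
  refine centre_fact z hz ?_ ?_ <;>
    refine S.C.inj _ (tmul_lt _ _) _ (tmul_lt _ _) ?_ <;> rw [← S.C.mul, ← S.C.mul]
  exacts [(hc 16 (by norm_num)).eq, (hc 64 (by norm_num)).eq]

/-- Central elements with exactly one part are preserved. -/
theorem normT_mixed {h : G} (hh : S.NormT h) {r : ℕ} (hr : r < 16) {z : ℕ} (hz : z < 16)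
    (e : h * S.C.τ r * h⁻¹ = S.C.τ z) (hpure : ¬ (cA r = 0 ↔ cB r = 0)) : cA z = 0 ∨ cB z = 0 := by
  by_contra! hne
  obtain ⟨l, hl, n, hn, hln⟩ := mixed_cm z hz (by omega) (by omega)
  obtain ⟨p, hp, ep⟩ := S.normT_inv hh (64 * n) (by omega)
  obtain ⟨q, hq, eq⟩ := S.normT_inv hh (16 * l) (by omega)
  have er : h⁻¹ * S.C.τ z * h⁻¹⁻¹ = S.C.τ r := by rw [← e]; group
  have sq : ∀ {p j : ℕ}, p < 256 → h⁻¹ * S.C.τ j * h⁻¹⁻¹ = S.C.τ p → tmul j j = 0 → tmul p p = 0 := by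
    intro p j hp ep hj
    refine S.C.sq_eq_one hp ?_
    rw [← ep, show h⁻¹ * S.C.τ j * h⁻¹⁻¹ * (h⁻¹ * S.C.τ j * h⁻¹⁻¹) = h⁻¹ * (S.C.τ j * S.C.τ j) * h by group,
      S.C.mul, hj, S.C.τ_zero, mul_one, inv_mul_cancel]
  refine hpure (pure_comm hp hq (sq hp ep (root_sq n hn).2.1) (sq hq eq (root_sq l hl).1) hr ?_)
  refine S.C.inj _ (tmul_lt _ _) _ (tmul_lt _ _) ?_
  rw [← S.C.mul, ← S.C.mul r, ← S.C.mul q, ← ep, ← eq, ← er]
  have : S.C.τ (64 * n) * S.C.τ (16 * l) = S.C.τ z * (S.C.τ (16 * l) * S.C.τ (64 * n)) := by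
    rw [S.C.mul, S.C.mul, S.C.mul, hln]
  calc h⁻¹ * S.C.τ (64 * n) * h⁻¹⁻¹ * (h⁻¹ * S.C.τ (16 * l) * h⁻¹⁻¹)
      = h⁻¹ * (S.C.τ (64 * n) * S.C.τ (16 * l)) * h := by group
    _ = _ := by rw [this]; group

variable {g k₀ : G} {a₀ : ℕ}

theorem inner_invol_mem (hg : S.Nrm g k₀ a₀) {x : G} (hx : Inner L x) (h2 : x * x = 1) : x ∈ L := by
  obtain ⟨l, hl, k, hk, -, hk2, rfl⟩ := S.invol_form hx h2
  obtain ⟨a, -, rfl⟩ := S.inv_K_mem hg hk hk2
  exact mul_mem hl (S.C.mem a)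

theorem member_R (hg : S.Nrm g k₀ a₀) {a : ℕ} (ha : a < 4) (ha1 : 1 ≤ a) :
    ∃ y < 16, 4 ≤ y ∧ g * S.C.τ a * g⁻¹ = S.C.τ y := by
  obtain ⟨y, hy, hy4, k, hk, hk2, e⟩ := S.nrm_member hg ha ha1
  obtain ⟨d, hd, rfl⟩ := S.inv_K_mem hg hk hk2
  obtain ⟨-, h2, -, h4⟩ := small_facts
  obtain ⟨d1, d2, -⟩ := h2 y hy d hd
  exact ⟨tmul y d, d1, by rw [(h4 _ d1).2, d2, ← (h4 y hy).2]; exact hy4, by rw [← S.C.mul, e]⟩

/-- With normal forms on both sides the element normalises the Sylow subgroup. -/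
theorem normT_of_nrm (hg : S.Nrm g k₀ a₀) {k₁ : G} {a₁ : ℕ} (hg' : S.Nrm g⁻¹ k₁ a₁) : S.NormT g⁻¹ := by
  have hinv : ∀ p < 256, S.C.τ p * S.C.τ p = 1 → g⁻¹ * S.C.τ p * g ∈ S.C.T := by
    intro p hp hp2
    have hN := S.nrm_back hg hp
    have hcm : ∀ a < 4, Commute (g⁻¹ * S.C.τ p * g) (S.C.τ a) := fun a ha => by
      by_cases ha0 : a = 0
      · rw [ha0, S.C.τ_zero]; exact Commute.one_right _
      obtain ⟨y, hy, -, e⟩ := S.member_R hg ha (by omega)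
      have h := ((S.C.centre_comm' hy hp).symm).conj g⁻¹
      rw [← e] at h
      simpa [mul_assoc] using h
    have hm : ∀ a < 4, Commute (g⁻¹ * S.C.τ p * g) (g⁻¹ * S.C.τ a * g⁻¹⁻¹) := fun a ha => by
      have := (S.C.τ_centre_comm (S.C.mem p) ha).conj g⁻¹
      simpa [mul_assoc] using this
    obtain ⟨h4, h8⟩ := S.commute_of_member hg' hN hcm hm
    obtain ⟨y, hy, k, hk, e⟩ := S.act_centR hN hcm h4 h8
    have h2 : g⁻¹ * S.C.τ p * g * (g⁻¹ * S.C.τ p * g) = 1 := by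
      rw [show g⁻¹ * S.C.τ p * g * (g⁻¹ * S.C.τ p * g) = g⁻¹ * (S.C.τ p * S.C.τ p) * g by group, hp2]; group
    have hxL := S.inner_invol_mem hg ⟨_, S.C.mem y, k, hk, e⟩ h2
    have hkL : k ∈ L := by
      rw [show k = (S.C.τ y)⁻¹ * (g⁻¹ * S.C.τ p * g) by rw [← e, inv_mul_cancel_left]]
      exact mul_mem (inv_mem (S.C.mem y)) hxL
    obtain ⟨a, -, rfl⟩ := S.inf_cases hkL hk
    exact ⟨tmul y a, tmul_lt _ _, by rw [← S.C.mul, e]⟩
  let H : Subgroup G := S.C.T.comap (MulAut.conj g⁻¹).toMonoidHom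
  have hH : ∀ p, S.C.τ p ∈ H → g⁻¹ * S.C.τ p * g ∈ S.C.T := fun p hp => by
    have : g⁻¹ * S.C.τ p * g⁻¹⁻¹ ∈ S.C.T := hp
    rwa [inv_inv] at this
  have hroot : ∀ l < 4, S.C.τ (16 * l) ∈ H ∧ S.C.τ (64 * l) ∈ H := fun l hl => by
    constructor <;>
    · show g⁻¹ * S.C.τ _ * g⁻¹⁻¹ ∈ S.C.T
      rw [inv_inv]
      refine hinv _ (by omega) ?_
      rw [S.C.mul]
      first
        | rw [(root_sq l hl).1, S.C.τ_zero]
        | rw [(root_sq l hl).2.1, S.C.τ_zero]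
  have hcm : ∀ l < 4, ∀ n < 4, S.C.τ (cm l n) ∈ H := fun l hl n hn => by
    rw [cm, ← S.C.mul, ← S.C.mul]
    exact mul_mem (mul_mem (hroot n hn).2 (hroot l hl).1) (mul_mem (hroot n hn).2 (hroot l hl).1)
  have hb : ∀ (b : Bool), ∀ l < 4, ∀ n < 4, S.C.τ (bitc b l n) ∈ H := fun b l hl n hn => by
    cases b
    · rw [show bitc false l n = 0 from rfl, S.C.τ_zero]; exact one_mem _
    · exact hcm l hl n hn
  intro i hi
  obtain ⟨a, b, c, d, e⟩ := cm_span (i % 16) (Nat.mod_lt _ (by norm_num))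
  have hiH : S.C.τ i ∈ H := by
    rw [← code_split i hi, ← S.C.mul, ← S.C.mul, ← e, ← S.C.mul, ← S.C.mul, ← S.C.mul]
    exact mul_mem (mul_mem (mul_mem (hb a 1 (by norm_num) 1 (by norm_num)) (hb b 2 (by norm_num) 1 (by norm_num)))
      (mul_mem (hb c 1 (by norm_num) 2 (by norm_num)) (hb d 2 (by norm_num) 2 (by norm_num))))
      (mul_mem (hroot _ (cL_lt i)).1 (hroot _ (cN_lt i)).2)
  obtain ⟨j, hj, ej⟩ := hH i hiH
  exact ⟨j, hj, by rw [ej, inv_inv]⟩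

/-- An element exchanging the centre with its conjugate. -/
theorem nrm_swap (hg : S.Nrm g k₀ a₀) : ∃ h : G, h ∉ normalizer (L : Set G) ∧ S.NormT h ∧
    (∀ a < 4, g * S.C.τ a * g⁻¹ = h * S.C.τ a * h⁻¹) ∧
    (∀ a < 4, ∃ b < 4, h * S.C.τ a * h⁻¹ = S.C.τ (4 * b)) ∧
    (∀ b < 4, ∃ a < 4, h * S.C.τ (4 * b) * h⁻¹ = S.C.τ a) := by
  have hgN := hg.2.2.1
  obtain ⟨c, hc, k₁, a₁, hg'⟩ := S.exists_nrm (S.zin_inv (S.nrm_zin hg)) (fun hh => hgN (by simpa using inv_mem hh))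
  have hsame : ∀ a < 4, g * S.C.τ a * g⁻¹ = (c * g⁻¹)⁻¹ * S.C.τ a * (c * g⁻¹)⁻¹⁻¹ := fun a ha => by
    rw [show (c * g⁻¹)⁻¹ * S.C.τ a * (c * g⁻¹)⁻¹⁻¹ = g * (c⁻¹ * S.C.τ a * c) * g⁻¹ by group,
      (S.C.τ_centre_comm (inv_mem hc) ha).eq, inv_mul_cancel_right]
  have hn : S.Nrm (c * g⁻¹)⁻¹ k₀ a₀ :=
    ⟨hg.1, hg.2.1, fun hh => hg'.2.2.1 (by simpa using inv_mem hh), hg.2.2.2.1, hg.2.2.2.2.1,
      by rw [← hsame a₀ hg.2.1]; exact hg.2.2.2.2.2⟩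
  have hN := S.normT_of_nrm hg' hn
  generalize (c * g⁻¹)⁻¹ = h at hN hsame hn
  have hU : ∀ a < 4, ∃ b < 4, h * S.C.τ a * h⁻¹ = S.C.τ (4 * b) := by
    intro a ha
    by_cases ha0 : a = 0
    · exact ⟨0, by norm_num, by rw [ha0, mul_zero, S.C.τ_zero]; group⟩
    obtain ⟨y, hy, hy4, e⟩ := S.member_R hg ha (by omega)
    rw [hsame a ha] at e
    have hmix := S.normT_mixed hN (r := a) (by omega) hy e (by unfold cA cB; omega)
    refine ⟨cB y, cB_lt y, ?_⟩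
    rw [e]
    congr 1
    unfold cA cB at *; omega
  refine ⟨h, hn.2.2.1, hN, hsame, hU, fun b hb => ?_⟩
  by_cases hb0 : b = 0
  · exact ⟨0, by norm_num, by rw [hb0, mul_zero, S.C.τ_zero]; group⟩
  obtain ⟨z, hz, e⟩ := S.normT_R hN (r := 4 * b) (by omega)
  refine ⟨z, ?_, e⟩
  by_contra! hz4
  have hmix := S.normT_mixed hN (r := 4 * b) (by omega) hz e (by unfold cA cB; omega)
  have hzA : cA z = 0 := by unfold cA cB at *; omega
  obtain ⟨a, ha, y, hy, hyb, k, hk, hk2, em⟩ := S.nrm_member_b hg (cB_lt z) (by unfold cB; omega)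
  obtain ⟨b', hb', eb⟩ := hU a ha
  obtain ⟨d, hd, rfl⟩ := S.inv_K_mem hg hk hk2
  rw [S.C.mul, hsame a ha, eb] at em
  have e' := S.C.inj _ (tmul_lt y d) _ (by omega) em
  obtain ⟨-, h2, -, -⟩ := small_facts
  obtain ⟨-, d2, -⟩ := h2 y hy d hd
  rw [e'] at d2
  have hbz : 4 * b' = z := by unfold cA cB at *; omega
  rw [← hbz, ← eb] at e
  have := S.C.inj _ (by omega) _ (by omega) (mul_left_cancel (mul_right_cancel e))
  omega

/-- The conjugates of the centre in the subgroup. -/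
theorem fused_lab₀ {g : G} {a : ℕ} (ha : a < 4) (hL : g * S.C.τ a * g⁻¹ ∈ L)
    (hK : g * S.C.τ a * g⁻¹ ∉ centralizer (L : Set G)) : S.C.Lab₀ (g * S.C.τ a * g⁻¹) := by
  obtain ⟨c, hc, k, hk, hk2, e⟩ := S.invol_normal_form (Inner.of_mem hL) (S.member_sq g ha) hK
  have ha1 : 1 ≤ a := by
    by_contra! h0
    obtain rfl : a = 0 := by omega
    exact hK (by rw [S.C.τ_zero, mul_one, mul_inv_cancel]; exact one_mem _)
  have hn : S.Nrm (c * g) k a := ⟨ha1, ha, fun hh => hK (conj_mem_K (by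
    simpa using mul_mem (inv_mem (le_normalizer hc)) hh) (S.τ_mem_K ha)), hk, hk2, by rw [← e]; group⟩
  obtain ⟨h, -, -, hsame, hU, -⟩ := S.nrm_swap hn
  obtain ⟨b, hb, eb⟩ := hU a ha
  rw [← hsame a ha] at eb
  have hb0 : b ≠ 0 := fun hb0 => by
    rw [hb0, mul_zero, S.C.τ_zero] at eb
    exact S.τ_ne (show a < 256 by omega) (by omega) (conj_eq_one_iff.1 eb)
  exact ⟨c, hc, 4 * b, by omega, by omega, by unfold cA; omega, by rw [← eb]; group⟩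

end Std

end CfsgLib.StdHe
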