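import Cfsg.Agent.Lib.StdHe.FusedC
import Mathlib.GroupTheory.SchurZassenhaus

/-!
The centraliser of the standard subgroup is its centre times a subgroup of odd order.
-/

set_option autoImplicit false
set_option linter.unusedSectionVars false
set_option linter.style.haveILetI false

namespace CfsgLib.StdHe

open Subgroup

universe u

variable {G : Type u} [Group G]

/-- The part of odd order of the centraliser. -/
def dSub (L : Subgroup G) : Subgroup G :=
  Subgroup.closure {x | x ∈ centralizer (L : Set G) ∧ Odd (orderOf x)}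

variable {L : Subgroup G}

theorem dSub_le : dSub L ≤ centralizer (L : Set G) := (closure_le _).2 fun _ h => h.1

theorem normalizer_le_normalizer_dSub [Finite G] :
    normalizer (L : Set G) ≤ normalizer (dSub L : Set G) := by
  have key : ∀ x ∈ normalizer (L : Set G), ∀ d ∈ dSub L, x * d * x⁻¹ ∈ dSub L := fun x hx d hd => by
    induction hd using closure_induction with
    | mem d hd => exact subset_closure ⟨conj_mem_K hx hd.1, by rw [← SemiconjBy.orderOf_eq x (show SemiconjBy x d (x * d * x⁻¹) by simp [SemiconjBy])]; exact hd.2⟩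
    | one => simp
    | mul a b _ _ ha hb => rw [show x * (a * b) * x⁻¹ = x * a * x⁻¹ * (x * b * x⁻¹) by group]; exact mul_mem ha hb
    | inv a _ ha => rw [show x * a⁻¹ * x⁻¹ = (x * a * x⁻¹)⁻¹ by group]; exact inv_mem ha
  intro x hx
  rw [mem_normalizer_iff]
  intro d
  refine ⟨key x hx d, fun h => ?_⟩
  have := key x⁻¹ (inv_mem hx) _ h
  simpa [mul_assoc] using this

namespace Std

variable [Finite G] (S : Std L) {g k₀ : G} {a₀ : ℕ} (hg : S.Nrm g k₀ a₀)

include S

include hg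

theorem K_two {k : G} (hk : k ∈ centralizer (L : Set G)) (h : k * k ∈ L) : k * k = 1 := by
  obtain ⟨a, ha, e⟩ := S.inf_cases h (mul_mem hk hk)
  by_cases ha0 : a = 0
  · rw [← e, ha0, S.C.τ_zero]
  exfalso
  obtain ⟨x, -, hN, -, hU, -⟩ := S.nrm_swap hg
  have hc : ∀ j < 256, Commute (x * k * x⁻¹) (S.C.τ j) := fun j hj => by
    obtain ⟨i, hi, e'⟩ := S.normT_inv hN j hj
    rw [show S.C.τ j = x * S.C.τ i * x⁻¹ by rw [← e']; group]
    exact (Commute.conj_iff x).2 (commute_cent (S.C.mem i) hk).symm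
  have hwN : x * k * x⁻¹ ∈ normalizer (L : Set G) :=
    S.cent_le (S.τ_mem_K (show 1 < 4 by norm_num)) (S.τ_sq (by norm_num)) (S.τ_ne (by norm_num) one_ne_zero)
      (hc 1 (by norm_num))
  obtain ⟨y, hy, k', hk', ey⟩ := S.act_centR hwN (fun a ha => hc a (by omega)) (hc 4 (by norm_num)) (hc 8 (by norm_num))
  have hy16 : y < 16 := by
    refine centre_fact y hy ?_ ?_ <;>
      refine S.C.inj _ (tmul_lt _ _) _ (tmul_lt _ _) ?_ <;> rw [← S.C.mul, ← S.C.mul]
    all_goals
      first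
      | exact ((ey ▸ hc 16 (by norm_num) : Commute (S.C.τ y * k') (S.C.τ 16)).mul_left
          (commute_cent (S.C.mem 16) hk').symm.inv_left |>.eq |> fun h => by simpa [mul_assoc] using h)
      | exact ((ey ▸ hc 64 (by norm_num) : Commute (S.C.τ y * k') (S.C.τ 64)).mul_left
          (commute_cent (S.C.mem 64) hk').symm.inv_left |>.eq |> fun h => by simpa [mul_assoc] using h)
  obtain ⟨b, hb, eb⟩ := hU a ha
  have hsq : k' * k' = S.C.τ (4 * b) := by
    rw [← eb, e, show x * (k * k) * x⁻¹ = x * k * x⁻¹ * (x * k * x⁻¹) by group, ← ey,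
      (commute_cent (S.C.mem y) hk').symm.mul_mul_mul_comm, S.τ_sq hy16, one_mul]
  obtain ⟨d, hd, ed⟩ := S.inf_cases (S.C.mem (4 * b)) (hsq ▸ mul_mem hk' hk')
  have hbd := S.C.inj d (by omega) (4 * b) (by omega) ed
  obtain rfl : b = 0 := by omega
  rw [mul_zero, S.C.τ_zero] at eb
  exact S.τ_ne (show a < 256 by omega) ha0 (conj_eq_one_iff.1 eb)

theorem K_split : (∀ x, x ∈ dSub L ↔ x ∈ centralizer (L : Set G) ∧ Odd (orderOf x)) ∧
    Odd (Nat.card (dSub L)) ∧
    ∀ x ∈ centralizer (L : Set G), ∃ a < 4, ∃ d ∈ dSub L, S.C.τ a * d = x := by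
  classical
  set K := centralizer (L : Set G) with hKd
  set Z := (zSub L).subgroupOf K with hZd
  haveI hZn : Z.Normal := ⟨fun z hz x => by
    show ((x * z * x⁻¹ : K) : G) ∈ zSub L
    have hz' : (z : G) ∈ zSub L := hz
    rw [Subgroup.coe_mul, Subgroup.coe_mul, Subgroup.coe_inv, ← (commute_cent hz'.1 x.2).eq, mul_inv_cancel_right]
    exact hz'⟩
  have hzK : zSub L ≤ K := inf_le_right
  have hcardZ : Nat.card Z = 4 := by
    rw [hZd, Nat.card_congr (subgroupOfEquivOfLe hzK).toEquiv, S.card_Zc]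
  have hidx : Odd Z.index := by
    rw [← Nat.not_even_iff_odd]
    intro hev
    haveI : Fact (Nat.Prime 2) := ⟨Nat.prime_two⟩
    obtain ⟨q, hq⟩ := exists_prime_orderOf_dvd_card' (G := K ⧸ Z) 2 (by rw [← Subgroup.index_eq_card]; exact hev.two_dvd)
    obtain ⟨x, rfl⟩ := QuotientGroup.mk'_surjective Z q
    have h2 : (QuotientGroup.mk' Z x) ^ 2 = 1 := hq ▸ pow_orderOf_eq_one _
    rw [← map_pow] at h2
    have hx2 : ((x : G) * x) ∈ zSub L := by
      have := (QuotientGroup.eq_one_iff _).1 h2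
      rw [sq] at this
      exact this
    have hx1 : (x : G) * x = 1 := S.K_two hg x.2 hx2.1
    obtain ⟨a, ha, e⟩ := S.inv_K_mem hg x.2 hx1
    have hxZ : x ∈ Z := by
      show (x : G) ∈ zSub L
      rw [e]; exact S.τ_mem_Zc ha
    rw [QuotientGroup.mk'_apply, (QuotientGroup.eq_one_iff x).2 hxZ, orderOf_one] at hq
    omega
  obtain ⟨H, hH⟩ := Subgroup.exists_right_complement'_of_coprime (N := Z)
    (by rw [hcardZ]; exact (Nat.Coprime.pow_left 2 (Nat.coprime_two_left.2 hidx)))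
  have hHodd : Odd (Nat.card H) := by
    have h1 := hH.card_mul
    have h2 := Z.card_mul_index
    rw [hcardZ] at h1 h2
    have : Nat.card H = Z.index := by omega
    rw [this]; exact hidx
  have hsplit : ∀ x : K, ∃ z ∈ Z, ∃ y ∈ H, z * y = x := fun x => by
    obtain ⟨⟨⟨z, hz⟩, ⟨y, hy⟩⟩, e⟩ := hH.2 x
    exact ⟨z, hz, y, hy, e⟩
  have hmap : ∀ x, x ∈ H.map K.subtype ↔ x ∈ K ∧ Odd (orderOf x) := by
    intro x
    constructor
    · rintro ⟨y, hy, rfl⟩
      refine ⟨y.2, ?_⟩
      rw [Subgroup.coe_subtype, Subgroup.orderOf_coe]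
      exact hHodd.of_dvd_nat (Subgroup.orderOf_dvd_natCard _ hy)
    · rintro ⟨hxK, hxo⟩
      obtain ⟨z, hz, y, hy, e⟩ := hsplit ⟨x, hxK⟩
      refine ⟨y, hy, ?_⟩
      have hz2 : z * z = 1 := Subtype.ext (S.Zc_sq hz)
      have hc : Commute z y := Subtype.ext ((commute_cent hz.1 y.2).eq)
      obtain ⟨n, hn⟩ : ∃ n, n = orderOf x * orderOf y := ⟨_, rfl⟩
      have hno : Odd n := hn ▸ hxo.mul (hHodd.of_dvd_nat (Subgroup.orderOf_dvd_natCard _ hy))
      have hxn : (⟨x, hxK⟩ : K) ^ n = 1 := Subtype.ext (by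
        show x ^ n = 1
        rw [hn, pow_mul, pow_orderOf_eq_one, one_pow])
      rw [← e, hc.mul_pow, show y ^ n = 1 by rw [hn, mul_comm, pow_mul, pow_orderOf_eq_one, one_pow], mul_one] at hxn
      obtain ⟨m, rfl⟩ := hno
      rw [pow_succ, pow_mul, sq, hz2, one_pow, one_mul] at hxn
      rw [hxn, one_mul] at e
      exact congrArg Subtype.val e
  have hD : dSub L = H.map K.subtype := by
    apply le_antisymm
    · exact (closure_le _).2 fun x hx => (hmap x).2 hx
    · exact fun x hx => subset_closure ((hmap x).1 hx)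
  refine ⟨fun x => by rw [hD]; exact hmap x, ?_, fun x hx => ?_⟩
  · rw [hD, card_map_of_injective K.subtype_injective]; exact hHodd
  · obtain ⟨z, hz, y, hy, e⟩ := hsplit ⟨x, hx⟩
    obtain ⟨a, ha, ea⟩ := S.inf_cases hz.1 hz.2
    exact ⟨a, ha, y, hD ▸ ⟨y, hy, rfl⟩, by rw [ea]; exact congrArg Subtype.val e⟩

/-- The centraliser of the centre of the Sylow subgroup. -/
theorem cent_R {x : G} (h : ∀ r < 16, Commute x (S.C.τ r)) :
    ∃ y < 256, ∃ d ∈ dSub L, S.C.τ y * d = x := by
  have hxN : x ∈ normalizer (L : Set G) :=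
    S.cent_le (S.τ_mem_K (show 1 < 4 by norm_num)) (S.τ_sq (by norm_num)) (S.τ_ne (by norm_num) one_ne_zero)
      (h 1 (by norm_num))
  obtain ⟨y, hy, k, hk, e⟩ := S.act_centR hxN (fun a ha => h a (by omega)) (h 4 (by norm_num)) (h 8 (by norm_num))
  obtain ⟨a, ha, d, hd, rfl⟩ := (S.K_split hg).2.2 k hk
  exact ⟨tmul y a, tmul_lt _ _, d, hd, by rw [← S.C.mul, mul_assoc, e]⟩

/-- An element normalising the Sylow subgroup normalises the odd part. -/
theorem normT_dSub {x : G} (hx : S.NormT x) : x ∈ normalizer (dSub L : Set G) := by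
  have key : ∀ x, S.NormT x → ∀ d ∈ dSub L, x * d * x⁻¹ ∈ dSub L := by
    intro x hx d hd
    obtain ⟨hdK, hdo⟩ := ((S.K_split hg).1 d).1 hd
    have hc : ∀ j < 256, Commute (x * d * x⁻¹) (S.C.τ j) := fun j hj => by
      obtain ⟨i, hi, e'⟩ := S.normT_inv hx j hj
      rw [show S.C.τ j = x * S.C.τ i * x⁻¹ by rw [← e']; group]
      exact (Commute.conj_iff x).2 (commute_cent (S.C.mem i) hdK).symm
    obtain ⟨y, hy, d', hd', e⟩ := S.cent_R hg fun r hr => hc r (by omega)
    obtain ⟨hdK', hdo'⟩ := ((S.K_split hg).1 d').1 hd'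
    have hy16 : y < 16 := by
      refine centre_fact y hy ?_ ?_ <;>
        refine S.C.inj _ (tmul_lt _ _) _ (tmul_lt _ _) ?_ <;> rw [← S.C.mul, ← S.C.mul]
      all_goals
        first
        | exact ((e ▸ hc 16 (by norm_num) : Commute (S.C.τ y * d') (S.C.τ 16)).mul_left
            (commute_cent (S.C.mem 16) hdK').symm.inv_left |>.eq |> fun h => by simpa [mul_assoc] using h)
        | exact ((e ▸ hc 64 (by norm_num) : Commute (S.C.τ y * d') (S.C.τ 64)).mul_left
            (commute_cent (S.C.mem 64) hdK').symm.inv_left |>.eq |> fun h => by simpa [mul_assoc] using h)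
    obtain ⟨n, hn⟩ : ∃ n, n = orderOf d * orderOf d' := ⟨_, rfl⟩
    have h1 : (x * d * x⁻¹) ^ n = 1 := by
      rw [conj_pow, hn, pow_mul, pow_orderOf_eq_one, one_pow, mul_one, mul_inv_cancel]
    rw [← e, (commute_cent (S.C.mem y) hdK').mul_pow,
      show d' ^ n = 1 by rw [hn, mul_comm, pow_mul, pow_orderOf_eq_one, one_pow], mul_one] at h1
    obtain ⟨m, hm⟩ := hn ▸ hdo.mul hdo'
    rw [hm, pow_succ, pow_mul, sq, S.τ_sq hy16, one_pow, one_mul] at h1
    rw [← e, h1, one_mul]
    exact hd'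
  rw [mem_normalizer_iff]
  intro d
  refine ⟨key x hx d, fun h => ?_⟩
  have := key x⁻¹ (S.normT_inv hx) _ h
  simpa [mul_assoc] using this

end Std

end CfsgLib.StdHe
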