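import Cfsg.Agent.Lib.StdHe.LTau
import Cfsg.Agent.Lib.StdHe.Coord
import Cfsg.Agent.Lib.SLGen.Jordan

/-!
The coordinates exist.
-/

set_option autoImplicit false
set_option linter.unusedSectionVars false
set_option linter.style.haveILetI false

namespace CfsgLib.StdHe

open Matrix CfsgLib.PSLn CfsgLib.L34Cover Subgroup

universe u v

variable {F : Type v} [Field F] [Fintype F] {W : Gen F}
variable {X : Type u} [Group X] [Finite X] {π : X →* Matrix.ProjectiveSpecialLinearGroup (Fin 3) F}

namespace Elts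

variable (D : Elts W π)

/-- The Sylow subgroup. -/
noncomputable def T : Subgroup X := (upperHom F 3).range.comap π

theorem mem_T {x : X} : x ∈ T (π := π) ↔ ∃ a c b : F, π x = up a c b := by
  constructor
  · rintro ⟨A, hA⟩
    exact ⟨A.1.1 0 1, A.1.1 1 2, A.1.1 0 2, hA.symm.trans (congrArg _ (ext_entries _ _ rfl rfl rfl))⟩
  · rintro ⟨a, c, b, h⟩
    exact ⟨_, h.symm⟩

theorem τ_T (x : ℕ) : D.τ x ∈ T (π := π) := mem_T.2 ⟨_, _, _, D.π_τ x⟩

theorem ψ_zero : D.ψ 0 = 1 := by
  have := D.ψ_add 0 0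
  rw [add_zero] at this
  exact mul_left_cancel (this.symm.trans (mul_one _).symm)

theorem τ_a {a : ℕ} (ha : a < 4) : D.τ a = D.ψ (W.el a) := by
  obtain ⟨h1, h2, h3, h4⟩ := tc_parts ha (show (0 : ℕ) < 4 by norm_num) (show (0 : ℕ) < 4 by norm_num)
    (show (0 : ℕ) < 4 by norm_num)
  simp only [tc, mul_zero, add_zero] at h1 h2 h3 h4
  have he : D.e 0 = 1 := by
    have := D.e_add 0 0
    rw [add_zero] at this
    exact mul_left_cancel (this.symm.trans (mul_one _).symm)
  have hf : D.f 0 = 1 := by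
    have := D.f_add 0 0
    rw [add_zero] at this
    exact mul_left_cancel (this.symm.trans (mul_one _).symm)
  have hu : D.u 0 = 1 := by
    have := D.u_add 0 0
    rw [add_zero] at this
    exact mul_left_cancel (this.symm.trans (mul_one _).symm)
  rw [τ, h1, h2, h3, h4, W.el_zero, he, hf, hu]
  simp

include D in
/-- An element of the Sylow subgroup is a central one times a coded one. -/
theorem exists_ker_τ {x : X} (hx : x ∈ T (π := π)) : ∃ z ∈ π.ker, ∃ k < 256, cA k = 0 ∧ x = z * D.τ k := by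
  obtain ⟨a, c, b, h⟩ := mem_T.1 hx
  obtain ⟨l, hl, rfl⟩ := W.el_surj a
  obtain ⟨n, hn, rfl⟩ := W.el_surj c
  obtain ⟨m, hm, hmb⟩ := W.el_surj (b + W.el l * W.el n)
  obtain ⟨h1, h2, h3, h4⟩ := tc_parts (show (0 : ℕ) < 4 by norm_num) hm hl hn
  refine ⟨x * (D.τ (tc 0 m l n))⁻¹, ?_, _, tc_lt (by norm_num) hm hl hn, h1, by rw [inv_mul_cancel_right]⟩
  rw [MonoidHom.mem_ker, map_mul, map_inv, D.π_τ, h2, h3, h4, hmb, add_assoc, W.add_self, add_zero, h, mul_inv_cancel]

theorem tinv_spec {x : ℕ} (hx : x < 256) : D.τ x * D.τ (tinv x) = 1 := by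
  rw [D.τ_mul, (tmul_group x hx).2.2.2.1, D.τ_zero]

include D in
theorem card_T : Nat.card (T (π := π)) = 256 := by
  have hker : π.ker ≤ T (π := π) := fun x hx => by
    rw [T, mem_comap, MonoidHom.mem_ker.1 hx]; exact one_mem _
  have h1 := Subgroup.card_eq_card_quotient_mul_card_subgroup (π.ker.subgroupOf (T (π := π)))
  rw [Nat.card_congr (Subgroup.subgroupOfEquivOfLe hker).toEquiv, D.cover.card_ker] at h1
  have hr : (π.comp (T (π := π)).subtype).range = (upperHom F 3).range := by
    ext p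
    constructor
    · rintro ⟨x, rfl⟩; exact x.2
    · intro hp
      obtain ⟨x, rfl⟩ := D.cover.setup.surj p
      exact ⟨⟨x, hp⟩, rfl⟩
  have hk : (π.comp (T (π := π)).subtype).ker = π.ker.subgroupOf (T (π := π)) := rfl
  rw [h1, ← hk, Nat.card_congr (QuotientGroup.quotientKerEquivRange _).toEquiv, hr,
    ← Nat.card_congr (MonoidHom.ofInjective upperHom_injective).toEquiv, CfsgLib.PSLn.card_upper, Fin.prod_univ_three,
    W.card]
  rfl

/-- The parametrisation of the centre is onto. -/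
theorem ψ_surj {z : X} (hz : z ∈ π.ker) : ∃ a < 4, D.ψ (W.el a) = z := by
  classical
  by_contra! hne
  haveI : Fintype π.ker := Fintype.ofFinite _
  -- a subgroup of order at most two containing all the values
  obtain ⟨m, hmk, hm1, hm, hzm⟩ : ∃ m ∈ π.ker, m ≠ 1 ∧ (∀ a : F, D.ψ a = 1 ∨ D.ψ a = m) ∧ (z ≠ 1 ∧ z ≠ m) := by
    have hz1 : z ≠ 1 := fun h => hne 0 (by norm_num) (by rw [W.el_zero, D.ψ_zero, h])
    by_cases h : ∀ a : F, D.ψ a = 1
    · obtain ⟨m, hmk, hm1, hzm⟩ : ∃ m ∈ π.ker, m ≠ 1 ∧ z ≠ m := by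
        by_contra! h2
        let g2 : π.ker → Fin 2 := fun x => if (x : X) = 1 then 0 else 1
        have hg2 : Function.Injective g2 := fun x y e => Subtype.ext (by
          have hx := h2 _ x.2
          have hy := h2 _ y.2
          simp only [g2] at e
          split_ifs at e with a b <;> simp_all)
        have := Nat.card_le_card_of_injective g2 hg2
        rw [D.cover.card_ker, Nat.card_fin] at this
        omega
      exact ⟨m, hmk, hm1, fun a => .inl (h a), hz1, hzm⟩
    push Not at h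
    obtain ⟨a, ha⟩ := h
    have hzm : z ≠ D.ψ a := fun e => by
      obtain ⟨k, hk, rfl⟩ := W.el_surj a
      exact hne k hk e.symm
    refine ⟨_, D.ψ_ker a, ha, fun b => ?_, hz1, hzm⟩
    by_contra! hb
    let g : Fin 5 → π.ker := ![1, ⟨z, hz⟩, ⟨_, D.ψ_ker a⟩, ⟨_, D.ψ_ker b⟩, ⟨_, D.ψ_ker (a + b)⟩]
    have hzb : z ≠ D.ψ b := fun e => by
      obtain ⟨k, hk, rfl⟩ := W.el_surj b
      exact hne k hk e.symm
    have hzab : z ≠ D.ψ (a + b) := fun e => by
      obtain ⟨k, hk, hkab⟩ := W.el_surj (a + b)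
      exact hne k hk (by rw [hkab]; exact e.symm)
    have hab : D.ψ (a + b) = D.ψ a * D.ψ b := D.ψ_add a b
    have hab1 : D.ψ (a + b) ≠ 1 := fun e => hb.2 (by
      rw [hab, mul_eq_one_iff_eq_inv] at e
      rw [e]
      exact (inv_eq_of_mul_eq_one_right (D.cover.setup.kersq _ (D.ψ_ker b))).symm)
    have haba : D.ψ (a + b) ≠ D.ψ a := fun e => hb.1 (mul_eq_left.mp (hab.symm.trans e))
    have habb : D.ψ (a + b) ≠ D.ψ b := fun e => ha (mul_eq_right.mp (hab.symm.trans e))
    have hg : Function.Injective g := by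
      intro i j e
      have e' := congrArg (fun x : π.ker => (x : X)) e
      fin_cases i <;> fin_cases j <;>
        simp [g, hz1, hz1.symm, ha, Ne.symm ha, hb.1, Ne.symm hb.1, hb.2, Ne.symm hb.2, hzm, hzm.symm, hzb, hzb.symm,
          hzab, hzab.symm, hab1, hab1.symm, haba, haba.symm, habb, habb.symm] at e' ⊢
    have := Nat.card_le_card_of_injective g hg
    rw [D.cover.card_ker, Nat.card_fin] at this
    omega
  have hmm : m * m = 1 := D.cover.setup.kersq m hmk
  have hcen : ∀ k ∈ π.ker, ∀ g, Commute g k := fun k hk => D.ker_central hk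
  -- the subgroup of index two
  let P : X → Prop := fun g => ∃ w, (w = 1 ∨ w = m) ∧ ∃ k < 256, g = w * D.τ k
  have hP1 : P 1 := ⟨1, .inl rfl, 0, by norm_num, by rw [D.τ_zero, one_mul]⟩
  have hPmul : ∀ {g g'}, P g → P g' → P (g * g') := by
    rintro _ _ ⟨w, hw, k, -, rfl⟩ ⟨w', hw', k', -, rfl⟩
    have hwk : w' ∈ π.ker := by rcases hw' with rfl | rfl; exacts [one_mem _, hmk]
    refine ⟨w * w', ?_, tmul k k', tmul_lt _ _, ?_⟩
    · rcases hw with rfl | rfl <;> rcases hw' with rfl | rfl <;> simp [hmm]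
    · rw [← D.τ_mul]
      calc w * D.τ k * (w' * D.τ k') = w * (D.τ k * w') * D.τ k' := by simp only [mul_assoc]
        _ = _ := by rw [(hcen w' hwk _).eq]; simp only [mul_assoc]
  let S : Subgroup X :=
    { carrier := {g | P g}
      one_mem' := hP1
      mul_mem' := hPmul
      inv_mem' := fun {g} hg => by
        show P g⁻¹
        have h : ∀ n : ℕ, P (g ^ n) := fun n => by
          induction n with
          | zero => rw [pow_zero]; exact hP1
          | succ n ih => rw [pow_succ]; exact hPmul ih hg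
        obtain ⟨n, hn⟩ := (isOfFinOrder_of_finite g).mem_powers_iff_mem_zpowers.mpr
          ((zpowers g).inv_mem (mem_zpowers g))
        exact (show g ^ n = g⁻¹ from hn) ▸ h n }
  have hzS : z ∉ S := by
    rintro ⟨w, hw, k, hk, e⟩
    have hwk : w ∈ π.ker := by rcases hw with rfl | rfl; exacts [one_mem _, hmk]
    have hτ : π (D.τ k) = 1 := by
      have := congrArg π e
      rw [map_mul, MonoidHom.mem_ker.1 hwk, one_mul, MonoidHom.mem_ker.1 hz] at this
      exact this.symm
    have h0 : up (0 : F) 0 0 = 1 := by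
      have := up_mul (0 : F) 0 0 0 0 0
      simp only [add_zero, mul_zero] at this
      exact mul_left_cancel (this.trans (mul_one _).symm)
    rw [D.π_τ, ← h0] at hτ
    obtain ⟨q1, q2, q3⟩ := up_inj hτ
    rw [q1, zero_mul, add_zero] at q3
    have e1 : cL k = 0 := W.el_inj (cL_lt _) (by norm_num) q1
    have e2 : cN k = 0 := W.el_inj (cN_lt _) (by norm_num) q2
    have e3 : cB k = 0 := W.el_inj (cB_lt _) (by norm_num) q3
    have ek : k = cA k := by
      have := tc_self hk
      rw [e1, e2, e3] at this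
      simpa [tc] using this.symm
    rw [ek, D.τ_a (cA_lt k)] at e
    rcases hw with rfl | rfl <;> rcases hm (W.el (cA k)) with h | h <;> rw [h] at e <;>
      simp [hmm, hzm.1, hzm.2] at e
  have hST : S ≤ T (π := π) := by
    rintro g ⟨w, hw, k, -, rfl⟩
    refine mul_mem ?_ (D.τ_T k)
    rw [T, mem_comap]
    rcases hw with rfl | rfl <;> simp [MonoidHom.mem_ker.1 hmk]
  have hsplit : ∀ g ∈ T (π := π), g ∈ S ∨ z * g ∈ S := by
    intro g hg
    obtain ⟨w, hw, k, hk, -, rfl⟩ := D.exists_ker_τ hg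
    have hcases : w = 1 ∨ w = m ∨ z * w = 1 ∨ z * w = m := by
      by_contra! h
      let g4 : Fin 5 → π.ker := ![1, ⟨m, hmk⟩, ⟨z, hz⟩, ⟨z * m, mul_mem hz hmk⟩, ⟨w, hw⟩]
      have hzz := D.cover.setup.kersq z hz
      have hg4 : Function.Injective g4 := by
        intro i j e
        have e' := congrArg (fun x : π.ker => (x : X)) e
        have hzm' : z * m ≠ 1 := fun e => hzm.2 (by rw [← mul_one z, ← hmm, ← mul_assoc, e, one_mul])
        have hwzm : w ≠ z * m := fun e => h.2.2.2 (by rw [e, ← mul_assoc, hzz, one_mul])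
        have hwz : w ≠ z := fun e => h.2.2.1 (by rw [e, hzz])
        fin_cases i <;> fin_cases j <;>
          simp [g4, hm1, Ne.symm hm1, hzm.1, hzm.1.symm, hzm.2, hzm.2.symm, hzm', hzm'.symm, hwzm, hwzm.symm,
            hwz, hwz.symm, h.1, Ne.symm h.1, h.2.1, Ne.symm h.2.1] at e' ⊢
      have := Nat.card_le_card_of_injective g4 hg4
      rw [D.cover.card_ker, Nat.card_fin] at this
      omega
    rcases hcases with h | h | h | h
    · exact .inl ⟨w, .inl h, k, hk, rfl⟩
    · exact .inl ⟨w, .inr h, k, hk, rfl⟩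
    · exact .inr ⟨z * w, .inl h, k, hk, by rw [mul_assoc]⟩
    · exact .inr ⟨z * w, .inr h, k, hk, by rw [mul_assoc]⟩
  have hzT : z ∈ T (π := π) := by
    rw [T, mem_comap, MonoidHom.mem_ker.1 hz]; exact one_mem _
  let S' := S.subgroupOf (T (π := π))
  have hidx : S'.index = 2 := by
    refine Subgroup.index_eq_two_iff.2 ⟨⟨z, hzT⟩, fun b => ?_⟩
    rcases hsplit b b.2 with hb | hb
    · refine .inr ⟨hb, fun h => hzS ?_⟩
      have h' : (b : X) * z ∈ S := h
      have := mul_mem (inv_mem hb) h'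
      rwa [inv_mul_cancel_left] at this
    · refine .inl ⟨?_, fun h => hzS ?_⟩
      · show (b : X) * z ∈ S
        rwa [(hcen z hz _).eq]
      · have := mul_mem hb (inv_mem (show (b : X) ∈ S from h))
        rwa [mul_inv_cancel_right] at this
  let χ : T (π := π) →* Multiplicative (ZMod 2) :=
    MonoidHom.mk' (fun t => Multiplicative.ofAdd (if t ∈ S' then 0 else 1)) fun a b => by
      rw [← ofAdd_add]
      refine congrArg _ ?_
      have h := Subgroup.mul_mem_iff_of_index_two hidx (a := a) (b := b)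
      by_cases ha : a ∈ S' <;> by_cases hb : b ∈ S' <;> simp [ha, hb, h] <;> decide
  have hx : (T (π := π)).index = 315 := by
    have := (T (π := π)).card_mul_index
    rw [D.card_T, D.cover.card (W := W)] at this
    omega
  have key : ∀ (n : ℕ) (g : X), g⁻¹ * z ^ n * g ∈ T (π := π) → g⁻¹ * z ^ n * g = z ^ n := fun n g _ => by
    rw [((hcen z hz g⁻¹).pow_right n).eq, inv_mul_cancel_right]
  have h1 := MonoidHom.transfer_eq_pow χ z key
  have h0 : ∀ x : X, MonoidHom.transfer χ x = 1 := fun x => by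
    have hx' : x ∈ commutator X := by rw [D.cover.perfect]; trivial
    exact MonoidHom.mem_ker.1 (Abelianization.commutator_subset_ker _ hx')
  rw [h0 z] at h1
  have hodd : z ^ (T (π := π)).index = z := by
    rw [hx, show 315 = 2 * 157 + 1 from rfl, pow_succ, pow_mul, pow_two, D.cover.setup.kersq z hz, one_pow, one_mul]
  have h2 : χ ⟨z, hzT⟩ = 1 := by
    have e : (⟨z ^ (T (π := π)).index, MonoidHom.transfer_eq_pow_aux z key⟩ : T (π := π)) = ⟨z, hzT⟩ :=
      Subtype.ext hodd
    rw [← e]; exact h1.symm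
  have h3 : (⟨z, hzT⟩ : T (π := π)) ∉ S' := hzS
  have : χ ⟨z, hzT⟩ = Multiplicative.ofAdd 1 := congrArg Multiplicative.ofAdd (if_neg h3)
  rw [this] at h2
  exact absurd h2 (by decide)

end Elts

end CfsgLib.StdHe
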