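import Cfsg.Agent.Lib.StdHe.LRoots
import Cfsg.Agent.Lib.SLGen.Jordan

/-!
Matrix computations in `PSL₃(4)`: the centraliser of a root element and the normaliser of the upper group.
-/

set_option autoImplicit false
set_option linter.unusedSectionVars false

namespace CfsgLib.StdHe

open Matrix CfsgLib.PSLn CfsgLib.L34Cover Subgroup

universe v

variable {F : Type v} [Field F] [Fintype F]

local notation "SL3" => Matrix.SpecialLinearGroup (Fin 3) F
local notation "PSL3" => Matrix.ProjectiveSpecialLinearGroup (Fin 3) F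
local notation "mkP" => QuotientGroup.mk' (Subgroup.center (Matrix.SpecialLinearGroup (Fin 3) F))

theorem smul_of_mk_eq (hF : Fintype.card F = 4) {A B : SL3} (h : mkP A = mkP B) :
    ∃ r : F, r ^ 3 = 1 ∧ A.1 = r • B.1 := by
  obtain ⟨r, hr, hr'⟩ := (PSL34.mkP_eq_one hF).1 (show mkP (B⁻¹ * A) = 1 by rw [map_mul, map_inv, h, inv_mul_cancel])
  refine ⟨r, hr, ?_⟩
  have := congrArg (fun M => B.1 * M) hr'
  rwa [← Matrix.SpecialLinearGroup.coe_mul, mul_inv_cancel_left, Matrix.mul_smul, mul_one] at this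

theorem up_apply (a c b : F) : up a c b = mkP (ut a c b).1 := rfl

variable (W : Gen F)

include W in
/-- Conjugating a root element to a unitriangular one needs no scalar. -/
theorem conj_eq_of_mk {A : SL3} {a c b a' c' b' : F}
    (h : mkP A * up a c b * (mkP A)⁻¹ = up a' c' b') : A.1 * (ut a c b).1.1 = (ut a' c' b').1.1 * A.1 := by
  haveI := W.char2
  rw [mul_inv_eq_iff_eq_mul, up_apply, up_apply, ← map_mul, ← map_mul] at h
  obtain ⟨r, hr, he⟩ := smul_of_mk_eq W.card h
  rw [Matrix.SpecialLinearGroup.coe_mul, Matrix.SpecialLinearGroup.coe_mul] at he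
  have hinv : A.1 * (A⁻¹).1 = 1 := by
    rw [← Matrix.SpecialLinearGroup.coe_mul, mul_inv_cancel, Matrix.SpecialLinearGroup.coe_one]
  have ht := congrArg (fun M => Matrix.trace (M * (A⁻¹).1)) he
  simp only [Matrix.smul_mul, Matrix.trace_smul, Matrix.mul_assoc, hinv, mul_one] at ht
  rw [Matrix.trace_mul_comm, Matrix.mul_assoc, ← Matrix.SpecialLinearGroup.coe_mul, inv_mul_cancel,
    Matrix.SpecialLinearGroup.coe_one] at ht
  simp only [mul_one, ut_coe] at ht
  simp [Matrix.trace_fin_three] at ht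
  have two : (2 : F) = 0 := CharTwo.two_eq_zero
  have hr1 : r = 1 := by linear_combination (1 - r) * two - ht
  rw [he, hr1, one_smul]

include W in
theorem exists_cube {x : F} (hx : x ≠ 0) : ∃ i < 3, W.ω ^ i = x := by
  obtain ⟨a, ha, rfl⟩ := W.el_surj x
  interval_cases a
  · exact absurd W.el_zero hx
  · exact ⟨0, by norm_num, by rw [pow_zero, W.el_one]⟩
  · exact ⟨1, by norm_num, by rw [pow_one, W.el_two]⟩
  · exact ⟨2, by norm_num, by rw [sq, W.el_three, W.ω_eq]⟩

/-- An upper triangular matrix is a unitriangular one times a power of the torus element. -/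
theorem triangular_eq (A : SL3) (h10 : A.1 1 0 = 0) (h20 : A.1 2 0 = 0) (h21 : A.1 2 1 = 0) :
    ∃ (a c b : F) (i : ℕ), i < 3 ∧ (A.1 0 0 = A.1 1 1 → i = 0) ∧ mkP A = up a c b * mkP (torus W) ^ i := by
  have hdet : A.1 0 0 * A.1 1 1 * A.1 2 2 = 1 := by
    have := A.2
    rw [Matrix.det_fin_three, h10, h20, h21] at this
    linear_combination this
  have n1 : A.1 1 1 ≠ 0 := fun e => by rw [e, mul_zero, zero_mul] at hdet; exact zero_ne_one hdet
  have n0 : A.1 0 0 ≠ 0 := fun e => by rw [e, zero_mul, zero_mul] at hdet; exact zero_ne_one hdet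
  have n2 : A.1 2 2 ≠ 0 := fun e => by rw [e, mul_zero] at hdet; exact zero_ne_one hdet
  obtain ⟨i, hi, hwi⟩ := exists_cube W (div_ne_zero n0 n1)
  have hp : ((torus W) ^ i).1 = !![W.ω ^ i, 0, 0; 0, 1, 0; 0, 0, (W.ω * W.ω) ^ i] := by
    rw [Matrix.SpecialLinearGroup.coe_pow]
    simp only [torus]
    interval_cases i <;> ext p q <;> fin_cases p <;> fin_cases q <;>
      simp [sq, Matrix.mul_apply, Fin.sum_univ_three]
  refine ⟨A.1 0 1 / A.1 1 1, A.1 1 2 / A.1 2 2, A.1 0 2 / A.1 2 2, i, hi, fun e => ?_, ?_⟩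
  · rw [e, div_self n1] at hwi
    interval_cases i
    · rfl
    · exact absurd ((pow_one W.ω).symm.trans hwi) W.ω_ne_one
    · exact absurd (by linear_combination W.ω_cube - W.ω * hwi : W.ω = 1) W.ω_ne_one
  · rw [up_apply, ← map_pow, ← map_mul]
    refine mk_of_smul W.card (r := A.1 1 1) (PSL34.cube W.card n1) ?_
    rw [Matrix.SpecialLinearGroup.coe_mul, hp, ut_coe]
    have e2 : (W.ω * W.ω) ^ i = A.1 2 2 / A.1 1 1 := by
      rw [mul_pow, hwi]
      have h3 := PSL34.cube W.card n0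
      field_simp
      linear_combination (A.1 2 2 * A.1 1 1) * h3 - (A.1 0 0 ^ 2) * hdet
    rw [e2, hwi]
    ext p q
    fin_cases p <;> fin_cases q <;> simp [Matrix.mul_apply, Fin.sum_univ_three, h10, h20, h21] <;>
      field_simp

/-- The centraliser of a non-trivial element over the centre. -/
theorem upper_of_comm (W : Gen F) {A : SL3} {b : F} (hb : b ≠ 0) (h : mkP A * up 0 0 b = up 0 0 b * mkP A) :
    ∃ a c d : F, mkP A = up a c d := by
  have e := conj_eq_of_mk W (show mkP A * up 0 0 b * (mkP A)⁻¹ = up 0 0 b by rw [h, mul_inv_cancel_right])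
  simp only [ut_coe] at e
  have f := fun p q => congrArg (fun M : Matrix (Fin 3) (Fin 3) F => M p q) e
  have f12 := f 1 2
  have f22 := f 2 2
  have f01 := f 0 1
  have f02 := f 0 2
  simp [Matrix.mul_apply, Fin.sum_univ_three, hb] at f12 f22 f01 f02
  have hdet := A.2
  rw [Matrix.det_fin_three, f12, f22, f01] at hdet
  obtain ⟨a, c, d, i, -, hi, he⟩ := triangular_eq W A f12 f22 f01
  refine ⟨a, c, d, ?_⟩
  have n0 : A.1 0 0 ≠ 0 := fun e => by rw [e] at hdet; simp at hdet
  have h3 := PSL34.cube W.card n0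
  have h11 : A.1 0 0 = A.1 1 1 := mul_left_cancel₀ (mul_ne_zero n0 n0) (by
    have h22 : A.1 2 2 = A.1 0 0 := mul_left_cancel₀ hb (by linear_combination -f02)
    rw [h22] at hdet
    linear_combination h3 - hdet)
  rw [he, hi h11, pow_zero, mul_one]

/-- The normaliser of the upper group. -/
theorem borel_of_norm (W : Gen F) {A : SL3}
    (h : ∀ a c b : F, ∃ a' c' b', mkP A * up a c b * (mkP A)⁻¹ = up a' c' b') :
    ∃ (a c b : F) (i : ℕ), i < 3 ∧ mkP A = up a c b * mkP (torus W) ^ i := by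
  obtain ⟨a₁, c₁, b₁, e₁⟩ := h 0 0 1
  obtain ⟨a₂, c₂, b₂, e₂⟩ := h 1 0 0
  obtain ⟨a₃, c₃, b₃, e₃⟩ := h 0 1 0
  have k₁ := conj_eq_of_mk W e₁
  have k₂ := conj_eq_of_mk W e₂
  have k₃ := conj_eq_of_mk W e₃
  simp only [ut_coe] at k₁ k₂ k₃
  have f₁ := fun p q => congrArg (fun M : Matrix (Fin 3) (Fin 3) F => M p q) k₁
  have f₂ := fun p q => congrArg (fun M : Matrix (Fin 3) (Fin 3) F => M p q) k₂
  have f₃ := fun p q => congrArg (fun M : Matrix (Fin 3) (Fin 3) F => M p q) k₃
  have a22 := f₁ 2 2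
  have a11 := f₁ 1 1
  have a12 := f₁ 1 2
  have b11 := f₂ 1 1
  have b12 := f₂ 1 2
  have c22 := f₃ 2 2
  simp [Matrix.mul_apply, Fin.sum_univ_three] at a22 a11 a12 b11 b12 c22
  have h10 : A.1 1 0 = 0 := by
    by_contra hne
    have hc₁ : c₁ ≠ 0 := fun e => hne (by rw [e] at a12; simpa using a12)
    have : A.1 2 1 = 0 := by simpa [hc₁] using a11
    exact hne (by rw [this] at b11; simpa using b11)
  obtain ⟨a, c, b, i, hi, -, he⟩ := triangular_eq W A h10 a22 c22
  exact ⟨a, c, b, i, hi, he⟩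

end CfsgLib.StdHe
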