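import Cfsg.Agent.Lib.StdHe.LCoord
import Cfsg.Agent.Lib.StdHe.LMatrix

/-!
Properties of the coordinates inside the cover.
-/

set_option autoImplicit false
set_option linter.unusedSectionVars false
set_option linter.style.haveILetI false

namespace CfsgLib.StdHe

open Matrix CfsgLib.PSLn CfsgLib.L34Cover Subgroup

universe u v

variable {F : Type v} [Field F] [Fintype F] {W : Gen F}
variable {X : Type u} [Group X] [Finite X] {π : X →* Matrix.ProjectiveSpecialLinearGroup (Fin 3) F}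

theorem up_zero : up (0 : F) 0 0 = 1 := by
  have := up_mul (0 : F) 0 0 0 0 0
  simp only [add_zero, mul_zero] at this
  exact mul_left_cancel (this.trans (mul_one _).symm)

theorem fm_two_eq : ∀ a < 4, fm 2 a < 4 ∧ fm 3 a < 4 := by decide

namespace Elts

variable (D : Elts W π)

theorem parts_central {a : ℕ} (ha : a < 4) : cA a = a ∧ cB a = 0 ∧ cL a = 0 ∧ cN a = 0 := by
  unfold cA cB cL cN; omega

theorem τ_ker {a : ℕ} (ha : a < 4) : D.τ a ∈ π.ker := by rw [D.τ_a ha]; exact D.ψ_ker _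

theorem exists_τ {x : X} (hx : x ∈ T (π := π)) : ∃ k < 256, x = D.τ k := by
  obtain ⟨z, hz, k, -, -, rfl⟩ := D.exists_ker_τ hx
  obtain ⟨a, ha, rfl⟩ := D.ψ_surj hz
  exact ⟨tmul a k, tmul_lt _ _, by rw [← D.τ_a ha, D.τ_mul]⟩

theorem exists_τ_of_up {x : X} {a c b : F} (h : π x = up a c b) : ∃ k < 256, x = D.τ k :=
  D.exists_τ (mem_T.2 ⟨a, c, b, h⟩)

theorem ψ_el_inj {a b : ℕ} (ha : a < 4) (hb : b < 4) (h : D.ψ (W.el a) = D.ψ (W.el b)) : a = b := by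
  let g : Fin 4 → π.ker := fun a => ⟨D.ψ (W.el a), D.ψ_ker _⟩
  have hs : Function.Surjective g := fun z => by
    obtain ⟨a, ha, e⟩ := D.ψ_surj z.2
    exact ⟨⟨a, ha⟩, Subtype.ext e⟩
  have hi := ((Nat.bijective_iff_surjective_and_card g).2 ⟨hs, by rw [Nat.card_fin, D.cover.card_ker]⟩).1
  exact congrArg Fin.val (hi (a₁ := ⟨a, ha⟩) (a₂ := ⟨b, hb⟩) (Subtype.ext h))

theorem τ_inj {x y : ℕ} (hx : x < 256) (hy : y < 256) (h : D.τ x = D.τ y) : x = y := by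
  have hp := congrArg π h
  rw [D.π_τ, D.π_τ] at hp
  obtain ⟨h1, h2, h3⟩ := up_inj hp
  have el := W.el_inj (cL_lt _) (cL_lt _) h1
  have en := W.el_inj (cN_lt _) (cN_lt _) h2
  rw [h1, h2] at h3
  have eb := W.el_inj (cB_lt _) (cB_lt _) (add_right_cancel h3)
  have ea : cA x = cA y := by
    refine D.ψ_el_inj (cA_lt _) (cA_lt _) ?_
    rw [τ, τ, el, en, eb] at h
    exact mul_right_cancel (mul_right_cancel h)
  rw [← tc_self hx, ← tc_self hy, ea, eb, el, en]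

include D in
theorem center_eq : Subgroup.center X = π.ker := by
  refine le_antisymm (fun g hg => ?_) D.cover.setup.kerc
  have hc := mem_center_iff.1 hg
  have hπ : ∀ y : X, π g * π y = π y * π g := fun y => by rw [← map_mul, ← map_mul, hc y]
  obtain ⟨q, hq⟩ := D.cover.setup.surj (up 0 0 1)
  obtain ⟨A, hA⟩ := QuotientGroup.mk'_surjective (Subgroup.center (Matrix.SpecialLinearGroup (Fin 3) F)) (π g)
  obtain ⟨a, c, d, e⟩ := upper_of_comm W one_ne_zero (A := A) (by rw [hA, ← hq]; exact hπ q)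
  rw [hA] at e
  obtain ⟨q₁, hq₁⟩ := D.cover.setup.surj (up 1 0 0)
  obtain ⟨q₂, hq₂⟩ := D.cover.setup.surj (up 0 1 0)
  have e₁ := hπ q₁
  rw [hq₁, e, up_mul, up_mul] at e₁
  have hc0 : c = 0 := by simpa using (up_inj e₁).2.2
  have e₂ := hπ q₂
  rw [hq₂, e, up_mul, up_mul] at e₂
  have ha0 : a = 0 := by simpa using (up_inj e₂).2.2
  subst hc0 ha0
  have e₃ := hπ D.w₁
  rw [e, D.π_w₁] at e₃
  have e₄ := weyl₁_up W 0 d
  rw [← e₃, mul_inv_cancel_right] at e₄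
  obtain ⟨h1, -, -⟩ := up_inj e₄
  rw [MonoidHom.mem_ker, e, ← h1, up_zero]

theorem centr_T {l : X} {x : ℕ} (hx : x < 16) (hx4 : 4 ≤ x) (h : Commute l (D.τ x)) : ∃ y < 256, D.τ y = l := by
  obtain ⟨A, hA⟩ := QuotientGroup.mk'_surjective (Subgroup.center (Matrix.SpecialLinearGroup (Fin 3) F)) (π l)
  have hb : W.el (cB x) ≠ 0 := fun e => by
    have := W.el_eq_zero (cB_lt _) e
    unfold cB at this; omega
  have hl : cL x = 0 := by unfold cL; omega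
  have hn : cN x = 0 := by unfold cN; omega
  have hπ := congrArg π h.eq
  rw [map_mul, map_mul, D.π_τ, hl, hn, W.el_zero, mul_zero, add_zero, ← hA] at hπ
  obtain ⟨a, c, d, e⟩ := upper_of_comm W hb hπ
  obtain ⟨k, hk, e'⟩ := D.exists_τ_of_up (hA.symm.trans e)
  exact ⟨k, hk, e'.symm⟩

theorem norm_T {l : X} (h : ∀ x < 256, ∃ y < 256, l * D.τ x * l⁻¹ = D.τ y) :
    ∃ x < 256, ∃ i < 3, l = D.τ x * D.η ^ i := by
  obtain ⟨A, hA⟩ := QuotientGroup.mk'_surjective (Subgroup.center (Matrix.SpecialLinearGroup (Fin 3) F)) (π l)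
  obtain ⟨a, c, b, i, hi, e⟩ := borel_of_norm W (A := A) fun a c b => by
    obtain ⟨p, hp⟩ := D.cover.setup.surj (up a c b)
    obtain ⟨x, hx, rfl⟩ := D.exists_τ_of_up hp
    obtain ⟨y, -, hy⟩ := h x hx
    have := congrArg π hy
    rw [map_mul, map_mul, map_inv, hp, ← hA, D.π_τ y] at this
    exact ⟨_, _, _, this⟩
  rw [hA] at e
  obtain ⟨k, hk, e'⟩ := D.exists_τ_of_up (x := l * (D.η ^ i)⁻¹)
    (by rw [map_mul, map_inv, map_pow, D.π_η, e, mul_inv_cancel_right])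
  exact ⟨k, hk, i, hi, by rw [← e', inv_mul_cancel_right]⟩

theorem inv_conj_T {l : X} (h : l * l = 1) : ∃ c : X, ∃ x < 16, c * l * c⁻¹ = D.τ x := by
  by_cases h1 : π l = 1
  · obtain ⟨a, ha, e⟩ := D.ψ_surj (MonoidHom.mem_ker.2 h1)
    exact ⟨1, a, by omega, by rw [D.τ_a ha, e, one_mul, inv_one, mul_one]⟩
  obtain ⟨y, hy⟩ := D.exists_conj_up (x := l) (by rw [← map_mul, h, map_one]) h1
  obtain ⟨k, hk, e⟩ := D.exists_τ_of_up hy
  refine ⟨y⁻¹, k, ?_, by rw [inv_inv, e]⟩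
  rw [e, D.π_τ] at hy
  obtain ⟨h1, h2, -⟩ := up_inj hy
  have el : cL k = 0 := W.el_eq_zero (cL_lt _) h1
  have en : cN k = 0 := W.el_eq_zero (cN_lt _) h2
  unfold cL cN at *
  omega

theorem η_τ (x : ℕ) : D.η * D.τ x * D.η⁻¹ = D.τ (tEta x) := by
  obtain ⟨a, b, l, n⟩ := parts_tEta x
  have h3 : W.el 3 = W.ω * W.ω := by rw [W.el_three, W.ω_eq]
  rw [τ, τ, a, b, l, n, W.el_mul (by norm_num) (cB_lt _), W.el_mul (by norm_num) (cL_lt _),
    W.el_mul (by norm_num) (cN_lt _), W.el_two, h3]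
  generalize hA : D.ψ (W.el (cA x)) = A
  have hc : Commute D.η A := hA ▸ D.ker_central (D.ψ_ker _) D.η
  generalize W.el (cB x) = b
  generalize W.el (cL x) = l
  generalize W.el (cN x) = n
  have h : D.η * (A * D.u b * (D.e l * D.f n)) * D.η⁻¹ =
      A * (D.η * D.u b * D.η⁻¹) * (D.η * D.e l * D.η⁻¹ * (D.η * D.f n * D.η⁻¹)) := by
    rw [← mul_assoc D.η (A * D.u b), ← mul_assoc D.η A, hc.eq]
    group
  rw [h, u, u, e, e, f, f, D.η_sec, D.η_sec, D.η_sec]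
  simp

theorem w₁_τ (x : ℕ) (hx : cN x = 0) : D.w₁ * D.τ x * D.w₁⁻¹ = D.τ (tW1 x) := by
  obtain ⟨a, b, l, n⟩ := tc_parts (cA_lt x) (cL_lt x) (cB_lt x) (show (0 : ℕ) < 4 by norm_num)
  rw [τ, τ, tW1, a, b, l, n, hx]
  generalize hA : D.ψ (W.el (cA x)) = A
  have hc : Commute D.w₁ A := hA ▸ D.ker_central (D.ψ_ker _) D.w₁
  have hf : D.f (W.el 0) = 1 := by
    rw [W.el_zero]
    exact mul_left_cancel (((D.f_add 0 0).symm.trans (by rw [add_zero])).trans (mul_one _).symm)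
  have hs : ∀ p q : F, D.u p * (D.e q * 1) = D.sec q 0 p := fun p q => by
    rw [mul_one, u, e, ← D.sec_add₁, zero_add, add_zero]
  rw [hf, mul_assoc A, mul_assoc A, hs, hs, ← mul_assoc D.w₁ A, hc.eq, mul_assoc A, mul_assoc A, D.w₁_sec]

theorem w₂_τ (x : ℕ) (hx : cL x = 0) : D.w₂ * D.τ x * D.w₂⁻¹ = D.τ (tW2 x) := by
  obtain ⟨a, b, l, n⟩ := tc_parts (cA_lt x) (cN_lt x) (show (0 : ℕ) < 4 by norm_num) (cB_lt x)
  rw [τ, τ, tW2, a, b, l, n, hx]
  generalize hA : D.ψ (W.el (cA x)) = A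
  have hc : Commute D.w₂ A := hA ▸ D.ker_central (D.ψ_ker _) D.w₂
  have he : D.e (W.el 0) = 1 := by
    rw [W.el_zero]
    exact mul_left_cancel (((D.e_add 0 0).symm.trans (by rw [add_zero])).trans (mul_one _).symm)
  have hs : ∀ p q : F, D.u p * (1 * D.f q) = D.sec 0 q p := fun p q => by
    rw [one_mul, u, f, ← D.sec_add₂, zero_add, add_zero]
  rw [he, mul_assoc A, mul_assoc A, hs, hs, ← mul_assoc D.w₂ A, hc.eq, mul_assoc A, mul_assoc A, D.w₂_sec]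

theorem braid : (D.w₁ * D.τ 64) ^ 3 ∈ π.ker ∧ (D.w₂ * D.τ 16) ^ 3 ∈ π.ker := by
  have h64 : cL 64 = 0 ∧ cN 64 = 1 ∧ cB 64 = 0 := by unfold cL cN cB; omega
  have h16 : cL 16 = 1 ∧ cN 16 = 0 ∧ cB 16 = 0 := by unfold cL cN cB; omega
  constructor
  · rw [MonoidHom.mem_ker, map_pow, map_mul, D.π_w₁, D.π_τ, h64.1, h64.2.1, h64.2.2, W.el_zero, W.el_one,
      zero_add, zero_mul]
    exact (weyl_braid W).1
  · rw [MonoidHom.mem_ker, map_pow, map_mul, D.π_w₂, D.π_τ, h16.1, h16.2.1, h16.2.2, W.el_zero, W.el_one,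
      zero_add, one_mul]
    exact (weyl_braid W).2

theorem weyl_xx :
    (∀ a : F, (weyl₁ W).1 * (xx (0 : Fin 3) 1 (by decide) a).1 = (xx (0 : Fin 3) 2 (by decide) a).1 * (weyl₁ W).1) ∧
    (∀ a : F, (weyl₁ W).1 * (xx (1 : Fin 3) 2 (by decide) a).1 = (xx (2 : Fin 3) 1 (by decide) a).1 * (weyl₁ W).1) ∧
    (∀ a : F, (weyl₂ W).1 * (xx (0 : Fin 3) 1 (by decide) a).1 = (xx (1 : Fin 3) 0 (by decide) a).1 * (weyl₂ W).1) ∧
    (∀ a : F, (weyl₂ W).1 * (xx (2 : Fin 3) 1 (by decide) a).1 = (xx (2 : Fin 3) 0 (by decide) a).1 * (weyl₂ W).1) := by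
  refine ⟨fun a => ?_, fun a => ?_, fun a => ?_, fun a => ?_⟩ <;>
  · simp only [weyl₁, weyl₂, coe_xx]
    ext i j
    fin_cases i <;> fin_cases j <;> simp [Matrix.mul_apply, Fin.sum_univ_three, Matrix.one_apply, Matrix.single_apply]

theorem gen_T : Subgroup.closure ({g | ∃ x < 256, D.τ x = g} ∪ {D.w₁, D.w₂}) = ⊤ := by
  set H := Subgroup.closure ({g | ∃ x < 256, D.τ x = g} ∪ {D.w₁, D.w₂}) with hH
  have hτ : ∀ x < 256, D.τ x ∈ H := fun x hx => subset_closure (.inl ⟨x, hx, rfl⟩)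
  have hw₁ : D.w₁ ∈ H := subset_closure (.inr (.inl rfl))
  have hw₂ : D.w₂ ∈ H := subset_closure (.inr (.inr rfl))
  let M := (H.map π).comap (QuotientGroup.mk' (Subgroup.center (Matrix.SpecialLinearGroup (Fin 3) F)))
  have hu : ∀ (a c b : F) (A : Matrix.SpecialLinearGroup (Fin 3) F), A.1 = (ut a c b).1.1 → A ∈ M := by
    intro a c b A hA
    obtain ⟨p, hp⟩ := D.cover.setup.surj (up a c b)
    obtain ⟨k, hk, rfl⟩ := D.exists_τ_of_up hp
    exact ⟨_, hτ k hk, by rw [hp, Subtype.ext hA]; rfl⟩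
  have hm₁ : weyl₁ W ∈ M := ⟨_, hw₁, D.π_w₁⟩
  have hm₂ : weyl₂ W ∈ M := ⟨_, hw₂, D.π_w₂⟩
  have hconj : ∀ {k A B : Matrix.SpecialLinearGroup (Fin 3) F}, k ∈ M → A ∈ M → k.1 * A.1 = B.1 * k.1 → B ∈ M := by
    intro k A B hk hA h
    have : k * A = B * k := Subtype.ext h
    rw [show B = k * A * k⁻¹ by rw [this, mul_inv_cancel_right]]
    exact mul_mem (mul_mem hk hA) (inv_mem hk)
  obtain ⟨q1, q2, q3, q4⟩ := weyl_xx (W := W)
  have h01 : ∀ a : F, xx (0 : Fin 3) 1 (by decide) a ∈ M := fun a => hu a 0 0 _ (by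
    rw [coe_xx, ut_coe]; ext i j; fin_cases i <;> fin_cases j <;> simp [Matrix.single_apply])
  have h12 : ∀ a : F, xx (1 : Fin 3) 2 (by decide) a ∈ M := fun a => hu 0 a 0 _ (by
    rw [coe_xx, ut_coe]; ext i j; fin_cases i <;> fin_cases j <;> simp [Matrix.single_apply])
  have h21 : ∀ a : F, xx (2 : Fin 3) 1 (by decide) a ∈ M := fun a => hconj hm₁ (h12 a) (q2 a)
  have hall : ∀ i j hij a, xx i j hij a ∈ M := by
    intro i j hij a
    fin_cases i <;> fin_cases j <;> try exact absurd rfl hij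
    · exact h01 a
    · exact hconj hm₁ (h01 a) (q1 a)
    · exact hconj hm₂ (h01 a) (q3 a)
    · exact h12 a
    · exact hconj hm₂ (h21 a) (q4 a)
    · exact h21 a
  have hM : M = ⊤ := SLGen.eq_top_of_xx (by norm_num) hall
  have hker : π.ker ≤ H := fun z hz => by
    obtain ⟨a, ha, rfl⟩ := D.ψ_surj hz
    rw [← D.τ_a ha]
    exact hτ a (by omega)
  have htop : H.map π = ⊤ := by
    rw [eq_top_iff]
    intro p _
    obtain ⟨A, rfl⟩ := QuotientGroup.mk'_surjective (Subgroup.center (Matrix.SpecialLinearGroup (Fin 3) F)) p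
    exact (show A ∈ M by rw [hM]; trivial)
  rw [eq_top_iff, ← Subgroup.comap_map_eq_self hker, htop, comap_top]

end Elts

end CfsgLib.StdHe
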