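import Cfsg.Agent.Lib.StdHe.LFacts

/-!
A quasisimple subgroup of type `2².L₃(4)` has coordinates.
-/

set_option autoImplicit false
set_option linter.unusedSectionVars false
set_option linter.style.haveILetI false

namespace CfsgLib.StdHe

open Matrix CfsgLib.PSLn CfsgLib.L34Cover Subgroup

universe u v

theorem exists_elts {X : Type u} [Group X] [Finite X] {F : Type v} [Field F] [Fintype F]
    {π : X →* Matrix.ProjectiveSpecialLinearGroup (Fin 3) F} (W : Gen F) (C : Cover π) :
    ∃ D : Elts W π, (D.w₁ * D.τ 64) ^ 3 = 1 ∧ (D.w₂ * D.τ 16) ^ 3 = 1 := by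
  obtain ⟨D⟩ := exists_elts₀ W C
  obtain ⟨h₁, h₂⟩ := D.braid
  let D' : Elts W π :=
    { D with
      w₁ := D.w₁ * (D.w₁ * D.τ 64) ^ 3
      π_w₁ := by rw [map_mul, MonoidHom.mem_ker.1 h₁, mul_one, D.π_w₁]
      w₂ := D.w₂ * (D.w₂ * D.τ 16) ^ 3
      π_w₂ := by rw [map_mul, MonoidHom.mem_ker.1 h₂, mul_one, D.π_w₂] }
  have key : ∀ (w t z : X), z ∈ π.ker → z = (w * t) ^ 3 → (w * z * t) ^ 3 = 1 := fun w t z hz e => by
    have hc : ∀ g, Commute g z := D.ker_central hz
    rw [mul_assoc, (hc t).eq.symm, ← mul_assoc, (hc (w * t)).mul_pow, ← e, pow_three, ← mul_assoc z z z]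
    rw [D.cover.setup.kersq z hz, one_mul, D.cover.setup.kersq z hz]
  have hτ : ∀ x, D'.τ x = D.τ x := fun x => rfl
  exact ⟨D', key D.w₁ _ _ h₁ rfl, key D.w₂ _ _ h₂ rfl⟩

theorem mem_centralizer_iff_center {G : Type u} [Group G] {L : Subgroup G} {g : L} :
    (g : G) ∈ Subgroup.centralizer (L : Set G) ↔ g ∈ Subgroup.center L := by
  rw [Subgroup.mem_centralizer_iff, Subgroup.mem_center_iff]
  constructor
  · intro h l; exact Subtype.ext (h l l.2)
  · intro h l hl; exact congrArg Subtype.val (h ⟨l, hl⟩)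

theorem exists_coord {G : Type u} [Group G] [Finite G] {L : Subgroup G} (hp : commutator L = ⊤)
    {F : Type v} [Field F] [Fintype F] (hF : Fintype.card F = 4) (hK : IsKleinFour (Subgroup.center L))
    (e : L ⧸ Subgroup.center L ≃* Matrix.ProjectiveSpecialLinearGroup (Fin 3) F) : Nonempty (Coord L) := by
  obtain ⟨W⟩ := exists_gen hF
  let π : L →* Matrix.ProjectiveSpecialLinearGroup (Fin 3) F :=
    e.toMonoidHom.comp (QuotientGroup.mk' (Subgroup.center L))
  have hker : π.ker = Subgroup.center L := by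
    ext g
    rw [MonoidHom.mem_ker]
    show e (QuotientGroup.mk g) = 1 ↔ _
    rw [← e.map_one, e.injective.eq_iff, QuotientGroup.eq_one_iff]
  have C : Cover π := by
    refine ⟨⟨fun p => ?_, hker.le, fun z hz => ?_⟩, ?_, hp⟩
    · obtain ⟨q, rfl⟩ := e.surjective p
      obtain ⟨g, rfl⟩ := QuotientGroup.mk'_surjective _ q
      exact ⟨g, rfl⟩
    · have := IsKleinFour.mul_self (⟨z, hker ▸ hz⟩ : Subgroup.center L)
      exact congrArg Subtype.val this
    · rw [hker]; exact IsKleinFour.card_four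
  obtain ⟨D, hb₁, hb₂⟩ := exists_elts W C
  have hcent : ∀ g : L, (g : G) ∈ Subgroup.centralizer (L : Set G) ↔ g ∈ π.ker := fun g => by
    rw [mem_centralizer_iff_center, hker]
  exact ⟨
    { τ := fun x => (D.τ x : G)
      η := D.η
      w₁ := D.w₁
      w₂ := D.w₂
      mem := fun x => (D.τ x).2
      mul := fun x y => congrArg Subtype.val (D.τ_mul x y)
      inj := fun x hx y hy h => D.τ_inj hx hy (Subtype.ext h)
      center_iff := fun g hg => by
        rw [show g = ((⟨g, hg⟩ : L) : G) from rfl, hcent]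
        constructor
        · intro h
          obtain ⟨a, ha, he⟩ := D.ψ_surj h
          exact ⟨a, ha, congrArg Subtype.val ((D.τ_a ha).trans he)⟩
        · rintro ⟨a, ha, he⟩
          exact (show D.τ a = ⟨g, hg⟩ from Subtype.ext he) ▸ D.τ_ker ha
      η_mem := D.η.2
      η_three := congrArg Subtype.val D.η_three
      η_conj := fun x => congrArg Subtype.val (D.η_τ x)
      w₁_mem := D.w₁.2
      w₁_sq := congrArg Subtype.val D.w_sq.1
      w₁_η := congrArg Subtype.val (D.w_η _ _ (.inl rfl) D.π_w₁)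
      w₁_conj := fun x hx => congrArg Subtype.val (D.w₁_τ x hx)
      w₁_braid := congrArg Subtype.val hb₁
      w₂_mem := D.w₂.2
      w₂_sq := congrArg Subtype.val D.w_sq.2
      w₂_η := congrArg Subtype.val (D.w_η _ _ (.inr rfl) D.π_w₂)
      w₂_conj := fun x hx => congrArg Subtype.val (D.w₂_τ x hx)
      w₂_braid := congrArg Subtype.val hb₂
      gen := fun g hg => by
        have h : (⟨g, hg⟩ : L) ∈ Subgroup.closure ({g | ∃ x < 256, D.τ x = g} ∪ {D.w₁, D.w₂}) := by
          rw [D.gen_T]; trivial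
        refine (closure_le (K := (Subgroup.closure _).comap L.subtype)).2 ?_ h
        rintro y (⟨x, hx, rfl⟩ | rfl | rfl)
        · exact subset_closure (.inl ⟨x, hx, rfl⟩)
        · exact subset_closure (.inr (.inl rfl))
        · exact subset_closure (.inr (.inr rfl))
      card := C.card (W := W)
      perfect := hp
      centr := fun l hl x hx hx4 h => by
        obtain ⟨y, hy, he⟩ := D.centr_T (l := ⟨l, hl⟩) hx hx4 (Subtype.ext h.eq)
        exact ⟨y, hy, congrArg Subtype.val he⟩
      norm := fun l hl h => by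
        obtain ⟨x, hx, i, hi, he⟩ := D.norm_T (l := ⟨l, hl⟩) fun x hx => by
          obtain ⟨y, hy, he⟩ := h x hx
          exact ⟨y, hy, Subtype.ext he⟩
        exact ⟨x, hx, i, hi, congrArg Subtype.val he⟩
      sq_center := fun l hl h => congrArg Subtype.val (D.sq_one_of_invol (x := ⟨l, hl⟩) (by
        rw [← map_mul, MonoidHom.mem_ker.1 ((hcent (⟨l, hl⟩ * ⟨l, hl⟩)).1 h)]))
      inv_conj := fun l hl h => by
        obtain ⟨c, x, hx, he⟩ := D.inv_conj_T (l := ⟨l, hl⟩) (Subtype.ext h)
        exact ⟨c, c.2, x, hx, congrArg Subtype.val he⟩ }⟩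

end CfsgLib.StdHe
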