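import Cfsg.Agent.Lib.StdHe.Field

/-!
Codes for a Sylow subgroup of `2².L₃(4)`: `a + 4 b + 16 l + 64 n` stands for `ψ(a) u(b) e(l) e'(n)`.
-/

set_option autoImplicit false

namespace CfsgLib.StdHe

/-- The central part. -/
def cA (x : ℕ) : ℕ := x % 4

/-- The part in the commutator of the root element. -/
def cB (x : ℕ) : ℕ := x / 4 % 4

/-- The first root part. -/
def cL (x : ℕ) : ℕ := x / 16 % 4

/-- The second root part. -/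
def cN (x : ℕ) : ℕ := x / 64 % 4

/-- The code of four parts. -/
def tc (a b l n : ℕ) : ℕ := a + 4 * b + 16 * l + 64 * n

/-- The product. -/
def tmul (x y : ℕ) : ℕ :=
  tc (cA x ^^^ cA y ^^^ fm (cL y) (fq (cN x))) (cB x ^^^ cB y ^^^ fm (cL y) (cN x)) (cL x ^^^ cL y) (cN x ^^^ cN y)

/-- The action of the torus element. -/
def tEta (x : ℕ) : ℕ := tc (cA x) (fm 3 (cB x)) (fm 2 (cL x)) (fm 2 (cN x))

/-- The action of the first Weyl element on the first elementary subgroup. -/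
def tW1 (x : ℕ) : ℕ := tc (cA x) (cL x) (cB x) 0

/-- The action of the second Weyl element on the second elementary subgroup. -/
def tW2 (x : ℕ) : ℕ := tc (cA x) (cN x) 0 (cB x)

/-- The symmetry exchanging the two root parts. -/
def tMir (x : ℕ) : ℕ :=
  tc (fq (cA x) ^^^ fm (cN x) (fq (cL x))) (cB x ^^^ fm (cL x) (cN x)) (cN x) (cL x)

theorem cA_lt (x : ℕ) : cA x < 4 := Nat.mod_lt _ (by norm_num)

theorem cB_lt (x : ℕ) : cB x < 4 := Nat.mod_lt _ (by norm_num)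

theorem cL_lt (x : ℕ) : cL x < 4 := Nat.mod_lt _ (by norm_num)

theorem cN_lt (x : ℕ) : cN x < 4 := Nat.mod_lt _ (by norm_num)

theorem tc_lt {a b l n : ℕ} (ha : a < 4) (hb : b < 4) (hl : l < 4) (hn : n < 4) : tc a b l n < 256 := by
  unfold tc; omega

theorem tc_parts {a b l n : ℕ} (ha : a < 4) (hb : b < 4) (hl : l < 4) (hn : n < 4) :
    cA (tc a b l n) = a ∧ cB (tc a b l n) = b ∧ cL (tc a b l n) = l ∧ cN (tc a b l n) = n := by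
  unfold cA cB cL cN tc; omega

theorem tc_self {x : ℕ} (hx : x < 256) : tc (cA x) (cB x) (cL x) (cN x) = x := by
  unfold cA cB cL cN tc; omega

theorem tmul_lt (x y : ℕ) : tmul x y < 256 := by
  refine tc_lt ?_ ?_ (xor_lt_four _ (cL_lt _) _ (cL_lt _)) (xor_lt_four _ (cN_lt _) _ (cN_lt _))
  · exact xor_lt_four _ (xor_lt_four _ (cA_lt _) _ (cA_lt _)) _ (fm_lt _ (cL_lt _) _ (fq_lt (cN_lt _)))
  · exact xor_lt_four _ (xor_lt_four _ (cB_lt _) _ (cB_lt _)) _ (fm_lt _ (cL_lt _) _ (cN_lt _))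

theorem tEta_lt (x : ℕ) : tEta x < 256 :=
  tc_lt (cA_lt _) (fm_lt _ (by norm_num) _ (cB_lt _)) (fm_lt _ (by norm_num) _ (cL_lt _))
    (fm_lt _ (by norm_num) _ (cN_lt _))

theorem fq_xor : ∀ a < 4, ∀ b < 4, fq (a ^^^ b) = fq a ^^^ fq b := by decide

theorem fm_xor : ∀ a < 4, ∀ b < 4, ∀ c < 4, fm a (b ^^^ c) = fm a b ^^^ fm a c := by decide

theorem mir_cross : ∀ l₁ < 4, ∀ l₂ < 4, ∀ n₁ < 4, ∀ n₂ < 4,
    fq (fm l₂ (fq n₁)) ^^^ fm (n₁ ^^^ n₂) (fq (l₁ ^^^ l₂)) =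
      fm n₁ (fq l₁) ^^^ fm n₂ (fq l₂) ^^^ fm n₂ (fq l₁) ∧
    fm l₂ n₁ ^^^ fm (l₁ ^^^ l₂) (n₁ ^^^ n₂) = fm l₁ n₁ ^^^ fm l₂ n₂ ^^^ fm n₂ l₁ := by decide +kernel

theorem eta_cross : ∀ l < 4, ∀ n < 4, fm (fm 2 l) (fq (fm 2 n)) = fm l (fq n) ∧
    fm (fm 2 l) (fm 2 n) = fm 3 (fm l n) := by decide

theorem parts_tmul (x y : ℕ) :
    cA (tmul x y) = cA x ^^^ cA y ^^^ fm (cL y) (fq (cN x)) ∧ cB (tmul x y) = cB x ^^^ cB y ^^^ fm (cL y) (cN x) ∧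
      cL (tmul x y) = cL x ^^^ cL y ∧ cN (tmul x y) = cN x ^^^ cN y :=
  tc_parts (xor_lt_four _ (xor_lt_four _ (cA_lt _) _ (cA_lt _)) _ (fm_lt _ (cL_lt _) _ (fq_lt (cN_lt _))))
    (xor_lt_four _ (xor_lt_four _ (cB_lt _) _ (cB_lt _)) _ (fm_lt _ (cL_lt _) _ (cN_lt _)))
    (xor_lt_four _ (cL_lt _) _ (cL_lt _)) (xor_lt_four _ (cN_lt _) _ (cN_lt _))

theorem parts_tMir (x : ℕ) :
    cA (tMir x) = fq (cA x) ^^^ fm (cN x) (fq (cL x)) ∧ cB (tMir x) = cB x ^^^ fm (cL x) (cN x) ∧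
      cL (tMir x) = cN x ∧ cN (tMir x) = cL x :=
  tc_parts (xor_lt_four _ (fq_lt (cA_lt _)) _ (fm_lt _ (cN_lt _) _ (fq_lt (cL_lt _))))
    (xor_lt_four _ (cB_lt _) _ (fm_lt _ (cL_lt _) _ (cN_lt _))) (cN_lt _) (cL_lt _)

theorem parts_tEta (x : ℕ) :
    cA (tEta x) = cA x ∧ cB (tEta x) = fm 3 (cB x) ∧ cL (tEta x) = fm 2 (cL x) ∧ cN (tEta x) = fm 2 (cN x) :=
  tc_parts (cA_lt _) (fm_lt _ (by norm_num) _ (cB_lt _)) (fm_lt _ (by norm_num) _ (cL_lt _))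
    (fm_lt _ (by norm_num) _ (cN_lt _))

theorem tMir_hom (x y : ℕ) : tMir (tmul x y) = tmul (tMir x) (tMir y) := by
  obtain ⟨a, b, l, n⟩ := parts_tmul x y
  obtain ⟨a₁, b₁, l₁, n₁⟩ := parts_tMir x
  obtain ⟨a₂, b₂, l₂, n₂⟩ := parts_tMir y
  obtain ⟨h, h'⟩ := mir_cross _ (cL_lt x) _ (cL_lt y) _ (cN_lt x) _ (cN_lt y)
  have hfm := fm_lt _ (cL_lt y) _ (fq_lt (cN_lt x))
  have e : fq (cA (tmul x y)) = fq (cA x) ^^^ fq (cA y) ^^^ fq (fm (cL y) (fq (cN x))) := by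
    rw [a, fq_xor _ (xor_lt_four _ (cA_lt _) _ (cA_lt _)) _ hfm, fq_xor _ (cA_lt _) _ (cA_lt _)]
  show tc _ _ _ _ = tc _ _ _ _
  rw [e, b, l, n, a₁, a₂, b₁, b₂, l₁, l₂, n₁, n₂]
  congr 1
  · calc _ = fq (cA x) ^^^ fq (cA y) ^^^
          (fq (fm (cL y) (fq (cN x))) ^^^ fm (cN x ^^^ cN y) (fq (cL x ^^^ cL y))) := Nat.xor_assoc ..
      _ = _ := by rw [h]; ac_rfl
  · calc _ = cB x ^^^ cB y ^^^ (fm (cL y) (cN x) ^^^ fm (cL x ^^^ cL y) (cN x ^^^ cN y)) := Nat.xor_assoc ..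
      _ = _ := by rw [h']; ac_rfl

theorem tEta_hom (x y : ℕ) : tEta (tmul x y) = tmul (tEta x) (tEta y) := by
  obtain ⟨a, b, l, n⟩ := parts_tmul x y
  obtain ⟨a₁, b₁, l₁, n₁⟩ := parts_tEta x
  obtain ⟨a₂, b₂, l₂, n₂⟩ := parts_tEta y
  obtain ⟨h, h'⟩ := eta_cross _ (cL_lt y) _ (cN_lt x)
  show tc _ _ _ _ = tc _ _ _ _
  rw [a, b, l, n, a₁, a₂, b₁, b₂, l₁, l₂, n₁, n₂, h, h', fm_xor 2 (by norm_num) _ (cL_lt _) _ (cL_lt _),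
    fm_xor 2 (by norm_num) _ (cN_lt _) _ (cN_lt _),
    fm_xor 3 (by norm_num) _ (xor_lt_four _ (cB_lt _) _ (cB_lt _)) _ (fm_lt _ (cL_lt _) _ (cN_lt _)),
    fm_xor 3 (by norm_num) _ (cB_lt _) _ (cB_lt _)]

/-- The inverse. -/
def tinv (x : ℕ) : ℕ := tc (cA x ^^^ fm (cL x) (fq (cN x))) (cB x ^^^ fm (cL x) (cN x)) (cL x) (cN x)

theorem tMir_spec : ∀ x < 256, tMir x < 256 ∧ tMir (tMir x) = x ∧ tMir (tEta x) = tEta (tMir x) ∧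
    (cN x = 0 → cL (tMir x) = 0 ∧ tMir (tW1 x) = tW2 (tMir x)) := by decide +kernel

theorem tmul_group : ∀ x < 256, tmul 0 x = x ∧ tmul x 0 = x ∧ tinv x < 256 ∧ tmul x (tinv x) = 0 ∧
    tmul (tinv x) x = 0 := by
  decide +kernel

end CfsgLib.StdHe
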