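import Cfsg.Agent.Lib.L34Cover.Main
import Cfsg.Agent.Lib.StdHe.TModel
import Cfsg.Agent.Lib.SLCard
import Mathlib.GroupTheory.Transfer

/-!
Root elements in the cover `2².L₃(4)`.
-/

set_option autoImplicit false
set_option linter.unusedSectionVars false
set_option linter.style.haveILetI false

namespace CfsgLib.StdHe

open Matrix CfsgLib.PSLn CfsgLib.L34Cover Subgroup

universe u v

variable {F : Type v} [Field F] [Fintype F]

local notation "SL3" => Matrix.SpecialLinearGroup (Fin 3) F
local notation "PSL3" => Matrix.ProjectiveSpecialLinearGroup (Fin 3) F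
local notation "mkP" => QuotientGroup.mk' (Subgroup.center (Matrix.SpecialLinearGroup (Fin 3) F))

/-- The image of a unitriangular matrix. -/
noncomputable def up (a c b : F) : PSL3 := upperHom F 3 (ut a c b)

theorem up_eq (a c b : F) : up a c b = mkP (ut a c b).1 := rfl

theorem up_mul (a c b a' c' b' : F) : up a c b * up a' c' b' = up (a + a') (c + c') (b + b' + a * c') := by
  rw [up, up, up, ← map_mul]
  refine congrArg _ (ext_entries _ _ ?_ ?_ ?_)
  · rw [(mul_entries _ _).1, (ut_entries _ _ _).1, (ut_entries _ _ _).1, (ut_entries _ _ _).1]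
  · rw [(mul_entries _ _).2.1, (ut_entries _ _ _).2.1, (ut_entries _ _ _).2.1, (ut_entries _ _ _).2.1]
  · rw [(mul_entries _ _).2.2, (ut_entries _ _ _).2.2, (ut_entries _ _ _).2.2, (ut_entries _ _ _).2.2,
      (ut_entries _ _ _).1, (ut_entries _ _ _).2.1]

theorem up_inj {a c b a' c' b' : F} (h : up a c b = up a' c' b') : a = a' ∧ c = c' ∧ b = b' := by
  have h' : ut a c b = ut a' c' b' := upperHom_injective h
  have e := fun i j => congrArg (fun M : upper F 3 => M.1.1 i j) h'
  exact ⟨(e 0 1 : _), (e 1 2 : _), (e 0 2 : _)⟩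

theorem mk_of_smul (hF : Fintype.card F = 4) {A B : SL3} {r : F} (hr : r ^ 3 = 1) (h : A.1 = r • B.1) :
    mkP A = mkP B := by
  have h1 : mkP (B⁻¹ * A) = 1 := by
    refine (PSL34.mkP_eq_one hF).2 ⟨r, hr, ?_⟩
    rw [Matrix.SpecialLinearGroup.coe_mul, h, Matrix.mul_smul, ← Matrix.SpecialLinearGroup.coe_mul,
      inv_mul_cancel, Matrix.SpecialLinearGroup.coe_one]
  rw [map_mul, map_inv, inv_mul_eq_one] at h1
  exact h1.symm

variable (W : Gen F)

theorem Gen.ω_cube : W.ω * W.ω * W.ω = 1 := by
  have h := PSL34.cube W.card W.ω_ne_zero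
  linear_combination h

theorem Gen.ω_sum : 1 + W.ω + W.ω * W.ω = 0 := by
  haveI := W.char2
  rw [W.ω_eq, add_comm 1 W.ω, CharTwo.add_self_eq_zero]

/-- The torus element. -/
noncomputable def torus : SL3 := ⟨!![W.ω, 0, 0; 0, 1, 0; 0, 0, W.ω * W.ω], by
  simp [Matrix.det_fin_three]
  linear_combination W.ω_cube⟩

/-- The monomial element exchanging the last two coordinates. -/
noncomputable def weyl₁ : SL3 := ⟨!![1, 0, 0; 0, 0, 1; 0, 1, 0], by
  haveI := W.char2
  simp [Matrix.det_fin_three, CharTwo.neg_eq]⟩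

/-- The monomial element exchanging the first two coordinates. -/
noncomputable def weyl₂ : SL3 := ⟨!![0, 1, 0; 1, 0, 0; 0, 0, 1], by
  haveI := W.char2
  simp [Matrix.det_fin_three, CharTwo.neg_eq]⟩

theorem torus_up (a c b : F) :
    mkP (torus W) * up a c b * (mkP (torus W))⁻¹ = up (W.ω * a) (W.ω * c) (W.ω * W.ω * b) := by
  have h3 := W.ω_cube
  rw [mul_inv_eq_iff_eq_mul, up_eq, up_eq, ← map_mul, ← map_mul]
  refine congrArg _ (Subtype.ext ?_)
  show (torus W).1 * (ut a c b).1.1 = (ut (W.ω * a) (W.ω * c) (W.ω * W.ω * b)).1.1 * (torus W).1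
  simp only [torus, ut_coe]
  ext i j
  fin_cases i <;> fin_cases j <;> simp [Matrix.mul_apply, Fin.sum_univ_three] <;>
    first | ring1 | linear_combination (-c) * h3 | linear_combination (-W.ω * b) * h3

theorem torus_cube : mkP (torus W) * (mkP (torus W) * mkP (torus W)) = 1 := by
  have h3 := W.ω_cube
  rw [← map_mul, ← map_mul, ← map_one mkP]
  refine congrArg _ (Subtype.ext ?_)
  simp only [Matrix.SpecialLinearGroup.coe_mul, Matrix.SpecialLinearGroup.coe_one]
  simp only [torus]
  ext i j
  fin_cases i <;> fin_cases j <;> simp [Matrix.mul_apply, Fin.sum_univ_three] <;>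
    first | linear_combination h3 | linear_combination (W.ω * W.ω * W.ω + 1) * h3

theorem weyl₁_up (a b : F) : mkP (weyl₁ W) * up a 0 b * (mkP (weyl₁ W))⁻¹ = up b 0 a := by
  rw [mul_inv_eq_iff_eq_mul, up_eq, up_eq, ← map_mul, ← map_mul]
  refine congrArg _ (Subtype.ext ?_)
  show (weyl₁ W).1 * (ut a 0 b).1.1 = (ut b 0 a).1.1 * (weyl₁ W).1
  simp only [weyl₁, ut_coe]
  ext i j
  fin_cases i <;> fin_cases j <;> simp [Matrix.mul_apply, Fin.sum_univ_three]

theorem weyl₂_up (c b : F) : mkP (weyl₂ W) * up 0 c b * (mkP (weyl₂ W))⁻¹ = up 0 b c := by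
  rw [mul_inv_eq_iff_eq_mul, up_eq, up_eq, ← map_mul, ← map_mul]
  refine congrArg _ (Subtype.ext ?_)
  show (weyl₂ W).1 * (ut 0 c b).1.1 = (ut 0 b c).1.1 * (weyl₂ W).1
  simp only [weyl₂, ut_coe]
  ext i j
  fin_cases i <;> fin_cases j <;> simp [Matrix.mul_apply, Fin.sum_univ_three]

theorem weyl_torus (k : SL3) (hk : k = weyl₁ W ∨ k = weyl₂ W) :
    mkP k * mkP (torus W) * (mkP k)⁻¹ = mkP (torus W) * mkP (torus W) := by
  have h3 := W.ω_cube
  rw [mul_inv_eq_iff_eq_mul, ← map_mul, ← map_mul, ← map_mul]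
  rcases hk with rfl | rfl
  · refine mk_of_smul W.card (r := W.ω * W.ω) (by linear_combination (W.ω * W.ω * W.ω + 1) * h3) ?_
    simp only [Matrix.SpecialLinearGroup.coe_mul]
    simp only [torus, weyl₁]
    ext i j
    fin_cases i <;> fin_cases j <;> simp [Matrix.mul_apply, Fin.sum_univ_three] <;>
      first
      | ring1
      | linear_combination (-W.ω) * h3
      | linear_combination (-1 : F) * h3
      | linear_combination (-(W.ω * W.ω * W.ω + 1)) * h3
      | linear_combination (-(W.ω * W.ω)) * h3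
      | grind
  · refine mk_of_smul W.card (r := W.ω) (by linear_combination h3) ?_
    simp only [Matrix.SpecialLinearGroup.coe_mul]
    simp only [torus, weyl₂]
    ext i j
    fin_cases i <;> fin_cases j <;> simp [Matrix.mul_apply, Fin.sum_univ_three] <;>
      first
      | ring1
      | linear_combination (-W.ω) * h3
      | linear_combination (-1 : F) * h3
      | linear_combination (-(W.ω * W.ω * W.ω + 1)) * h3
      | linear_combination (-(W.ω * W.ω)) * h3
      | grind

theorem weyl_sq (k : SL3) (hk : k = weyl₁ W ∨ k = weyl₂ W) : mkP k * mkP k = 1 := by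
  rw [← map_mul, ← map_one mkP]
  refine congrArg _ (Subtype.ext ?_)
  rcases hk with rfl | rfl <;>
  · simp only [Matrix.SpecialLinearGroup.coe_mul, Matrix.SpecialLinearGroup.coe_one]
    simp only [weyl₁, weyl₂]
    ext i j
    fin_cases i <;> fin_cases j <;> simp [Matrix.mul_apply, Fin.sum_univ_three]

theorem weyl_braid : (mkP (weyl₁ W) * up 0 1 0) ^ 3 = 1 ∧ (mkP (weyl₂ W) * up 1 0 0) ^ 3 = 1 := by
  haveI := W.char2
  constructor <;>
  · rw [up_eq, ← map_mul, ← map_pow, ← map_one mkP]
    refine congrArg _ (Subtype.ext ?_)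
    simp only [pow_three, Matrix.SpecialLinearGroup.coe_mul, Matrix.SpecialLinearGroup.coe_one]
    simp only [weyl₁, weyl₂, ut_coe]
    ext i j
    fin_cases i <;> fin_cases j <;> simp [Matrix.mul_apply, Fin.sum_univ_three, CharTwo.add_self_eq_zero]

theorem card_psl (hF : Fintype.card F = 4) : Nat.card PSL3 = 20160 := by
  have h1 := CfsgLib.SLCard.gcd_mul_card_PSL (F := F) (n := 3) (by norm_num)
  have h2 := CfsgLib.SLCard.card_units_mul_card_SL (F := F) (n := 3) (by norm_num)
  rw [Matrix.card_GL_field, Fin.prod_univ_three, hF] at h2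
  rw [hF] at h1
  norm_num at h1 h2
  omega

/-- The setting: a perfect central extension with kernel a four group. -/
structure Cover {X : Type u} [Group X] (π : X →* Matrix.ProjectiveSpecialLinearGroup (Fin 3) F) : Prop where
  setup : Setup π
  card_ker : Nat.card π.ker = 4
  perfect : commutator X = ⊤

variable {X : Type u} [Group X] [Finite X] {π : X →* Matrix.ProjectiveSpecialLinearGroup (Fin 3) F} (C : Cover π)

include C

include W in
theorem Cover.card : Nat.card X = 80640 := by
  rw [Subgroup.card_eq_card_quotient_mul_card_subgroup π.ker, C.card_ker,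
    Nat.card_congr (QuotientGroup.quotientKerEquivOfSurjective π C.setup.surj).toEquiv,
    card_psl W.card]

theorem Cover.central {z : X} (hz : z ∈ π.ker) (g : X) : g * z = z * g :=
  mem_center_iff.1 (C.setup.kerc hz) g

/-- An element of order three is the only one in its coset. -/
theorem Cover.three_unique {x y : X} (hx : x * (x * x) = 1) (hy : y * (y * y) = 1) (h : π x = π y) : x = y := by
  obtain ⟨z, hz⟩ : ∃ z, z = x⁻¹ * y := ⟨_, rfl⟩
  have hk : z ∈ π.ker := by rw [MonoidHom.mem_ker, hz, map_mul, map_inv, h, inv_mul_cancel]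
  have hc : Commute x z := C.central hk x
  have h3 : (x * z) ^ 3 = 1 := by rw [hz, mul_inv_cancel_left, pow_three, hy]
  rw [hc.mul_pow, pow_three, hx, one_mul, pow_three, C.setup.kersq z hk, mul_one] at h3
  rw [h3] at hz
  exact inv_mul_eq_one.1 hz.symm

theorem Cover.exists_three {p : PSL3} (hp : p * (p * p) = 1) : ∃ x : X, π x = p ∧ x * (x * x) = 1 := by
  obtain ⟨x, hx⟩ := C.setup.surj p
  have h3 : x * (x * x) ∈ π.ker := by rw [MonoidHom.mem_ker, map_mul, map_mul, hx, hp]
  refine ⟨x ^ 4, ?_, ?_⟩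
  · rw [show x ^ 4 = x * (x * x) * x by rw [pow_succ, pow_three], map_mul, MonoidHom.mem_ker.1 h3, one_mul, hx]
  · rw [← pow_three, ← pow_mul, show 4 * 3 = 3 * 2 * 2 by norm_num, pow_mul, pow_mul, pow_three,
      sq (x * (x * x)), C.setup.kersq _ h3, one_pow]

end CfsgLib.StdHe
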