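import Cfsg.Agent.Lib.StdHe.LRoots

/-!
The part of the two elementary subgroups on which the torus element acts without fixed points.
-/

set_option autoImplicit false
set_option linter.unusedSectionVars false
set_option linter.style.haveILetI false

namespace CfsgLib.StdHe

open Matrix CfsgLib.PSLn CfsgLib.L34Cover Subgroup

universe u v

variable {F : Type v} [Field F] [Fintype F] {W : Gen F}
variable {X : Type u} [Group X] [Finite X] {π : X →* Matrix.ProjectiveSpecialLinearGroup (Fin 3) F}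

/-- The projection away from the fixed points of an element of order three. -/
def rt (η x : X) : X := η * x * η⁻¹ * (η * η * x * (η * η)⁻¹)

/-- A chosen torus element with two monomial elements. -/
structure Elts (W : Gen F) (π : X →* Matrix.ProjectiveSpecialLinearGroup (Fin 3) F) where
  cover : Cover π
  /-- the torus element -/
  η : X
  π_η : π η = QuotientGroup.mk' _ (torus W)
  η_three : η * (η * η) = 1
  /-- the first monomial element -/
  w₁ : X
  π_w₁ : π w₁ = QuotientGroup.mk' _ (weyl₁ W)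
  /-- the second monomial element -/
  w₂ : X
  π_w₂ : π w₂ = QuotientGroup.mk' _ (weyl₂ W)

theorem exists_elts₀ (W : Gen F) (C : Cover π) : Nonempty (Elts W π) := by
  obtain ⟨η, h1, h2⟩ := C.exists_three (torus_cube W)
  obtain ⟨a, ha⟩ := C.setup.surj (QuotientGroup.mk' _ (weyl₁ W))
  obtain ⟨b, hb⟩ := C.setup.surj (QuotientGroup.mk' _ (weyl₂ W))
  exact ⟨⟨C, η, h1, h2, a, ha, b, hb⟩⟩

namespace Elts

variable (D : Elts W π)

/-- The first elementary subgroup. -/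
noncomputable def E₁ : Subgroup X := (img (U1 (F := F))).comap π

/-- The second elementary subgroup. -/
noncomputable def E₂ : Subgroup X := (img (U2 (F := F))).comap π

/-- The chosen element over a unitriangular one. -/
noncomputable def sec (a c b : F) : X := rt D.η (D.cover.setup.surj (up a c b)).choose

theorem mem_img₁ {p : Matrix.ProjectiveSpecialLinearGroup (Fin 3) F} :
    p ∈ img (U1 (F := F)) ↔ ∃ a b, p = up a 0 b := by
  constructor
  · rintro ⟨A, hA, rfl⟩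
    exact ⟨A.1.1 0 1, A.1.1 0 2, congrArg _ (ext_entries _ _ rfl hA rfl)⟩
  · rintro ⟨a, b, rfl⟩
    exact ⟨_, rfl, rfl⟩

theorem mem_img₂ {p : Matrix.ProjectiveSpecialLinearGroup (Fin 3) F} :
    p ∈ img (U2 (F := F)) ↔ ∃ c b, p = up 0 c b := by
  constructor
  · rintro ⟨A, hA, rfl⟩
    exact ⟨A.1.1 1 2, A.1.1 0 2, congrArg _ (ext_entries _ _ hA rfl rfl)⟩
  · rintro ⟨c, b, rfl⟩
    exact ⟨_, rfl, rfl⟩

include W in
theorem card_img (U : Subgroup (upper F 3)) (h : U = U1 ∨ U = U2) : Nat.card (img U) = 16 := by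
  rw [img, ← Nat.card_congr (U.equivMapOfInjective _ upperHom_injective).toEquiv]
  rcases h with rfl | rfl
  exacts [card_U1 W.card, card_U2 W.card]

theorem sq_img (U : Subgroup (upper F 3)) (h : U = U1 ∨ U = U2) (W : Gen F) : ∀ e ∈ img U, e * e = 1 := by
  rintro _ ⟨A, hA, rfl⟩
  rw [← map_mul, sq_of_mem W.card, map_one]
  rcases h with rfl | rfl
  exacts [Or.inl hA, Or.inr hA]

include D in
theorem sq_E (E : Subgroup X) (h : E = E₁ (π := π) ∨ E = E₂ (π := π)) : ∀ x ∈ E, x * x = 1 := by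
  have hk : ∀ U : Subgroup (Matrix.ProjectiveSpecialLinearGroup (Fin 3) F), π.ker ≤ U.comap π := fun U x hx => by
    rw [mem_comap, MonoidHom.mem_ker.1 hx]; exact one_mem _
  have hm : ∀ U : Subgroup (Matrix.ProjectiveSpecialLinearGroup (Fin 3) F), (U.comap π).map π = U := fun U =>
    map_comap_eq_self_of_surjective D.cover.setup.surj U
  rcases h with rfl | rfl
  · exact D.cover.setup.sq_one (hk _) (hm _) (plane_one W.card) (card_img (W := W) _ (.inl rfl))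
      (sq_img _ (.inl rfl) W)
  · exact D.cover.setup.sq_one (hk _) (hm _) (plane_two W.card) (card_img (W := W) _ (.inr rfl))
      (sq_img _ (.inr rfl) W)

include D in
theorem comm_E (E : Subgroup X) (h : E = E₁ (π := π) ∨ E = E₂ (π := π)) {x y : X} (hx : x ∈ E) (hy : y ∈ E) :
    x * y = y * x :=
  commute_of_exponent_two (D.sq_E E h) x hx y hy

theorem conj_up (a c b : F) {x : X} (hx : π x = up a c b) :
    π (D.η * x * D.η⁻¹) = up (W.ω * a) (W.ω * c) (W.ω * W.ω * b) := by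
  rw [map_mul, map_mul, map_inv, D.π_η, hx, torus_up]

theorem η_mem (E : Subgroup X) (h : E = E₁ (π := π) ∨ E = E₂ (π := π)) {x : X} (hx : x ∈ E) :
    D.η * x * D.η⁻¹ ∈ E := by
  rcases h with rfl | rfl
  · obtain ⟨a, b, e⟩ := mem_img₁.1 hx
    exact mem_img₁.2 ⟨W.ω * a, W.ω * W.ω * b, by rw [D.conj_up a 0 b e, mul_zero]⟩
  · obtain ⟨c, b, e⟩ := mem_img₂.1 hx
    exact mem_img₂.2 ⟨W.ω * c, W.ω * W.ω * b, by rw [D.conj_up 0 c b e, mul_zero]⟩

theorem rt_ker (x z : X) (hz : z ∈ π.ker) : rt D.η (x * z) = rt D.η x := by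
  have hc := D.cover.central hz
  have h1 : ∀ g : X, g * (x * z) * g⁻¹ = g * x * g⁻¹ * z := fun g => by
    calc g * (x * z) * g⁻¹ = g * x * (z * g⁻¹) := by simp only [mul_assoc]
      _ = g * x * g⁻¹ * z := by rw [← hc g⁻¹]; simp only [mul_assoc]
  rw [rt, rt, h1, h1]
  calc _ = D.η * x * D.η⁻¹ * (z * (D.η * D.η * x * (D.η * D.η)⁻¹)) * z := by simp only [mul_assoc]
    _ = _ := by rw [← hc]; simp only [mul_assoc, D.cover.setup.kersq z hz, mul_one]

theorem rt_eq {x y : X} (h : π x = π y) : rt D.η x = rt D.η y := by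
  have hk : x⁻¹ * y ∈ π.ker := by rw [MonoidHom.mem_ker, map_mul, map_inv, h, inv_mul_cancel]
  have := D.rt_ker x _ hk
  rw [mul_inv_cancel_left] at this
  exact this.symm

theorem sec_eq {x : X} {a c b : F} (h : π x = up a c b) : rt D.η x = D.sec a c b :=
  D.rt_eq (h.trans (D.cover.setup.surj (up a c b)).choose_spec.symm)

theorem π_sec {a c : F} (h : a = 0 ∨ c = 0) (b : F) : π (D.sec a c b) = up a c b := by
  haveI := W.char2
  have hx := (D.cover.setup.surj (up a c b)).choose_spec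
  rw [sec, rt, map_mul]
  rw [D.conj_up a c b hx, show D.η * D.η * _ * (D.η * D.η)⁻¹ = D.η * (D.η * (D.cover.setup.surj (up a c b)).choose * D.η⁻¹) * D.η⁻¹ by group,
    D.conj_up _ _ _ (D.conj_up a c b hx), up_mul]
  have hs : W.ω + W.ω * W.ω = 1 := by
    rw [W.ω_eq, ← add_assoc, CharTwo.add_self_eq_zero, zero_add]
  have hc : W.ω * a * (W.ω * (W.ω * c)) = 0 := by rcases h with rfl | rfl <;> simp
  rw [hc]
  congr 1
  · linear_combination a * hs
  · linear_combination c * hs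
  · linear_combination b * hs + W.ω * b * W.ω_cube

theorem sec_mem₁ (a b : F) : D.sec a 0 b ∈ E₁ (π := π) := mem_img₁.2 ⟨a, b, D.π_sec (.inr rfl) b⟩

theorem sec_mem₂ (c b : F) : D.sec 0 c b ∈ E₂ (π := π) := mem_img₂.2 ⟨c, b, D.π_sec (.inl rfl) b⟩

theorem rt_mul (E : Subgroup X) (h : E = E₁ (π := π) ∨ E = E₂ (π := π)) {x y : X} (hx : x ∈ E) (hy : y ∈ E) :
    rt D.η (x * y) = rt D.η x * rt D.η y := by
  have h1 : ∀ g z, D.η * g * D.η⁻¹ * (D.η * z * D.η⁻¹) = D.η * (g * z) * D.η⁻¹ := fun g z => by group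
  have e2 : ∀ g, D.η * D.η * g * (D.η * D.η)⁻¹ = D.η * (D.η * g * D.η⁻¹) * D.η⁻¹ := fun g => by group
  simp only [rt, e2]
  rw [← h1 x y, ← h1 (D.η * x * D.η⁻¹)]
  have m : ∀ {z : X}, z ∈ E → D.η * z * D.η⁻¹ ∈ E := fun hz => D.η_mem E h hz
  calc D.η * x * D.η⁻¹ * (D.η * y * D.η⁻¹) *
        (D.η * (D.η * x * D.η⁻¹) * D.η⁻¹ * (D.η * (D.η * y * D.η⁻¹) * D.η⁻¹))
      = D.η * x * D.η⁻¹ * (D.η * y * D.η⁻¹ * (D.η * (D.η * x * D.η⁻¹) * D.η⁻¹)) *
          (D.η * (D.η * y * D.η⁻¹) * D.η⁻¹) := by simp only [mul_assoc]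
    _ = _ := by rw [D.comm_E E h (m hy) (m (m hx))]; simp only [mul_assoc]

theorem sec_add₁ (a b a' b' : F) : D.sec (a + a') 0 (b + b') = D.sec a 0 b * D.sec a' 0 b' := by
  obtain ⟨x, hx⟩ := D.cover.setup.surj (up a 0 b)
  obtain ⟨y, hy⟩ := D.cover.setup.surj (up a' 0 b')
  rw [← D.sec_eq (x := x * y) (by rw [map_mul, hx, hy, up_mul]; simp),
    D.rt_mul E₁ (.inl rfl) (mem_img₁.2 ⟨a, b, hx⟩) (mem_img₁.2 ⟨a', b', hy⟩), D.sec_eq hx, D.sec_eq hy]

theorem sec_add₂ (c b c' b' : F) : D.sec 0 (c + c') (b + b') = D.sec 0 c b * D.sec 0 c' b' := by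
  obtain ⟨x, hx⟩ := D.cover.setup.surj (up 0 c b)
  obtain ⟨y, hy⟩ := D.cover.setup.surj (up 0 c' b')
  rw [← D.sec_eq (x := x * y) (by rw [map_mul, hx, hy, up_mul]; simp),
    D.rt_mul E₂ (.inr rfl) (mem_img₂.2 ⟨c, b, hx⟩) (mem_img₂.2 ⟨c', b', hy⟩), D.sec_eq hx, D.sec_eq hy]

theorem η_sec (a c b : F) :
    D.η * D.sec a c b * D.η⁻¹ = D.sec (W.ω * a) (W.ω * c) (W.ω * W.ω * b) := by
  obtain ⟨x, hx⟩ := D.cover.setup.surj (up a c b)
  rw [← D.sec_eq (D.conj_up a c b hx), ← D.sec_eq hx, rt, rt]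
  group

theorem weyl_conj (k : X) (E : Subgroup X) (h : E = E₁ (π := π) ∨ E = E₂ (π := π))
    (hk : k * D.η * k⁻¹ = D.η * D.η) {x : X} (hy : k * x * k⁻¹ ∈ E) :
    k * rt D.η x * k⁻¹ = rt D.η (k * x * k⁻¹) := by
  have h4 : D.η * D.η * (D.η * D.η) = D.η := by
    calc D.η * D.η * (D.η * D.η) = D.η * (D.η * D.η) * D.η := by simp only [mul_assoc]
      _ = D.η := by rw [D.η_three, one_mul]
  have m : ∀ {z : X}, z ∈ E → D.η * z * D.η⁻¹ ∈ E := fun hz => D.η_mem E h hz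
  rw [rt, rt, show k * (D.η * x * D.η⁻¹ * (D.η * D.η * x * (D.η * D.η)⁻¹)) * k⁻¹ =
    k * D.η * k⁻¹ * (k * x * k⁻¹) * (k * D.η * k⁻¹)⁻¹ * (k * D.η * k⁻¹ * (k * D.η * k⁻¹) * (k * x * k⁻¹) *
      (k * D.η * k⁻¹ * (k * D.η * k⁻¹))⁻¹) by group, hk, h4]
  refine D.comm_E E h ?_ (m hy)
  rw [show D.η * D.η * (k * x * k⁻¹) * (D.η * D.η)⁻¹ = D.η * (D.η * (k * x * k⁻¹) * D.η⁻¹) * D.η⁻¹ by group]
  exact m (m hy)

include D in
/-- A non-central element with a central square is conjugate to an element over a root element. -/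
theorem exists_conj_up {x : X} (h2 : π x * π x = 1) (h1 : π x ≠ 1) : ∃ y : X, π (y⁻¹ * x * y) = up 0 0 1 := by
  classical
  obtain ⟨A, hA⟩ := QuotientGroup.mk'_surjective (Subgroup.center (Matrix.SpecialLinearGroup (Fin 3) F)) (π x)
  obtain ⟨r, hr, hAA⟩ := (PSL34.mkP_eq_one W.card).1 (show QuotientGroup.mk' _ (A * A) = 1 by rw [map_mul, hA, h2])
  obtain ⟨B, hB⟩ : ∃ B, B = A * A * A := ⟨_, rfl⟩
  have hBA : QuotientGroup.mk' _ B = π x := by rw [hB, map_mul, map_mul, hA, h2, one_mul]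
  have hBB : B * B = 1 := by
    refine Subtype.ext ?_
    have e : B * B = A * A * (A * A) * (A * A) := by rw [hB]; simp only [mul_assoc]
    rw [e, Matrix.SpecialLinearGroup.coe_mul (A * A * (A * A)), Matrix.SpecialLinearGroup.coe_mul (A * A), hAA,
      Matrix.SpecialLinearGroup.coe_one]
    simp only [Matrix.smul_mul, Matrix.mul_smul, mul_one, smul_smul]
    rw [show r * (r * r) = 1 by rw [← hr]; ring, one_smul]
  obtain ⟨g, hg⟩ := PSL34.involution_normal W.card hBB fun h => h1 (by rw [← hBA, h, map_one])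
  obtain ⟨y, hy⟩ := D.cover.setup.surj (QuotientGroup.mk' _ g)
  refine ⟨y, ?_⟩
  rw [map_mul, map_mul, map_inv, hy, ← hBA, ← map_inv, ← map_mul, ← map_mul]
  exact congrArg _ (Subtype.ext hg)

include D in
theorem sq_one_of_invol {x : X} (h2 : π x * π x = 1) : x * x = 1 := by
  classical
  by_cases h1 : π x = 1
  · exact D.cover.setup.kersq x (MonoidHom.mem_ker.2 h1)
  obtain ⟨y, hup⟩ := D.exists_conj_up h2 h1
  have h := D.sq_E E₁ (.inl rfl) _ (mem_img₁.2 ⟨0, 1, hup⟩)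
  calc x * x = y * (y⁻¹ * x * y * (y⁻¹ * x * y)) * y⁻¹ := by group
    _ = 1 := by rw [h, mul_one, mul_inv_cancel]

theorem w_sq : D.w₁ * D.w₁ = 1 ∧ D.w₂ * D.w₂ = 1 :=
  ⟨D.sq_one_of_invol (by rw [D.π_w₁]; exact weyl_sq W _ (.inl rfl)),
    D.sq_one_of_invol (by rw [D.π_w₂]; exact weyl_sq W _ (.inr rfl))⟩

theorem w_η (k : X) (K : Matrix.SpecialLinearGroup (Fin 3) F) (hK : K = weyl₁ W ∨ K = weyl₂ W)
    (hk : π k = QuotientGroup.mk' _ K) : k * D.η * k⁻¹ = D.η * D.η := by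
  refine D.cover.three_unique ?_ ?_ ?_
  · rw [show k * D.η * k⁻¹ * (k * D.η * k⁻¹ * (k * D.η * k⁻¹)) = k * (D.η * (D.η * D.η)) * k⁻¹ by group,
      D.η_three, mul_one, mul_inv_cancel]
  · calc D.η * D.η * (D.η * D.η * (D.η * D.η)) = D.η * (D.η * D.η) * (D.η * (D.η * D.η)) := by
          simp only [mul_assoc]
      _ = 1 := by rw [D.η_three, one_mul]
  · rw [map_mul, map_mul, map_mul, map_inv, hk, D.π_η, weyl_torus W K hK]

theorem w₁_sec (a b : F) : D.w₁ * D.sec a 0 b * D.w₁⁻¹ = D.sec b 0 a := by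
  obtain ⟨x, hx⟩ := D.cover.setup.surj (up a 0 b)
  have hy : π (D.w₁ * x * D.w₁⁻¹) = up b 0 a := by rw [map_mul, map_mul, map_inv, D.π_w₁, hx, weyl₁_up]
  rw [← D.sec_eq hx, ← D.sec_eq hy, D.weyl_conj _ E₁ (.inl rfl) (D.w_η _ _ (.inl rfl) D.π_w₁)
    (mem_img₁.2 ⟨b, a, hy⟩)]

theorem w₂_sec (c b : F) : D.w₂ * D.sec 0 c b * D.w₂⁻¹ = D.sec 0 b c := by
  obtain ⟨x, hx⟩ := D.cover.setup.surj (up 0 c b)
  have hy : π (D.w₂ * x * D.w₂⁻¹) = up 0 b c := by rw [map_mul, map_mul, map_inv, D.π_w₂, hx, weyl₂_up]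
  rw [← D.sec_eq hx, ← D.sec_eq hy, D.weyl_conj _ E₂ (.inr rfl) (D.w_η _ _ (.inr rfl) D.π_w₂)
    (mem_img₂.2 ⟨b, c, hy⟩)]

end Elts

end CfsgLib.StdHe
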