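import Cfsg.Agent.Lib.StdHe.LSect

/-!
The coordinates on a Sylow subgroup of `2².L₃(4)`.
-/

set_option autoImplicit false
set_option linter.unusedSectionVars false
set_option linter.style.haveILetI false

namespace CfsgLib.StdHe

open Matrix CfsgLib.PSLn CfsgLib.L34Cover Subgroup

universe u v

variable {F : Type v} [Field F] [Fintype F] {W : Gen F}
variable {X : Type u} [Group X] [Finite X] {π : X →* Matrix.ProjectiveSpecialLinearGroup (Fin 3) F}

namespace Elts

variable (D : Elts W π)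

/-- The first root element. -/
noncomputable def e (l : F) : X := D.sec l 0 0

/-- The second root element. -/
noncomputable def f (n : F) : X := D.sec 0 n 0

/-- The element over the centre of the Sylow subgroup. -/
noncomputable def u (b : F) : X := D.sec 0 0 b

/-- The central part of a commutator. -/
noncomputable def P (l n : F) : X := D.u (l * n) * (D.f n * D.e l * D.f n * D.e l)

theorem e_mem (l : F) : D.e l ∈ E₁ (π := π) := D.sec_mem₁ l 0

theorem f_mem (n : F) : D.f n ∈ E₂ (π := π) := D.sec_mem₂ n 0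

theorem u_mem₁ (b : F) : D.u b ∈ E₁ (π := π) := D.sec_mem₁ 0 b

theorem u_mem₂ (b : F) : D.u b ∈ E₂ (π := π) := D.sec_mem₂ 0 b

theorem e_add (l l' : F) : D.e (l + l') = D.e l * D.e l' := by
  rw [e, e, e, ← D.sec_add₁, add_zero]

theorem f_add (n n' : F) : D.f (n + n') = D.f n * D.f n' := by
  rw [f, f, f, ← D.sec_add₂, add_zero]

theorem u_add (b b' : F) : D.u (b + b') = D.u b * D.u b' := by
  rw [u, u, u, ← D.sec_add₁, add_zero]

theorem π_e (l : F) : π (D.e l) = up l 0 0 := D.π_sec (.inr rfl) 0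

theorem π_f (n : F) : π (D.f n) = up 0 n 0 := D.π_sec (.inl rfl) 0

theorem π_u (b : F) : π (D.u b) = up 0 0 b := D.π_sec (.inl rfl) b

theorem e_sq (l : F) : D.e l * D.e l = 1 := D.sq_E _ (.inl rfl) _ (D.e_mem l)

theorem f_sq (n : F) : D.f n * D.f n = 1 := D.sq_E _ (.inr rfl) _ (D.f_mem n)

theorem u_sq (b : F) : D.u b * D.u b = 1 := D.sq_E _ (.inl rfl) _ (D.u_mem₁ b)

theorem P_ker (l n : F) : D.P l n ∈ π.ker := by
  haveI := W.char2
  rw [MonoidHom.mem_ker, P, map_mul, map_mul, map_mul, map_mul, D.π_u, D.π_f, D.π_e, up_mul, up_mul, up_mul, up_mul,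
    up_eq, ← map_one (QuotientGroup.mk' _)]
  refine congrArg _ (Subtype.ext ?_)
  rw [ut_coe, Matrix.SpecialLinearGroup.coe_one]
  ext i j
  fin_cases i <;> fin_cases j <;> simp [CharTwo.add_self_eq_zero, mul_comm]

include D in
theorem ker_central {z : X} (hz : z ∈ π.ker) (g : X) : Commute g z := D.cover.central hz g

/-- Moving a second root element past a first one. -/
theorem f_e (l n : F) : D.f n * D.e l * D.f n = D.u (l * n) * D.P l n * D.e l := by
  have hue : D.u (l * n) * (D.u (l * n) * (D.f n * D.e l * D.f n * D.e l)) = D.f n * D.e l * D.f n * D.e l := by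
    rw [← mul_assoc, D.u_sq, one_mul]
  rw [P, hue, mul_assoc _ (D.e l) (D.e l), D.e_sq, mul_one]

theorem comm_u_e (b l : F) : Commute (D.u b) (D.e l) := D.comm_E _ (.inl rfl) (D.u_mem₁ b) (D.e_mem l)

theorem comm_u_f (b n : F) : Commute (D.u b) (D.f n) := D.comm_E _ (.inr rfl) (D.u_mem₂ b) (D.f_mem n)

theorem P_sq (l n : F) : D.P l n * D.P l n = 1 := D.cover.setup.kersq _ (D.P_ker l n)

theorem P_add_left (l l' n : F) : D.P (l + l') n = D.P l n * D.P l' n := by
  have h1 : D.f n * D.e (l + l') * D.f n = D.f n * D.e l * D.f n * (D.f n * D.e l' * D.f n) := by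
    rw [D.e_add, show D.f n * D.e l * D.f n * (D.f n * D.e l' * D.f n) =
      D.f n * D.e l * (D.f n * D.f n) * (D.e l' * D.f n) by simp only [mul_assoc], D.f_sq, mul_one]
    simp only [mul_assoc]
  rw [D.f_e, D.f_e, D.f_e] at h1
  have c1 := D.ker_central (D.P_ker l n)
  have c2 := D.ker_central (D.P_ker l' n)
  have key : D.u (l * n) * D.P l n * D.e l * (D.u (l' * n) * D.P l' n * D.e l') =
      D.u ((l + l') * n) * (D.P l n * D.P l' n) * D.e (l + l') := by
    rw [add_mul, D.u_add, D.e_add]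
    calc D.u (l * n) * D.P l n * D.e l * (D.u (l' * n) * D.P l' n * D.e l')
        = D.u (l * n) * D.P l n * (D.e l * D.u (l' * n)) * D.P l' n * D.e l' := by simp only [mul_assoc]
      _ = D.u (l * n) * (D.P l n * D.u (l' * n)) * (D.e l * D.P l' n) * D.e l' := by
          rw [(D.comm_u_e _ _).symm.eq]; simp only [mul_assoc]
      _ = _ := by rw [(c1 _).symm.eq, (c2 (D.e l)).eq]; simp only [mul_assoc]
  rw [key] at h1
  exact mul_left_cancel (mul_right_cancel h1)

theorem P_add_right (l n n' : F) : D.P l (n + n') = D.P l n * D.P l n' := by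
  have c1 := D.ker_central (D.P_ker l n)
  have c2 := D.ker_central (D.P_ker l n')
  have hff : Commute (D.f n) (D.f n') := D.comm_E _ (.inr rfl) (D.f_mem n) (D.f_mem n')
  have h1 : D.f (n + n') * D.e l * D.f (n + n') = D.f n * (D.f n' * D.e l * D.f n') * D.f n := by
    rw [D.f_add]
    conv_lhs => arg 2; rw [hff.eq]
    simp only [mul_assoc]
  rw [D.f_e, D.f_e] at h1
  have key : D.f n * (D.u (l * n') * D.P l n' * D.e l) * D.f n =
      D.u (l * (n + n')) * (D.P l n * D.P l n') * D.e l := by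
    rw [mul_add, D.u_add]
    calc D.f n * (D.u (l * n') * D.P l n' * D.e l) * D.f n
        = (D.f n * (D.u (l * n') * D.P l n')) * D.e l * D.f n := by simp only [mul_assoc]
      _ = D.u (l * n') * D.P l n' * (D.f n * D.e l * D.f n) := by
          rw [((D.comm_u_f (l * n') n).symm.mul_right (c2 _)).eq]; simp only [mul_assoc]
      _ = D.u (l * n') * (D.P l n' * D.u (l * n)) * D.P l n * D.e l := by rw [D.f_e]; simp only [mul_assoc]
      _ = D.u (l * n') * D.u (l * n) * (D.P l n' * D.P l n) * D.e l := by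
          rw [← (c2 (D.u (l * n))).eq]; simp only [mul_assoc]
      _ = _ := by rw [(c1 (D.P l n')).eq, D.comm_E E₁ (.inl rfl) (D.u_mem₁ (l * n')) (D.u_mem₁ (l * n))]
  rw [key] at h1
  exact mul_left_cancel (mul_right_cancel h1)

theorem η_P (l n : F) : D.P (W.ω * l) (W.ω * n) = D.P l n := by
  have h : D.η * D.P l n * D.η⁻¹ = D.P (W.ω * l) (W.ω * n) := by
    have e1 : D.η * D.e l * D.η⁻¹ = D.e (W.ω * l) := by rw [e, e, D.η_sec]; simp
    have e2 : D.η * D.f n * D.η⁻¹ = D.f (W.ω * n) := by rw [f, f, D.η_sec]; simp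
    have e3 : D.η * D.u (l * n) * D.η⁻¹ = D.u (W.ω * l * (W.ω * n)) := by
      rw [u, u, D.η_sec, mul_zero, show W.ω * W.ω * (l * n) = W.ω * l * (W.ω * n) by ring]
    rw [P, P, ← e1, ← e2, ← e3]
    group
  rw [← h, (D.ker_central (D.P_ker l n) D.η).eq, mul_inv_cancel_right]

/-- The parametrisation of the centre. -/
noncomputable def ψ (a : F) : X := D.P a 1

theorem P_eq (l n : F) : D.P l n = D.ψ (l * (n * n)) := by
  have hz : ∀ x : F, D.P x 0 = 1 := fun x => by
    have := D.P_add_right x 0 0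
    rw [add_zero] at this
    exact mul_left_cancel (this.symm.trans (mul_one _).symm)
  obtain ⟨a, ha, rfl⟩ := W.el_surj n
  have h3 := W.ω_cube
  have hw : W.ω + 1 = W.ω * W.ω := W.ω_eq.symm
  interval_cases a
  · have h0 : D.ψ 0 = 1 := by
      have := D.P_add_left 0 0 1
      rw [add_zero] at this
      exact mul_left_cancel (this.symm.trans (mul_one _).symm)
    rw [W.el_zero, hz, mul_zero, mul_zero, h0]
  · rw [W.el_one, ψ, one_mul, mul_one]
  · rw [W.el_two, ψ]
    calc D.P l W.ω = D.P (W.ω * (l * (W.ω * W.ω))) (W.ω * 1) := by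
          congr 1
          · linear_combination -l * h3
          · rw [mul_one]
      _ = _ := D.η_P _ _
  · rw [W.el_three, hw, ψ]
    calc D.P l (W.ω * W.ω)
        = D.P (W.ω * (W.ω * (l * (W.ω * W.ω * (W.ω * W.ω))))) (W.ω * (W.ω * 1)) := by
          congr 1
          · linear_combination -(l * (W.ω * W.ω * W.ω + 1)) * h3
          · rw [mul_one]
      _ = D.P (W.ω * (l * (W.ω * W.ω * (W.ω * W.ω)))) (W.ω * 1) := D.η_P _ _
      _ = _ := D.η_P _ _

/-- The element of a code. -/
noncomputable def τ (x : ℕ) : X :=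
  D.ψ (W.el (cA x)) * D.u (W.el (cB x)) * (D.e (W.el (cL x)) * D.f (W.el (cN x)))

theorem ψ_ker (a : F) : D.ψ a ∈ π.ker := D.P_ker a 1

theorem ψ_add (a a' : F) : D.ψ (a + a') = D.ψ a * D.ψ a' := D.P_add_left a a' 1

theorem τ_mul (x y : ℕ) : D.τ x * D.τ y = D.τ (tmul x y) := by
  obtain ⟨pa, pb, pl, pn⟩ := parts_tmul x y
  have hl := cL_lt y
  have hn := cN_lt x
  unfold τ
  rw [pa, pb, pl, pn, W.el_add (xor_lt_four _ (cA_lt _) _ (cA_lt _)) (fm_lt _ hl _ (fq_lt hn)),
    W.el_add (cA_lt _) (cA_lt _), W.el_add (xor_lt_four _ (cB_lt _) _ (cB_lt _)) (fm_lt _ hl _ hn),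
    W.el_add (cB_lt _) (cB_lt _), W.el_add (cL_lt _) (cL_lt _), W.el_add (cN_lt _) (cN_lt _), W.el_mul hl hn,
    W.el_mul hl (fq_lt hn), W.el_sq hn, D.ψ_add, D.ψ_add, D.u_add, D.u_add, D.e_add, D.f_add, ← D.P_eq]
  generalize W.el (cL x) = l at *
  generalize W.el (cL y) = l' at *
  generalize W.el (cN x) = n at *
  generalize W.el (cN y) = n' at *
  generalize hA : D.ψ (W.el (cA x)) = A
  generalize hA' : D.ψ (W.el (cA y)) = A'
  have cA₁ : ∀ g, Commute g A' := hA' ▸ D.ker_central (D.ψ_ker _)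
  have cP : ∀ g, Commute g (D.P l' n) := D.ker_central (D.P_ker _ _)
  generalize W.el (cB x) = b
  generalize W.el (cB y) = b'
  have hfe : D.f n * D.e l' = D.u (l' * n) * D.P l' n * D.e l' * D.f n := by
    rw [← D.f_e, mul_assoc (D.f n * D.e l'), D.f_sq, mul_one]
  calc A * D.u b * (D.e l * D.f n) * (A' * D.u b' * (D.e l' * D.f n'))
      = A * D.u b * ((D.e l * D.f n) * (A' * D.u b')) * (D.e l' * D.f n') := by simp only [mul_assoc]
    _ = A * D.u b * (A' * D.u b') * (D.e l * (D.f n * D.e l')) * D.f n' := by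
        rw [((cA₁ (D.e l * D.f n)).mul_right
          ((D.comm_u_e b' l).symm.mul_left (D.comm_u_f b' n).symm)).eq]
        simp only [mul_assoc]
    _ = A * D.u b * (A' * D.u b') * (D.e l * (D.u (l' * n) * D.P l' n)) * D.e l' * D.f n * D.f n' := by
        rw [hfe]; simp only [mul_assoc]
    _ = A * D.u b * (A' * D.u b') * ((D.u (l' * n) * D.P l' n) * D.e l) * D.e l' * D.f n * D.f n' := by
        rw [((D.comm_u_e (l' * n) l).symm.mul_right (cP _)).eq]
    _ = A * (D.u b * A') * D.u b' * (D.u (l' * n) * D.P l' n) * (D.e l * D.e l') * (D.f n * D.f n') := by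
        simp only [mul_assoc]
    _ = A * A' * (D.u b * D.u b' * D.u (l' * n) * D.P l' n) * (D.e l * D.e l') * (D.f n * D.f n') := by
        rw [(cA₁ (D.u b)).eq]; simp only [mul_assoc]
    _ = _ := by rw [(cP (D.u b * D.u b' * D.u (l' * n))).eq]; simp only [mul_assoc]

theorem τ_zero : D.τ 0 = 1 := by
  have h := D.τ_mul 0 0
  rw [show tmul 0 0 = 0 from rfl] at h
  exact mul_left_cancel (h.trans (mul_one _).symm)

theorem π_τ (x : ℕ) :
    π (D.τ x) = up (W.el (cL x)) (W.el (cN x)) (W.el (cB x) + W.el (cL x) * W.el (cN x)) := by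
  rw [τ, map_mul, map_mul, map_mul, MonoidHom.mem_ker.1 (D.ψ_ker _), one_mul, D.π_u, D.π_e, D.π_f, up_mul, up_mul]
  simp

end Elts

end CfsgLib.StdHe
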