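import Cfsg.Agent.Lib.StdHe.CzMain
import Cfsg.Agent.Lib.StdHe.LMain
import Cfsg.Agent.Lib.StdHe.End
import Cfsg.Agent.Lib.OvalPlane.Group
import Cfsg.Prelude.Def_Local

/-!
A standard subgroup of this type in a simple group gives the Held group.
-/

set_option autoImplicit false
set_option linter.style.haveILetI false

namespace CfsgLib.StdHe

open Subgroup

universe u v

variable {G : Type u} [Group G] [Finite G] {L : Subgroup G}

theorem std_of_standard (hL : Cfsg.IsStandardSubgroup L) (C : Coord L) : Nonempty (Std L) := by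
  refine ⟨⟨C, hL.2.2.2, fun g w hw hgw h2 h1 => ?_⟩⟩
  by_contra hg
  rw [hL.2.2.2] at hg
  have hodd := hL.2.1.2 g hg
  have hm : g * w * g⁻¹ ∈ centralizer (L : Set G) ⊓ (centralizer (L : Set G)).map (MulAut.conj g).toMonoidHom :=
    ⟨hgw, w, hw, rfl⟩
  have h2' : (⟨g * w * g⁻¹, hm⟩ : ↥(centralizer (L : Set G) ⊓ (centralizer (L : Set G)).map (MulAut.conj g).toMonoidHom)) ^ 2 = 1 :=
    Subtype.ext (by show (g * w * g⁻¹) ^ 2 = 1; rw [conj_pow, sq, h2, mul_one, mul_inv_cancel])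
  haveI : Fact (Nat.Prime 2) := ⟨Nat.prime_two⟩
  have ho := orderOf_eq_prime h2' (fun h => h1 (conj_eq_one_iff.1 (congrArg Subtype.val h)))
  exact (Nat.not_even_iff_odd.2 hodd) (even_iff_two_dvd.2 (ho ▸ orderOf_dvd_natCard _))

theorem normalizer_ne_top [IsSimpleGroup G] (hna : ¬ IsMulCommutative G) (S : Std L) :
    normalizer (L : Set G) ≠ ⊤ := fun h => by
  haveI : L.Normal := normalizer_eq_top_iff.1 h
  have h1 := S.τ_ne (show 1 < 256 by norm_num) one_ne_zero
  rcases (inferInstance : L.Normal).eq_bot_or_eq_top with hb | ht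
  · exact h1 (mem_bot.1 (hb ▸ S.C.mem 1))
  · refine hna ⟨⟨fun a b => ?_⟩⟩
    have hc : S.C.τ 1 ∈ center G := mem_center_iff.2 fun g =>
      mem_centralizer_iff.1 (S.τ_mem_K (show 1 < 4 by norm_num)) g (SetLike.mem_coe.2 (ht.ge (mem_top g)))
    rcases (inferInstance : (center G).Normal).eq_bot_or_eq_top with hb | ht'
    · exact absurd (mem_bot.1 (hb ▸ hc)) h1
    · exact mem_center_iff.1 (ht' ▸ mem_top b) a

theorem isoHe_of_standard [IsSimpleGroup G] (hna : ¬ IsMulCommutative G) (hL : Cfsg.IsStandardSubgroup L)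
    {F : Type v} [Field F] [Fintype F] (hF : Fintype.card F = 4) (hK : IsKleinFour (center L))
    (e : L ⧸ center L ≃* Matrix.ProjectiveSpecialLinearGroup (Fin 3) F) : Cfsg.Spor.IsoHe G := by
  obtain ⟨C⟩ := exists_coord hL.1.1.commutator_eq_top hF hK e
  obtain ⟨S⟩ := std_of_standard hL C
  obtain ⟨g, k₀, a, hg⟩ := S.exists_nrm_any hna (normalizer_ne_top hna S)
  obtain ⟨S', h, hh⟩ := S.exists_swp hg
  obtain ⟨h', φ, hp⟩ := S'.exists_pair hh
  obtain ⟨D⟩ := S'.exists_core hp (OvalPlane.commutator_eq_top_of_simple hna)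
  exact D.isoHe

end CfsgLib.StdHe
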