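import Cfsg.Agent.Lib.StdHe.NBasic

/-!
Coordinates with the two root parts exchanged.
-/

set_option autoImplicit false

namespace CfsgLib.StdHe

open Subgroup

universe u

variable {G : Type u} [Group G] {L : Subgroup G}

theorem parts_mod (x : ℕ) :
    cA (x % 256) = cA x ∧ cB (x % 256) = cB x ∧ cL (x % 256) = cL x ∧ cN (x % 256) = cN x := by
  unfold cA cB cL cN; omega

theorem tMir_mod (x : ℕ) : tMir (x % 256) = tMir x := by
  obtain ⟨a, b, l, n⟩ := parts_mod x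
  rw [tMir, tMir, a, b, l, n]

theorem tEta_mod (x : ℕ) : tEta (x % 256) = tEta x := by
  obtain ⟨a, b, l, n⟩ := parts_mod x
  rw [tEta, tEta, a, b, l, n]

theorem tW_mod (x : ℕ) : tW1 (x % 256) = tW1 x ∧ tW2 (x % 256) = tW2 x := by
  obtain ⟨a, b, l, n⟩ := parts_mod x
  rw [tW1, tW1, tW2, tW2, a, b, l, n]
  exact ⟨rfl, rfl⟩

theorem tMir_small : ∀ a < 16, tMir a < 16 ∧ (a < 4 → tMir a < 4) ∧ (4 ≤ a → 4 ≤ tMir a) ∧
    (cA a = 0 → cA (tMir a) = 0) := by decide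

theorem tMir_weyl : ∀ x < 256, cL x = 0 → cN (tMir x) = 0 ∧ tMir (tW2 x) = tW1 (tMir x) := by decide +kernel

theorem tMir_eta : ∀ x < 256, tMir (tEta x) = tEta (tMir x) := fun x hx => (tMir_spec x hx).2.2.1

theorem tMir_lt (x : ℕ) : tMir x < 256 := by
  rw [← tMir_mod]; exact (tMir_spec _ (Nat.mod_lt _ (by norm_num))).1

theorem tMir_root : ∀ l < 4, tMir (16 * l) = 64 * l ∧ tMir (64 * l) = 16 * l := by decide

namespace Coord

variable (C : Coord L)

/-- The coordinates with the root parts exchanged. -/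
def mirror : Coord L where
  τ x := C.τ (tMir x)
  η := C.η
  w₁ := C.w₂
  w₂ := C.w₁
  mem x := C.mem _
  mul x y := by rw [C.mul, tMir_hom]
  inj x hx y hy h := by
    have h' := C.inj _ (tMir_lt x) _ (tMir_lt y) h
    rw [← (tMir_spec x hx).2.1, h', (tMir_spec y hy).2.1]
  center_iff g hg := by
    constructor
    · intro h
      obtain ⟨a, ha, rfl⟩ := (C.center_iff g hg).1 h
      exact ⟨tMir a, (tMir_small a (by omega)).2.1 ha,
        show C.τ (tMir (tMir a)) = _ by rw [(tMir_spec a (by omega)).2.1]⟩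
    · rintro ⟨a, ha, rfl⟩
      exact (C.center_iff _ (C.mem _)).2 ⟨tMir a, (tMir_small a (by omega)).2.1 ha, rfl⟩
  η_mem := C.η_mem
  η_three := C.η_three
  η_conj x := by
    show C.η * C.τ (tMir x) * C.η⁻¹ = C.τ (tMir (tEta x))
    rw [C.η_conj, ← tEta_mod x, tMir_eta _ (Nat.mod_lt _ (by norm_num)), tMir_mod]
  w₁_mem := C.w₂_mem
  w₁_sq := C.w₂_sq
  w₁_η := C.w₂_η
  w₁_conj x hx := by
    show C.w₂ * C.τ (tMir x) * C.w₂⁻¹ = C.τ (tMir (tW1 x))
    rw [← tMir_mod x, ← (tW_mod x).1]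
    obtain ⟨h1, h2⟩ := (tMir_spec _ (Nat.mod_lt x (by norm_num))).2.2.2 (by rw [(parts_mod x).2.2.2, hx])
    rw [C.w₂_conj _ h1, h2]
  w₁_braid := C.w₂_braid
  w₂_mem := C.w₁_mem
  w₂_sq := C.w₁_sq
  w₂_η := C.w₁_η
  w₂_conj x hx := by
    show C.w₁ * C.τ (tMir x) * C.w₁⁻¹ = C.τ (tMir (tW2 x))
    rw [← tMir_mod x, ← (tW_mod x).2]
    obtain ⟨h1, h2⟩ := tMir_weyl _ (Nat.mod_lt x (by norm_num)) (by rw [(parts_mod x).2.2.1, hx])
    rw [C.w₁_conj _ h1, h2]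
  w₂_braid := C.w₁_braid
  gen := by
    refine C.gen.trans (closure_mono ?_)
    rintro g (⟨x, hx, rfl⟩ | rfl | rfl)
    · exact .inl ⟨tMir x, tMir_lt x, show C.τ (tMir (tMir x)) = _ by rw [(tMir_spec x hx).2.1]⟩
    · exact .inr (.inr rfl)
    · exact .inr (.inl rfl)
  card := C.card
  perfect := C.perfect
  centr l hl x hx hx4 hc := by
    obtain ⟨h16, -, h4, -⟩ := tMir_small x hx
    obtain ⟨y, hy, e⟩ := C.centr l hl (tMir x) h16 (h4 hx4) hc
    exact ⟨tMir y, tMir_lt y, show C.τ (tMir (tMir y)) = _ by rw [(tMir_spec y hy).2.1, e]⟩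
  norm l hl h := by
    obtain ⟨x, hx, i, hi, e⟩ := C.norm l hl fun w hw => by
      obtain ⟨y, -, e⟩ := h (tMir w) (tMir_lt w)
      rw [(tMir_spec w hw).2.1] at e
      exact ⟨tMir y, tMir_lt y, e⟩
    exact ⟨tMir x, tMir_lt x, i, hi, by rw [(tMir_spec x hx).2.1, e]⟩
  sq_center := C.sq_center
  inv_conj l hl h := by
    obtain ⟨c, hc, x, hx, e⟩ := C.inv_conj l hl h
    exact ⟨c, hc, tMir x, (tMir_small x hx).1,
      show _ = C.τ (tMir (tMir x)) by rw [(tMir_spec x (by omega)).2.1, e]⟩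

theorem lab₀_mirror {g : G} (h : C.Lab₀ g) : C.mirror.Lab₀ g := by
  obtain ⟨c, hc, x, hx, hx4, hx0, e⟩ := h
  obtain ⟨h1, -, h3, h4⟩ := tMir_small x hx
  exact ⟨c, hc, tMir x, h1, h3 hx4, h4 hx0,
    show _ = C.τ (tMir (tMir x)) by rw [(tMir_spec x (by omega)).2.1, e]⟩

end Coord

namespace Std

variable (S : Std L)

/-- The standard subgroup with the root parts exchanged. -/
def mirror : Std L := ⟨S.C.mirror, S.normK, S.back⟩

theorem mirror_τ (x : ℕ) : S.mirror.C.τ x = S.C.τ (tMir x) := rfl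

end Std

end CfsgLib.StdHe
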