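import Cfsg.Agent.Lib.StdHe.AModel

/-!
More facts about the codes.
-/

set_option autoImplicit false
set_option synthInstance.maxSize 4096

namespace CfsgLib.StdHe

theorem aMap_mul16 : ∀ σ s σ' s' : Bool, ∀ a < 4, ∀ b < 4, ∀ c < 4, ∀ d < 4, 1 ≤ a → 1 ≤ b → 1 ≤ c → 1 ≤ d →
    (Nat.beq (cL (aMap σ s a b (aMap σ' s' c d 16))) 0) = (σ ^^ σ') := by
  decide +kernel

theorem aMap_16 : ∀ σ s : Bool, ∀ a < 4, ∀ b < 4, 1 ≤ a → 1 ≤ b →
    (Nat.beq (cL (aMap σ s a b 16)) 0) = σ := by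
  decide +kernel

theorem conj_16 : ∀ a < 256, ∀ j < 4, 1 ≤ j → cL (tmul (tmul a (16 * j)) (tinv a)) ≠ 0 := by decide +kernel

theorem tEta_16 : tEta (tEta 16) = 48 := by decide

theorem aMap_cube : ∀ k < 4, ∀ m < 4, 1 ≤ k → 1 ≤ m → ∀ x < 256,
    aMap false false k m (aMap false false k m (aMap false false k m x)) = x := by
  decide +kernel

theorem cB_one : ∀ y < 16, 4 ≤ y →
    (cB y = 1 ∧ tmul 4 (cA y) = y) ∨ (cB (tEta y) = 1 ∧ tEta y < 16 ∧ tmul 4 (cA (tEta y)) = tEta y) ∨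
      (cB (tEta (tEta y)) = 1 ∧ tEta (tEta y) < 16 ∧ tmul 4 (cA (tEta (tEta y))) = tEta (tEta y)) := by
  decide +kernel

theorem aMap_centre : ∀ σ s : Bool, ∀ k < 4, ∀ m < 4, 1 ≤ k → 1 ≤ m → ∀ y < 16,
    aMap σ s k m y < 16 ∧ (y < 4 → aMap σ s k m y < 4) ∧
      (4 ≤ y → cA y = 0 → 4 ≤ aMap σ s k m y ∧ cA (aMap σ s k m y) = 0) := by
  decide +kernel

/-- The action on the centre is trivial. -/
def centTriv (σ s : Bool) (k m : ℕ) : Bool :=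
  Nat.beq (aMap σ s k m 1) 1 && Nat.beq (aMap σ s k m 2) 2

theorem centTriv_spec : ∀ σ s : Bool, ∀ k < 4, ∀ m < 4, 1 ≤ k → 1 ≤ m →
    (centTriv σ s k m = true → σ = s ∧ ∀ a < 4, aMap σ s k m a = a) ∧
    (centTriv σ s k m = false → ∃ a < 4, aMap σ s k m a ≠ a) ∧
    (σ = s → aMap σ s k m (aMap σ s k m 1) = 1 → centTriv σ s k m = true) := by
  decide +kernel

end CfsgLib.StdHe
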