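import Cfsg.Agent.Lib.StdHe.Auto
import Cfsg.Agent.Lib.StdHe.NFacts
import Mathlib.Algebra.Group.Prod

/-!
The normaliser of a standard subgroup with coordinates.
-/

set_option autoImplicit false
set_option linter.unusedSectionVars false

namespace CfsgLib.StdHe

open Subgroup

universe u

variable {G : Type u} [Group G] {L : Subgroup G}

/-- A standard subgroup with coordinates. -/
structure Std (L : Subgroup G) where
  C : Coord L
  normK : normalizer (L : Set G) = normalizer (centralizer (L : Set G) : Set G)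
  back : ∀ g w : G, w ∈ centralizer (L : Set G) → g * w * g⁻¹ ∈ centralizer (L : Set G) → w * w = 1 → w ≠ 1 →
    g ∈ normalizer (L : Set G)

/-- An element acting as an element of the subgroup. -/
def Inner (L : Subgroup G) (x : G) : Prop := ∃ l ∈ L, ∃ k ∈ centralizer (L : Set G), l * k = x

theorem commute_cent {l k : G} (hl : l ∈ L) (hk : k ∈ centralizer (L : Set G)) : Commute l k :=
  mem_centralizer_iff.mp hk l hl

theorem conj_mem_L {x l : G} (hx : x ∈ normalizer (L : Set G)) (hl : l ∈ L) : x * l * x⁻¹ ∈ L :=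
  (mem_normalizer_iff.1 hx l).1 hl

theorem conj_mem_K {x k : G} (hx : x ∈ normalizer (L : Set G)) (hk : k ∈ centralizer (L : Set G)) :
    x * k * x⁻¹ ∈ centralizer (L : Set G) := by
  refine mem_centralizer_iff.2 fun l hl => ?_
  have hl' : x⁻¹ * l * x ∈ L := by simpa using conj_mem_L (inv_mem hx) hl
  have h : Commute (x⁻¹ * l * x) k := commute_cent hl' hk
  have := h.conj x
  simpa [mul_assoc] using this.eq

theorem cent_le_normalizer : centralizer (L : Set G) ≤ normalizer (L : Set G) := by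
  intro k hk
  rw [mem_normalizer_iff]
  intro l
  constructor
  · intro hl
    show k * l * k⁻¹ ∈ L
    rwa [← (commute_cent hl hk).eq, mul_inv_cancel_right]
  · intro hl
    show l ∈ L
    have h := commute_cent hl hk
    have : k * l * k⁻¹ * k = k * (k * l * k⁻¹) := h
    rw [inv_mul_cancel_right, mul_assoc k, ← mul_assoc k k] at this
    rw [show l = k * l * k⁻¹ from mul_left_cancel (this.trans (by group))]
    exact hl

namespace Inner

theorem of_mem {x : G} (hx : x ∈ L) : Inner L x := ⟨x, hx, 1, one_mem _, mul_one x⟩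

theorem of_cent {x : G} (hx : x ∈ centralizer (L : Set G)) : Inner L x := ⟨1, one_mem _, x, hx, one_mul x⟩

theorem mul {x y : G} (hx : Inner L x) (hy : Inner L y) : Inner L (x * y) := by
  obtain ⟨l, hl, k, hk, rfl⟩ := hx
  obtain ⟨l', hl', k', hk', rfl⟩ := hy
  exact ⟨l * l', mul_mem hl hl', k * k', mul_mem hk hk', (commute_cent hl' hk).mul_mul_mul_comm l k'⟩

theorem inv {x : G} (hx : Inner L x) : Inner L x⁻¹ := by
  obtain ⟨l, hl, k, hk, rfl⟩ := hx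
  exact ⟨l⁻¹, inv_mem hl, k⁻¹, inv_mem hk, by rw [(commute_cent hl hk).eq, mul_inv_rev]⟩

theorem pow {x : G} (hx : Inner L x) (n : ℕ) : Inner L (x ^ n) := by
  induction n with
  | zero => rw [pow_zero]; exact of_mem (one_mem _)
  | succ n ih => rw [pow_succ]; exact ih.mul hx

theorem mem {x : G} (hx : Inner L x) : x ∈ normalizer (L : Set G) := by
  obtain ⟨l, hl, k, hk, rfl⟩ := hx
  exact mul_mem (le_normalizer hl) (cent_le_normalizer hk)

theorem conj {n x : G} (hn : n ∈ normalizer (L : Set G)) (hx : Inner L x) : Inner L (n * x * n⁻¹) := by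
  obtain ⟨l, hl, k, hk, rfl⟩ := hx
  exact ⟨n * l * n⁻¹, conj_mem_L hn hl, n * k * n⁻¹, conj_mem_K hn hk, by group⟩

end Inner

theorem conj_cube (g a : G) : g ^ 3 * a * (g ^ 3)⁻¹ = g * (g * (g * a * g⁻¹) * g⁻¹) * g⁻¹ := by
  rw [pow_three]; group

/-- A bit as an element of the group of order two. -/
def bit₂ (b : Bool) : Multiplicative (ZMod 2) := Multiplicative.ofAdd (if b then 1 else 0)

theorem bit₂_xor : ∀ a b : Bool, bit₂ (a ^^ b) = bit₂ a * bit₂ b := by decide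

theorem bit₂_eq_one : ∀ b : Bool, bit₂ b = 1 ↔ b = false := by decide

namespace Coord

variable (C : Coord L)

theorem conj_τ_τ {a : ℕ} (ha : a < 256) (x : ℕ) : C.τ a * C.τ x * (C.τ a)⁻¹ = C.τ (tmul (tmul a x) (tinv a)) := by
  rw [C.τ_tinv ha, C.mul, C.mul]

theorem η_not_T {a : ℕ} (h : C.η = C.τ a) : False := by
  have h4 := C.η_conj 4
  rw [h, C.mul] at h4
  by_cases ha : a < 256
  · rw [C.τ_tinv ha, C.mul] at h4
    have h5 : C.τ (tmul (tmul a 4) (tinv a)) = C.τ 4 := by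
      rw [← C.mul, ← C.mul, ← C.τ_tinv ha, ← (C.centre_comm' (show 4 < 16 by norm_num) ha).eq, mul_inv_cancel_right]
    rw [h5] at h4
    exact tEta_facts.1 (C.inj 4 (by norm_num) _ (tEta_lt 4) h4).symm
  · have h0 : C.τ (tmul 0 a) = C.τ a := by rw [← C.mul, C.τ_zero, one_mul]
    have hlt := tmul_lt 0 a
    rw [← h0] at h
    have h4 := C.η_conj 4
    rw [h, ← (C.centre_comm' (show 4 < 16 by norm_num) hlt).eq, mul_inv_cancel_right] at h4
    exact tEta_facts.1 (C.inj 4 (by norm_num) _ (tEta_lt 4) h4).symm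

/-- An element of the subgroup induces neither the swap nor the field automorphism. -/
theorem HasAct.bits_inner {l : G} {σ s : Bool} {k₁ k₂ : ℕ} (h : C.HasAct l σ s k₁ k₂) (hl : l ∈ L) :
    σ = false ∧ s = false := by
  obtain ⟨a, ha, i, hi, e⟩ := C.norm l hl fun w hw =>
    ⟨_, aMap_lt σ s h.k₁_mem.2 h.k₂_mem.2 w, h.τ w hw⟩
  constructor
  · have h16 := h.τ 16 (by norm_num)
    obtain ⟨j, hj, hj1, hηj⟩ : ∃ j < 4, 1 ≤ j ∧ C.η ^ i * C.τ 16 * (C.η ^ i)⁻¹ = C.τ (16 * j) := by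
      interval_cases i
      · exact ⟨1, by norm_num, le_rfl, by simp⟩
      · exact ⟨2, by norm_num, by norm_num, by rw [pow_one, C.η_conj, tEta_facts.2.1]⟩
      · exact ⟨3, by norm_num, by norm_num, by rw [sq, C.η_conj_two, tEta_16]⟩
    have e' : l * C.τ 16 * l⁻¹ = C.τ (tmul (tmul a (16 * j)) (tinv a)) := by
      rw [e, ← C.conj_τ_τ ha, ← hηj]; group
    rw [e'] at h16
    have h' := C.inj _ (tmul_lt _ _) _ (aMap_lt σ s h.k₁_mem.2 h.k₂_mem.2 16) h16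
    rw [← aMap_16 σ s k₁ h.k₁_mem.2 k₂ h.k₂_mem.2 h.k₁_mem.1 h.k₂_mem.1, ← h']
    cases hb : Nat.beq (cL (tmul (tmul a (16 * j)) (tinv a))) 0 with
    | false => rfl
    | true => exact absurd (Nat.eq_of_beq_eq_true hb) (conj_16 a ha j hj hj1)
  · cases s with
    | false => rfl
    | true =>
      exfalso
      have hη := h.η
      rw [if_pos rfl, e, show C.τ a * C.η ^ i * C.η * (C.τ a * C.η ^ i)⁻¹ = C.τ a * C.η * (C.τ a)⁻¹ by group] at hη
      refine C.η_not_T (a := tmul a (tEta (tinv a))) ?_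
      rw [← C.mul, ← C.η_conj, ← C.τ_tinv ha]
      calc C.η = C.η * C.η * C.η⁻¹ := by group
        _ = C.τ a * C.η * (C.τ a)⁻¹ * C.η⁻¹ := by rw [hη]
        _ = _ := by group

theorem HasAct.mul {x y : G} {σ s σ' s' : Bool} {k₁ k₂ m₁ m₂ : ℕ} (hx : C.HasAct x σ s k₁ k₂)
    (hy : C.HasAct y σ' s' m₁ m₂) : ∃ a b, C.HasAct (x * y) (σ ^^ σ') (s ^^ s') a b := by
  have h4 : C.η * C.η * (C.η * C.η) = C.η := by
    calc C.η * C.η * (C.η * C.η) = C.η * (C.η * C.η) * C.η := by simp only [mul_assoc]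
      _ = C.η := by rw [C.η_three, one_mul]
  have hxy : ∀ i < 256, x * y * C.τ i * (x * y)⁻¹ = C.τ (aMap σ s k₁ k₂ (aMap σ' s' m₁ m₂ i)) := fun i hi => by
    rw [← hx.τ _ (aMap_lt σ' s' hy.k₁_mem.2 hy.k₂_mem.2 i), ← hy.τ i hi]
    group
  have hη : x * y * C.η * (x * y)⁻¹ = if (s ^^ s') then C.η * C.η else C.η := by
    rw [show x * y * C.η * (x * y)⁻¹ = x * (y * C.η * y⁻¹) * x⁻¹ by group, hy.η]
    cases s' <;> cases s
    · simpa using hx.η
    · simpa using hx.η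
    · rw [if_pos rfl, show x * (C.η * C.η) * x⁻¹ = x * C.η * x⁻¹ * (x * C.η * x⁻¹) by group, hx.η]; rfl
    · rw [if_pos rfl, show x * (C.η * C.η) * x⁻¹ = x * C.η * x⁻¹ * (x * C.η * x⁻¹) by group, hx.η]
      simpa using h4
  obtain ⟨σ'', a, b, h⟩ := C.exists_act_of_norm (mul_mem hx.mem hy.mem) (s ^^ s')
    (fun i hi => ⟨_, aMap_lt σ s hx.k₁_mem.2 hx.k₂_mem.2 _, hxy i hi⟩) hη
  have e := h.τ 16 (by norm_num)
  rw [hxy 16 (by norm_num)] at e
  have e' := C.inj _ (aMap_lt σ s hx.k₁_mem.2 hx.k₂_mem.2 _) _ (aMap_lt _ _ h.k₁_mem.2 h.k₂_mem.2 16) e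
  refine ⟨a, b, ?_⟩
  rw [← aMap_mul16 σ s σ' s' _ hx.k₁_mem.2 _ hx.k₂_mem.2 _ hy.k₁_mem.2 _ hy.k₂_mem.2 hx.k₁_mem.1 hx.k₂_mem.1
    hy.k₁_mem.1 hy.k₂_mem.1, e', aMap_16 σ'' _ a h.k₁_mem.2 b h.k₂_mem.2 h.k₁_mem.1 h.k₂_mem.1]
  exact h

/-- The element acts, up to an element of the subgroup, by the given automorphism. -/
def Act (x : G) (σ s : Bool) (k₁ k₂ : ℕ) : Prop := ∃ l ∈ L, C.HasAct (l * x) σ s k₁ k₂

theorem Act.mem {x : G} {σ s : Bool} {k₁ k₂ : ℕ} (h : C.Act x σ s k₁ k₂) : x ∈ normalizer (L : Set G) := by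
  obtain ⟨l, hl, h⟩ := h
  simpa using mul_mem (inv_mem (le_normalizer hl)) h.mem

theorem one_hasAct : C.HasAct 1 false false 1 1 :=
  ⟨one_mem _, by simp, fun i hi => by rw [aMap_one i hi]; simp, ⟨le_rfl, by norm_num⟩, le_rfl, by norm_num⟩

theorem aMap_inv_bits (σ s : Bool) : (σ ^^ σ) = false ∧ (s ^^ s) = false := ⟨Bool.xor_self σ, Bool.xor_self s⟩

theorem Act.bits {x : G} {σ s σ' s' : Bool} {k₁ k₂ m₁ m₂ : ℕ} [Finite G] (h : C.Act x σ s k₁ k₂)
    (h' : C.Act x σ' s' m₁ m₂) : σ = σ' ∧ s = s' := by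
  have hm := Act.mem C h
  obtain ⟨l, hl, h⟩ := h
  obtain ⟨l', hl', h'⟩ := h'
  obtain ⟨m, hm', τ₀, s₀, a₀, b₀, h₀⟩ := C.exists_act (inv_mem hm)
  obtain ⟨a, b, p⟩ := HasAct.mul C h h₀
  obtain ⟨a', b', p'⟩ := HasAct.mul C h' h₀
  have key : ∀ l : G, l ∈ L → l * x * (m * x⁻¹) ∈ L := fun l hl => by
    rw [show l * x * (m * x⁻¹) = l * (x * m * x⁻¹) by group]
    exact mul_mem hl (conj_mem_L hm hm')
  obtain ⟨e1, e2⟩ := HasAct.bits_inner C p (key l hl)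
  obtain ⟨e3, e4⟩ := HasAct.bits_inner C p' (key l' hl')
  constructor
  · revert e1 e3; cases σ <;> cases σ' <;> cases τ₀ <;> simp
  · revert e2 e4; cases s <;> cases s' <;> cases s₀ <;> simp

/-- An element of the subgroup centralises the centre. -/
theorem τ_centre_comm {l : G} (hl : l ∈ L) {a : ℕ} (ha : a < 4) : Commute l (C.τ a) :=
  commute_cent hl ((C.center_iff _ (C.mem a)).2 ⟨a, ha, rfl⟩)

theorem Act.centre {x : G} {σ s : Bool} {k₁ k₂ : ℕ} (h : C.Act x σ s k₁ k₂) {a : ℕ} (ha : a < 4) :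
    x * C.τ a * x⁻¹ = C.τ (aMap σ s k₁ k₂ a) := by
  obtain ⟨l, hl, h⟩ := h
  have h1 := (aMap_centre σ s k₁ h.k₁_mem.2 k₂ h.k₂_mem.2 h.k₁_mem.1 h.k₂_mem.1 a (by omega)).2.1 ha
  have h2 := (C.τ_centre_comm hl h1).eq
  calc x * C.τ a * x⁻¹ = l⁻¹ * (l * x * C.τ a * (l * x)⁻¹) * l := by group
    _ = _ := by rw [h.τ a (by omega), mul_assoc, ← h2, inv_mul_cancel_left]

theorem lab₀_conj [Finite G] {x g : G} (hx : x ∈ normalizer (L : Set G)) (hg : C.Lab₀ g) : C.Lab₀ (x * g * x⁻¹) := by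
  obtain ⟨c, hc, y, hy, hy4, hy0, e⟩ := hg
  obtain ⟨l, hl, σ, s, k₁, k₂, h⟩ := C.exists_act hx
  obtain ⟨p1, -, p3⟩ := aMap_centre σ s k₁ h.k₁_mem.2 k₂ h.k₂_mem.2 h.k₁_mem.1 h.k₂_mem.1 y hy
  obtain ⟨q1, q2⟩ := p3 hy4 hy0
  refine ⟨l * (x * c * x⁻¹), mul_mem hl (conj_mem_L hx hc), _, p1, q1, q2, ?_⟩
  rw [← h.τ y (by omega), ← e]
  group

end Coord

namespace Std

variable [Finite G] (S : Std L)

include S

/-- An involution centralising the subgroup has its centraliser in the normaliser. -/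
theorem cent_le {k : G} (hk : k ∈ centralizer (L : Set G)) (h2 : k * k = 1) (h1 : k ≠ 1) {g : G}
    (hg : Commute g k) : g ∈ normalizer (L : Set G) :=
  S.back g k hk (by rw [hg.eq, mul_inv_cancel_right]; exact hk) h2 h1

theorem τ_mem_K {a : ℕ} (ha : a < 4) : S.C.τ a ∈ centralizer (L : Set G) :=
  (S.C.center_iff _ (S.C.mem a)).2 ⟨a, ha, rfl⟩

theorem τ_sq {a : ℕ} (ha : a < 16) : S.C.τ a * S.C.τ a = 1 := by
  have h : ∀ a < 16, tmul a a = 0 := by decide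
  rw [S.C.mul, h a ha, S.C.τ_zero]

theorem τ_ne {a : ℕ} (ha : a < 256) (h0 : a ≠ 0) : S.C.τ a ≠ 1 := fun h =>
  h0 (S.C.inj a ha 0 (by norm_num) (h.trans S.C.τ_zero.symm))

theorem inf_cases {x : G} (hl : x ∈ L) (hk : x ∈ centralizer (L : Set G)) : ∃ a < 4, S.C.τ a = x :=
  (S.C.center_iff x hl).1 hk

theorem exists_bits (x : normalizer (L : Set G)) : ∃ p : Bool × Bool, ∃ a b, S.C.Act (x : G) p.1 p.2 a b := by
  obtain ⟨l, hl, σ, s, a, b, h⟩ := S.C.exists_act x.2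
  exact ⟨(σ, s), a, b, l, hl, h⟩

/-- The two signs of an element of the normaliser. -/
noncomputable def bits (x : normalizer (L : Set G)) : Bool × Bool := (S.exists_bits x).choose

theorem bits_eq {x : normalizer (L : Set G)} {σ s : Bool} {a b : ℕ} (h : S.C.Act (x : G) σ s a b) :
    S.bits x = (σ, s) := by
  obtain ⟨a', b', h'⟩ := (S.exists_bits x).choose_spec
  obtain ⟨e1, e2⟩ := Coord.Act.bits S.C h' h
  exact Prod.ext e1 e2

/-- The homomorphism of the two signs. -/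
noncomputable def sgn : normalizer (L : Set G) →* Multiplicative (ZMod 2) × Multiplicative (ZMod 2) :=
  MonoidHom.mk' (fun x => (bit₂ (S.bits x).1, bit₂ (S.bits x).2)) fun x y => by
    obtain ⟨l, hl, σ, s, a, b, h⟩ := S.C.exists_act x.2
    obtain ⟨l', hl', σ', s', a', b', h'⟩ := S.C.exists_act y.2
    obtain ⟨a'', b'', p⟩ := Coord.HasAct.mul S.C h h'
    have hxy : S.C.Act ((x * y : normalizer (L : Set G)) : G) (σ ^^ σ') (s ^^ s') a'' b'' := by
      refine ⟨l * ((x : G) * l' * (x : G)⁻¹), mul_mem hl (conj_mem_L x.2 hl'), ?_⟩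
      convert p using 1
      push_cast
      group
    rw [S.bits_eq hxy, S.bits_eq ⟨l, hl, h⟩, S.bits_eq ⟨l', hl', h'⟩]
    exact Prod.ext (bit₂_xor _ _) (bit₂_xor _ _)

theorem sgn_act {x : G} (hx : x ∈ normalizer (L : Set G)) {σ s : Bool} {a b : ℕ} (h : S.C.Act x σ s a b) :
    S.sgn ⟨x, hx⟩ = (bit₂ σ, bit₂ s) := by
  show (bit₂ (S.bits ⟨x, hx⟩).1, bit₂ (S.bits ⟨x, hx⟩).2) = _
  rw [S.bits_eq (x := ⟨x, hx⟩) h]

theorem sgn_one_bits {x : G} (hx : x ∈ normalizer (L : Set G)) (h : S.sgn ⟨x, hx⟩ = 1) {σ s : Bool} {a b : ℕ}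
    (ha : S.C.Act x σ s a b) : σ = false ∧ s = false := by
  rw [S.sgn_act hx ha, Prod.ext_iff] at h
  exact ⟨(bit₂_eq_one σ).1 h.1, (bit₂_eq_one s).1 h.2⟩

/-- A 2-element with trivial signs is inner. -/
theorem inner_of_sgn {x : G} (hx : x ∈ normalizer (L : Set G)) (h : S.sgn ⟨x, hx⟩ = 1) {n : ℕ}
    (hn : x ^ 2 ^ n = 1) : Inner L x := by
  obtain ⟨l, hl, σ, s, a, b, ha⟩ := S.C.exists_act hx
  obtain ⟨rfl, rfl⟩ := S.sgn_one_bits hx h ⟨l, hl, ha⟩
  have hη : l * x * S.C.η * (l * x)⁻¹ = S.C.η := by simpa using ha.η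
  have h3 : (l * x) ^ 3 ∈ centralizer (L : Set G) := by
    refine S.C.mem_centralizer_of_trivial (pow_mem ha.mem 3) (fun i hi => ?_) ?_
    · rw [conj_cube,
        ha.τ i hi, ha.τ _ (aMap_lt _ _ ha.k₁_mem.2 ha.k₂_mem.2 _), ha.τ _ (aMap_lt _ _ ha.k₁_mem.2 ha.k₂_mem.2 _),
        aMap_cube a ha.k₁_mem.2 b ha.k₂_mem.2 ha.k₁_mem.1 ha.k₂_mem.1 i hi]
    · rw [conj_cube, hη, hη, hη]
  have e : x ^ 3 = (l * (x * l * x⁻¹) * (x ^ 2 * l * (x ^ 2)⁻¹))⁻¹ * (l * x) ^ 3 := by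
    simp [pow_succ, mul_assoc]
  have hx3 : Inner L (x ^ 3) := by
    rw [e]
    exact (Inner.of_mem (mul_mem (mul_mem hl (conj_mem_L hx hl)) (conj_mem_L (pow_mem hx 2) hl))).inv.mul
      (Inner.of_cent h3)
  obtain ⟨m, hm⟩ := exists_pow_eq_self_of_coprime (x := x) (n := 3)
    (Nat.Coprime.coprime_dvd_right (orderOf_dvd_of_pow_eq_one hn)
      (Nat.Coprime.pow_right n (by norm_num)))
  rw [← hm]
  exact hx3.pow m

/-- An inner involution is a product of commuting elements of square one. -/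
theorem invol_form {x : G} (hx : Inner L x) (h2 : x * x = 1) :
    ∃ l ∈ L, ∃ k ∈ centralizer (L : Set G), l * l = 1 ∧ k * k = 1 ∧ l * k = x := by
  obtain ⟨l, hl, k, hk, rfl⟩ := hx
  rw [(commute_cent hl hk).symm.mul_mul_mul_comm] at h2
  have hll : l * l ∈ centralizer (L : Set G) := by
    rw [eq_inv_of_mul_eq_one_left h2]
    exact inv_mem (mul_mem hk hk)
  have e := S.C.sq_center l hl hll
  rw [e, one_mul] at h2
  exact ⟨l, hl, k, hk, e, h2, rfl⟩

/-- The normal form of an inner involution outside the centraliser. -/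
theorem invol_normal_form {x : G} (hx : Inner L x) (h2 : x * x = 1) (hK : x ∉ centralizer (L : Set G)) :
    ∃ c ∈ L, ∃ k ∈ centralizer (L : Set G), k * k = 1 ∧ c * x * c⁻¹ = S.C.τ 4 * k := by
  obtain ⟨l, hl, k, hk, hll, hkk, rfl⟩ := S.invol_form hx h2
  obtain ⟨c, hc, y, hy, e⟩ := S.C.inv_conj l hl hll
  have hy4 : 4 ≤ y := by
    by_contra! h
    refine hK (mul_mem ?_ hk)
    have hyK := S.τ_mem_K h
    rw [show l = c⁻¹ * S.C.τ y * c⁻¹⁻¹ by rw [← e]; group]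
    exact conj_mem_K (le_normalizer (inv_mem hc)) hyK
  obtain ⟨c', hc', y', hy', e', hy''⟩ : ∃ c' ∈ L, ∃ y' < 16, c' * l * c'⁻¹ = S.C.τ y' ∧ tmul 4 (cA y') = y' := by
    rcases cB_one y hy hy4 with ⟨-, h⟩ | ⟨-, h, h'⟩ | ⟨-, h, h'⟩
    · exact ⟨c, hc, y, hy, e, h⟩
    · exact ⟨S.C.η * c, mul_mem S.C.η_mem hc, _, h, by rw [← S.C.η_conj, ← e]; group, h'⟩
    · refine ⟨S.C.η * S.C.η * c, mul_mem (mul_mem S.C.η_mem S.C.η_mem) hc, _, h, ?_, h'⟩
      rw [← S.C.η_conj_two, ← e]; group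
  refine ⟨c', hc', S.C.τ (cA y') * k, mul_mem (S.τ_mem_K (cA_lt y')) hk, ?_, ?_⟩
  · rw [(commute_cent (S.C.mem _) hk).symm.mul_mul_mul_comm, hkk, mul_one,
      S.τ_sq (by have := cA_lt y'; omega)]
  · rw [← mul_assoc (S.C.τ 4), S.C.mul, hy'', ← e']
    calc c' * (l * k) * c'⁻¹ = c' * l * c'⁻¹ * (c' * k * c'⁻¹) := by group
      _ = _ := by rw [(commute_cent hc' hk).eq, mul_inv_cancel_right]

/-- An element centralising the centre. -/
def CentZ (x : G) : Prop := ∀ a < 4, Commute x (S.C.τ a)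

theorem inner_centZ {x : G} (hx : Inner L x) : S.CentZ x := fun a ha => by
  obtain ⟨l, hl, k, hk, rfl⟩ := hx
  exact (S.C.τ_centre_comm hl ha).mul_left (commute_cent (S.C.mem a) hk).symm

theorem centZ_bits {x : G} (h : S.CentZ x) {σ s : Bool} {a b : ℕ} (ha : S.C.Act x σ s a b) : σ = s := by
  obtain ⟨l, hl, hh⟩ := ha
  obtain ⟨f1, f2, -⟩ := centTriv_spec σ s a hh.k₁_mem.2 b hh.k₂_mem.2 hh.k₁_mem.1 hh.k₂_mem.1
  by_contra hne
  cases hb : centTriv σ s a b with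
  | true => exact hne (f1 hb).1
  | false =>
    obtain ⟨j, hj, hne'⟩ := f2 hb
    have e := Coord.Act.centre S.C ⟨l, hl, hh⟩ hj
    rw [(h j hj).eq, mul_inv_cancel_right] at e
    exact hne' (S.C.inj _ (aMap_lt _ _ hh.k₁_mem.2 hh.k₂_mem.2 _) j (by omega) e.symm)

theorem centZ_of_bits {x : G} {σ s : Bool} {a b : ℕ} (ha : S.C.Act x σ s a b) (he : σ = s) (h2 : x * x = 1) :
    S.CentZ x := by
  intro j hj
  have hh' := ha
  obtain ⟨l, hl, hh⟩ := ha
  obtain ⟨f1, -, f3⟩ := centTriv_spec σ s a hh.k₁_mem.2 b hh.k₂_mem.2 hh.k₁_mem.1 hh.k₂_mem.1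
  have h1 : aMap σ s a b 1 < 4 :=
    (aMap_centre σ s a hh.k₁_mem.2 b hh.k₂_mem.2 hh.k₁_mem.1 hh.k₂_mem.1 1 (by norm_num)).2.1 (by norm_num)
  have e : x * (x * S.C.τ 1 * x⁻¹) * x⁻¹ = S.C.τ 1 := by
    rw [show x * (x * S.C.τ 1 * x⁻¹) * x⁻¹ = x * x * S.C.τ 1 * (x * x)⁻¹ by group, h2, one_mul, inv_one, mul_one]
  rw [Coord.Act.centre S.C hh' (show 1 < 4 by norm_num), Coord.Act.centre S.C hh' h1] at e
  have ht := f3 he (S.C.inj _ (aMap_lt _ _ hh.k₁_mem.2 hh.k₂_mem.2 _) 1 (by norm_num) e)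
  have := Coord.Act.centre S.C hh' hj
  rw [(f1 ht).2 j hj] at this
  exact mul_inv_eq_iff_eq_mul.1 this

end Std

end CfsgLib.StdHe
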