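import Cfsg.Agent.Lib.StdHe.Phi

/-!
No element of the normaliser exchanges the root parts.
-/

set_option autoImplicit false
set_option linter.unusedSectionVars false
set_option synthInstance.maxSize 4096

namespace CfsgLib.StdHe

open Subgroup

universe u

variable {G : Type u} [Group G] {L : Subgroup G}

theorem conj_z : hm 5 = 5 ∧ aMap false true 1 1 5 = 5 ∧ hm 1 = 4 ∧ hm 2 = 8 := by decide

namespace Std

variable [Finite G] (S : Std L) {h φ : G}

include S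

/-- The signs of an element centralising the centre, conjugated by the exchanging element. -/
theorem snd_sgn_swapped (hh : S.Swp h) {x : G} (hx : ∀ a < 4, Commute x (S.C.τ a))
    (hN : h * x * h⁻¹ ∈ normalizer (L : Set G)) : (S.sgn ⟨h * x * h⁻¹, hN⟩).2 = 1 := by
  obtain ⟨-, -, e4, e8⟩ := conj_z
  have hc : ∀ a b, a < 4 → hm a = b → Commute (h * x * h⁻¹) (S.C.τ b) := fun a b ha e => by
    rw [← e, ← hh.act a (by omega)]
    exact (Commute.conj_iff h).2 (hx a ha)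
  have h4 := hc 1 4 (by norm_num) e4
  have h8 := hc 2 8 (by norm_num) e8
  obtain ⟨y, hy, σ, s, k, m, hA⟩ := S.C.exists_act_T hN (S.norm_T_of_fix hN (y := 4) (z := 4) (by norm_num)
    (by norm_num) le_rfl (by rw [h4.eq, mul_inv_cancel_right]))
  have hv : ∀ r < 16, Commute (h * x * h⁻¹) (S.C.τ r) → aMap σ s k m r = r := fun r hr hc => by
    refine S.C.inj _ (aMap_lt σ s hA.k₁_mem.2 hA.k₂_mem.2 r) r (by omega) ?_
    rw [← hA.τ r (by omega)]
    exact mul_inv_eq_iff_eq_mul.2 ((S.C.centre_comm' hr hy).symm.mul_left hc).eq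
  obtain rfl := fix_U σ s k hA.k₁_mem.2 m hA.k₂_mem.2 hA.k₁_mem.1 hA.k₂_mem.1 (hv 4 (by norm_num) h4) (hv 8 (by norm_num) h8)
  rw [S.sgn_act hN ⟨S.C.τ y, S.C.mem y, hA⟩]
  exact (bit₂_eq_one false).2 rfl

/-- The fixed points of two central involutions outside the normaliser. -/
theorem fixed_form (hh : S.Swp h) {g : G} (hg : g ∉ normalizer (L : Set G))
    (h1 : g⁻¹ * S.C.τ 1 * g ∈ normalizer (L : Set G)) (h2 : g⁻¹ * S.C.τ 2 * g ∈ normalizer (L : Set G)) :
    ∃ c ∈ L, ∃ n ∈ normalizer (L : Set G), c * g⁻¹ = h * n := by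
  have hZ : S.ZIn g := by
    intro a ha
    interval_cases a
    · rw [S.C.τ_zero, mul_one, inv_mul_cancel]; exact one_mem _
    · exact h1
    · exact h2
    · rw [show g⁻¹ * S.C.τ 3 * g = g⁻¹ * S.C.τ 1 * g * (g⁻¹ * S.C.τ 2 * g) by
        rw [show 3 = tmul 1 2 by decide, ← S.C.mul]; group]
      exact mul_mem h1 h2
  obtain ⟨c, hc, k, a, hn⟩ := S.exists_nrm (S.zin_inv hZ) (fun hi => hg (by simpa using inv_mem hi))
  refine ⟨c, hc, h⁻¹ * (c * g⁻¹), ?_, by rw [mul_inv_cancel_left]⟩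
  obtain ⟨h', -, -, hsame, hU, -⟩ := S.nrm_swap hn
  obtain ⟨b, hb, eb⟩ := hU 1 (by norm_num)
  rw [← hsame 1 (by norm_num)] at eb
  refine S.back _ _ (S.τ_mem_K (show 1 < 4 by norm_num)) ?_ (S.τ_sq (by norm_num)) (S.τ_ne (by norm_num) one_ne_zero)
  obtain ⟨a', ha', e⟩ : ∃ a' < 4, h⁻¹ * S.C.τ (4 * b) * h = S.C.τ a' := by
    have hb' : hm b = 4 * b := (by decide : ∀ b < 4, hm b = 4 * b) b hb
    exact ⟨b, hb, by rw [← hb', ← hh.act b (by omega)]; group⟩
  rw [show h⁻¹ * (c * g⁻¹) * S.C.τ 1 * (h⁻¹ * (c * g⁻¹))⁻¹ = h⁻¹ * (c * g⁻¹ * S.C.τ 1 * (c * g⁻¹)⁻¹) * h by group,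
    eb, e]
  exact S.τ_mem_K ha'

theorem sgn_centZ (hG : commutator G = ⊤) (hh : S.Swp h) {x : G} (hx : x ∈ normalizer (L : Set G)) (hc : S.CentZ x) :
    S.sgn ⟨x, hx⟩ = 1 := by
  let χ := (MonoidHom.snd (Multiplicative (ZMod 2)) (Multiplicative (ZMod 2))).comp S.sgn
  have hsq : ∀ p : Multiplicative (ZMod 2), p * p = 1 := by decide
  have htr := transfer_eq_of_fixed hsq χ hx (le_normalizer (S.C.mem 1)) (le_normalizer (S.C.mem 2))
    (S.τ_sq (by norm_num)) (S.τ_sq (by norm_num)) (hc 1 (by norm_num)).symm (hc 2 (by norm_num)).symm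
    (S.C.centre_comm' (by norm_num) (by norm_num)) fun g hg h1 h2 j hj => by
      obtain ⟨c, hcL, n, hn, e⟩ := S.fixed_form hh hg h1 h2
      have hn' : ∀ a < 4, Commute (n * x ^ j * n⁻¹) (S.C.τ a) := fun a ha => by
        obtain ⟨b, hb, eb⟩ := S.inf_cases (conj_mem_L (inv_mem hn) (S.C.mem a)) (conj_mem_K (inv_mem hn) (S.τ_mem_K ha))
        rw [show S.C.τ a = n * S.C.τ b * n⁻¹ by rw [eb]; group]
        exact (Commute.conj_iff n).2 ((hc b hb).pow_left j)
      have eg : g⁻¹ * x ^ j * g = c⁻¹ * (h * (n * x ^ j * n⁻¹) * h⁻¹) * c := by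
        rw [show g⁻¹ = c⁻¹ * (c * g⁻¹) by group, show g = (c * g⁻¹)⁻¹ * c by group, e]; group
      have hN : h * (n * x ^ j * n⁻¹) * h⁻¹ ∈ normalizer (L : Set G) := by
        have := mul_mem (mul_mem (le_normalizer hcL) hj) (inv_mem (le_normalizer hcL))
        rwa [eg, show c * (c⁻¹ * (h * (n * x ^ j * n⁻¹) * h⁻¹) * c) * c⁻¹ = h * (n * x ^ j * n⁻¹) * h⁻¹ by group] at this
      rw [show (⟨g⁻¹ * x ^ j * g, hj⟩ : normalizer (L : Set G)) =
        (⟨c, le_normalizer hcL⟩ : normalizer (L : Set G))⁻¹ * ⟨_, hN⟩ * ⟨c, le_normalizer hcL⟩ from Subtype.ext eg,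
        map_mul, map_mul, map_inv, mul_right_comm, inv_mul_cancel, one_mul]
      exact S.snd_sgn_swapped hh hn' hN
  have h1 : MonoidHom.transfer χ x = 1 := by
    have hx' : x ∈ commutator G := by rw [hG]; trivial
    exact MonoidHom.mem_ker.1 (Abelianization.commutator_subset_ker _ hx')
  rw [h1] at htr
  exact Prod.ext ((S.sgn_eq_of_centZ hx hc).trans htr.symm) htr.symm

/-- No element of the normaliser exchanges the root parts. -/
theorem fst_sgn (hG : commutator G = ⊤) (hh : S.Pair h φ) {x : G} (hx : x ∈ normalizer (L : Set G)) :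
    (S.sgn ⟨x, hx⟩).1 = 1 := by
  have hφs : S.sgn ⟨φ, hh.act.mem⟩ = (bit₂ false, bit₂ true) := S.sgn_act _ ⟨1, one_mem _, by rw [one_mul]; exact hh.act⟩
  by_contra hne
  have key : ∀ p : Multiplicative (ZMod 2) × Multiplicative (ZMod 2), p.1 ≠ 1 →
      p = (bit₂ true, bit₂ true) ∨ p * (bit₂ false, bit₂ true) = (bit₂ true, bit₂ true) := by decide
  obtain ⟨w, hw, ew⟩ : ∃ w, ∃ hw : w ∈ normalizer (L : Set G), S.sgn ⟨w, hw⟩ = (bit₂ true, bit₂ true) := by
    rcases key _ hne with e | e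
    · exact ⟨x, hx, e⟩
    · exact ⟨x * φ, mul_mem hx hh.act.mem, by rw [← e, ← hφs, ← map_mul]; rfl⟩
  have hc : S.CentZ (w ^ 3) := by
    obtain ⟨l, hl, σ, s, k, m, hA⟩ := S.C.exists_act hw
    rw [S.sgn_act hw ⟨l, hl, hA⟩, Prod.ext_iff] at ew
    have inj : ∀ a b : Bool, bit₂ a = bit₂ b → a = b := by decide
    obtain rfl := inj _ _ ew.1
    obtain rfl := inj _ _ ew.2
    have hlt : ∀ j < 4, aMap true true k m j < 4 := fun j hj =>
      (aMap_centre true true k hA.k₁_mem.2 m hA.k₂_mem.2 hA.k₁_mem.1 hA.k₂_mem.1 j (by omega)).2.1 hj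
    have hA' := fun j (hj : j < 4) => Coord.Act.centre S.C ⟨l, hl, hA⟩ hj
    intro j hj
    refine mul_inv_eq_iff_eq_mul.1 ?_
    rw [conj_cube, hA' j hj, hA' _ (hlt j hj), hA' _ (hlt _ (hlt j hj)),
      cube_lin true k hA.k₁_mem.2 m hA.k₂_mem.2 hA.k₁_mem.1 hA.k₂_mem.1 j hj]
  have e := S.sgn_centZ hG hh.swp (pow_mem hw 3) hc
  rw [show (⟨w ^ 3, pow_mem hw 3⟩ : normalizer (L : Set G)) = ⟨w, hw⟩ ^ 3 from rfl, map_pow, ew] at e
  revert e; decide

theorem act_false (hG : commutator G = ⊤) (hh : S.Pair h φ) {x : G} {σ s : Bool} {k m : ℕ} (ha : S.C.Act x σ s k m) :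
    σ = false := by
  have := S.fst_sgn hG hh (Coord.Act.mem S.C ha)
  rw [S.sgn_act _ ha] at this
  exact (bit₂_eq_one σ).1 this

/-- The element is a product from the Sylow subgroup, the field automorphism and the odd part. -/
def InS₁ (φ x : G) : Prop :=
  ∃ y < 256, ∃ e : Bool, ∃ d ∈ dSub L, S.C.τ y * (if e then φ else 1) * d = x

/-- The centraliser of the diagonal element in the normaliser. -/
theorem cent_five (hG : commutator G = ⊤) (hh : S.Pair h φ) {x : G} (hx : x ∈ normalizer (L : Set G))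
    (hc : Commute x (S.C.τ 5)) : S.InS₁ φ x := by
  obtain ⟨y, hy, σ, s, k, m, hA⟩ := S.C.exists_act_T hx (S.norm_T_of_fix hx (y := 5) (z := 5) (by norm_num)
    (by norm_num) (by norm_num) (by rw [hc.eq, mul_inv_cancel_right]))
  obtain rfl := S.act_false hG hh ⟨S.C.τ y, S.C.mem y, hA⟩
  obtain ⟨rfl, rfl⟩ := fix_five s k hA.k₁_mem.2 m hA.k₂_mem.2 hA.k₁_mem.1 hA.k₂_mem.1 (S.C.inj _
    (aMap_lt _ _ hA.k₁_mem.2 hA.k₂_mem.2 5) 5 (by norm_num) (by
      rw [← hA.τ 5 (by norm_num)]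
      exact mul_inv_eq_iff_eq_mul.2 ((S.C.centre_comm' (by norm_num) hy).symm.mul_left hc).eq))
  obtain ⟨k, hk, e⟩ : ∃ k ∈ centralizer (L : Set G), (if s then φ else 1) * k = S.C.τ y * x := by
    cases s with
    | false => exact ⟨_, Coord.HasAct.mem_centralizer S.C hA, one_mul _⟩
    | true => exact ⟨φ⁻¹ * (S.C.τ y * x), Coord.HasAct.inv_mul S.C hh.act hA, by simp⟩
  obtain ⟨a, ha, d, hd, -, -, rfl⟩ := S.dSub_split hh.swp.nrm hk
  obtain ⟨b, hb, eb⟩ : ∃ b < 4, (if s then φ else 1) * S.C.τ a = S.C.τ b * (if s then φ else 1) := by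
    cases s with
    | false => exact ⟨a, ha, by simp⟩
    | true =>
      refine ⟨aMap false true 1 1 a, (aMap_centre false true 1 (by norm_num) 1 (by norm_num) le_rfl le_rfl a
        (by omega)).2.1 ha, ?_⟩
      rw [if_pos rfl, ← hh.act.τ a (by omega), inv_mul_cancel_right]
  refine ⟨tmul (tinv y) b, tmul_lt _ _, s, d, hd, ?_⟩
  rw [← S.C.mul, mul_assoc (S.C.τ (tinv y)), ← eb, mul_assoc, mul_assoc, ← S.C.τ_tinv hy, e, inv_mul_cancel_left]

theorem cent_five_one (hG : commutator G = ⊤) (hh : S.Pair h φ) {x : G} (h5 : Commute x (S.C.τ 5))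
    (h1 : Commute x (S.C.τ 1)) : S.InS₁ φ x :=
  S.cent_five hG hh (S.cent_le (S.τ_mem_K (show 1 < 4 by norm_num)) (S.τ_sq (by norm_num))
    (S.τ_ne (by norm_num) one_ne_zero) h1) h5

end Std

end CfsgLib.StdHe
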