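import Cfsg.Agent.Lib.StdHe.SwapNF

/-!
Commuting involutions inducing the exchange and the field automorphism.
-/

set_option autoImplicit false
set_option linter.unusedSectionVars false
set_option synthInstance.maxSize 4096

namespace CfsgLib.StdHe

open Subgroup

universe u

variable {G : Type u} [Group G] {L : Subgroup G}

/-- The action of `(w₂ h)` on the second elementary subgroup. -/
def tW2h (x : ℕ) : ℕ := tW2 (hm x)

theorem tW2h_facts : tW2h (tW2h (tW2h 1)) = 1 ∧ tW2h (tW2h (tW2h 2)) = 3 ∧ tW2h (tW2h (tW2h 4)) = 4 ∧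
    tW2h (tW2h (tW2h 8)) = 12 ∧ (∀ x < 256, cL x = 0 → cL (hm x) = 0 ∧ cL (tW2h x) = 0 ∧ tW2h x < 256) := by
  decide +kernel

theorem field_act : ∀ σ s : Bool, ∀ k < 4, ∀ m < 4, 1 ≤ k → 1 ≤ m →
    (Nat.beq (aMap σ s k m 1) 1 && Nat.beq (aMap σ s k m 2) 3 && Nat.beq (aMap σ s k m 4) 4 &&
      Nat.beq (aMap σ s k m 8) 12) = true → (!σ && s && Nat.beq k 1 && Nat.beq m 1) = true := by
  decide +kernel

theorem fix_five : ∀ s : Bool, ∀ k < 4, ∀ m < 4, 1 ≤ k → 1 ≤ m → aMap false s k m 5 = 5 → k = 1 ∧ m = 1 := by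
  decide +kernel

theorem fix_U : ∀ σ s : Bool, ∀ k < 4, ∀ m < 4, 1 ≤ k → 1 ≤ m → aMap σ s k m 4 = 4 → aMap σ s k m 8 = 8 → s = false := by
  decide +kernel

theorem phi_consts : (∀ i < 256, aMap false true 1 1 (aMap false true 1 1 i) = i) ∧
    aMap false true 1 1 2 = 3 ∧ tmul 3 2 = 1 ∧ (∀ a < 4, aMap false true 1 1 a = a → a = 0 ∨ a = 1) ∧
    (∀ y < 16, hm y = y → tmul (cA y) (hm (cA y)) = y ∧ tmul y y = 0) ∧
    (∀ y < 16, hm y = y → aMap false true 1 1 y = y → y = 0 ∨ y = 5) ∧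
    tmul 10 (hm (aMap false true 1 1 10)) = 5 ∧ tmul 10 (hm 10) = 0 ∧
    (∀ i < 256, hm (aMap false true 1 1 i) = aMap false true 1 1 (hm i)) := by decide +kernel

theorem delta_act : ∀ i < 256, hm (tEta (hm i)) = aMap false false 2 3 i := by decide +kernel

namespace Std

/-- The two outer involutions. -/
structure Pair (S : Std L) (h φ : G) : Prop where
  swp : S.Swp h
  h_sq : h * h = 1
  φ_sq : φ * φ = 1
  act : S.C.HasAct φ false true 1 1
  comm : Commute h φ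

variable [Finite G] (S : Std L)

include S

theorem dSub_split {g₀ k₀ : G} {a₀ : ℕ} (hg : S.Nrm g₀ k₀ a₀) {k : G} (hk : k ∈ centralizer (L : Set G)) :
    ∃ a < 4, ∃ d ∈ dSub L, Odd (orderOf d) ∧ d ∈ centralizer (L : Set G) ∧ S.C.τ a * d = k := by
  obtain ⟨a, ha, d, hd, e⟩ := (S.K_split hg).2.2 k hk
  exact ⟨a, ha, d, hd, (((S.K_split hg).1 d).1 hd).2, (((S.K_split hg).1 d).1 hd).1, e⟩

theorem fix_of_centre_mul {x d : G} {a b : ℕ} (ha : a < 4) (hb : b < 4) (hd : Odd (orderOf d))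
    (hdK : d ∈ centralizer (L : Set G)) (hx : Commute x (S.C.τ a * d)) (e : x * S.C.τ a * x⁻¹ = S.C.τ b) :
    a = b ∧ Commute x d := by
  obtain ⟨n, hn⟩ := hd
  have hp : (S.C.τ a * d) ^ orderOf d = S.C.τ a := by
    rw [(commute_cent (S.C.mem a) hdK).mul_pow, pow_orderOf_eq_one, mul_one, hn, pow_succ, pow_mul, sq,
      S.τ_sq (by omega), one_pow, one_mul]
  have hc : Commute x (S.C.τ a) := hp ▸ hx.pow_right _
  rw [hc.eq, mul_inv_cancel_right] at e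
  refine ⟨S.C.inj a (by omega) b (by omega) e, ?_⟩
  have := hc.inv_right.mul_right hx
  rwa [inv_mul_cancel_left] at this

variable {h : G}

theorem Swp.conj_E₂ (hh : S.Swp h) {x : ℕ} (hx : x < 256) (hl : cL x = 0) :
    S.C.w₂ * h * S.C.τ x * (S.C.w₂ * h)⁻¹ = S.C.τ (tW2h x) := by
  rw [tW2h, show S.C.w₂ * h * S.C.τ x * (S.C.w₂ * h)⁻¹ = S.C.w₂ * (h * S.C.τ x * h⁻¹) * S.C.w₂⁻¹ by group,
    hh.act x hx, S.C.w₂_conj _ (tW2h_facts.2.2.2.2 x hx hl).1]

theorem exists_field (hh : S.Swp h) : ∃ φ, φ * φ = 1 ∧ S.C.HasAct φ false true 1 1 := by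
  obtain ⟨f, hf⟩ : ∃ f, f = (S.C.w₂ * h) ^ 3 := ⟨_, rfl⟩
  obtain ⟨t1, t2, t4, t8, hE⟩ := tW2h_facts
  have hc : ∀ r, r < 256 → cL r = 0 → f * S.C.τ r * f⁻¹ = S.C.τ (tW2h (tW2h (tW2h r))) := fun r hr hl => by
    obtain ⟨-, a1, a2⟩ := hE r hr hl
    obtain ⟨-, b1, b2⟩ := hE _ a2 a1
    rw [hf, conj_cube, hh.conj_E₂ S hr hl, hh.conj_E₂ S a2 a1, hh.conj_E₂ S b2 b1]
  have f1 := hc 1 (by norm_num) (by decide)
  rw [t1] at f1
  have hfN : f ∈ normalizer (L : Set G) := S.cent_le (S.τ_mem_K (show 1 < 4 by norm_num)) (S.τ_sq (by norm_num))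
    (S.τ_ne (by norm_num) one_ne_zero) (mul_inv_eq_iff_eq_mul.1 f1)
  obtain ⟨y, hy, σ, s, k, m, hA⟩ := S.C.exists_act_T hfN (S.norm_T_of_fix hfN (y := 4) (z := 4) (by norm_num)
    (by norm_num) le_rfl (by rw [hc 4 (by norm_num) (by decide), t4]))
  have hv : ∀ r v, r < 16 → v < 16 → tW2h (tW2h (tW2h r)) = v → aMap σ s k m r = v := fun r v hr hv e => by
    refine S.C.inj _ (aMap_lt σ s hA.k₁_mem.2 hA.k₂_mem.2 r) v (by omega) ?_
    rw [← hA.τ r (by omega), show S.C.τ y * f * S.C.τ r * (S.C.τ y * f)⁻¹ = S.C.τ y * (f * S.C.τ r * f⁻¹) * (S.C.τ y)⁻¹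
      by group, hc r (by omega) (by unfold cL; omega), e, ← (S.C.centre_comm' hv hy).eq, mul_inv_cancel_right]
  have := field_act σ s k hA.k₁_mem.2 m hA.k₂_mem.2 hA.k₁_mem.1 hA.k₂_mem.1 (by
    rw [hv 1 1 (by norm_num) (by norm_num) t1, hv 2 3 (by norm_num) (by norm_num) t2,
      hv 4 4 (by norm_num) (by norm_num) t4, hv 8 12 (by norm_num) (by norm_num) t8]
    rfl)
  simp only [Bool.and_eq_true, Bool.not_eq_true', Nat.beq_eq] at this
  obtain ⟨⟨⟨rfl, rfl⟩, rfl⟩, rfl⟩ := this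
  generalize S.C.τ y * f = p at hA
  clear hc f1 hfN hf f hv hy y
  obtain ⟨i2, a2, m32, afix, -⟩ := phi_consts
  have hη : p * p * S.C.η * (p * p)⁻¹ = S.C.η := by
    have e := hA.η
    rw [if_pos rfl] at e
    rw [show p * p * S.C.η * (p * p)⁻¹ = p * (p * S.C.η * p⁻¹) * p⁻¹ by group, e,
      show p * (S.C.η * S.C.η) * p⁻¹ = p * S.C.η * p⁻¹ * (p * S.C.η * p⁻¹) by group, e]
    calc _ = S.C.η * (S.C.η * (S.C.η * S.C.η)) := by simp only [mul_assoc]
      _ = _ := by rw [S.C.η_three, mul_one]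
  have hK : p * p ∈ centralizer (L : Set G) := S.C.mem_centralizer_of_trivial (mul_mem hA.mem hA.mem) (fun i hi => by
    rw [show p * p * S.C.τ i * (p * p)⁻¹ = p * (p * S.C.τ i * p⁻¹) * p⁻¹ by group, hA.τ i hi,
      hA.τ _ (aMap_lt _ _ (by norm_num) (by norm_num) i), i2 i hi]) hη
  obtain ⟨a, ha, d, -, hdo, hdK, e⟩ := S.dSub_split hh.nrm hK
  obtain ⟨-, e2, -⟩ := aMap_centre false true 1 (by norm_num) 1 (by norm_num) le_rfl le_rfl a (by omega)
  obtain ⟨hfa, hpd⟩ := S.fix_of_centre_mul ha (e2 ha) hdo hdK (by rw [e]; exact (Commute.refl p).mul_right (Commute.refl p))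
    (hA.τ a (by omega))
  have htriv : ∀ {z : G}, z ∈ centralizer (L : Set G) → S.C.HasAct (p * z) false true 1 1 := fun {z} hz =>
    ⟨mul_mem hA.mem (cent_le_normalizer hz), by
      rw [show p * z * S.C.η * (p * z)⁻¹ = p * (z * S.C.η * z⁻¹) * p⁻¹ by group,
        ← (commute_cent S.C.η_mem hz).eq, mul_inv_cancel_right]; exact hA.η,
     fun i hi => by
      rw [show p * z * S.C.τ i * (p * z)⁻¹ = p * (z * S.C.τ i * z⁻¹) * p⁻¹ by group,
        ← (commute_cent (S.C.mem i) hz).eq, mul_inv_cancel_right]; exact hA.τ i hi, hA.k₁_mem, hA.k₂_mem⟩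
  obtain ⟨q, hqA, hq2, hqd⟩ : ∃ q, S.C.HasAct q false true 1 1 ∧ q * q = d ∧ Commute q d := by
    rcases afix a ha hfa.symm with rfl | rfl
    · exact ⟨p, hA, by rw [← e, S.C.τ_zero, one_mul], hpd⟩
    · refine ⟨p * S.C.τ 2, htriv (S.τ_mem_K (by norm_num)), ?_, hpd.mul_left (commute_cent (S.C.mem 2) hdK)⟩
      have hp2 : S.C.τ 2 * p = p * S.C.τ 3 := by
        have := hA.τ 3 (by norm_num)
        rw [show aMap false true 1 1 3 = 2 from (congrArg _ a2).symm.trans (i2 2 (by norm_num))] at this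
        rw [← this]; group
      rw [mul_assoc, ← mul_assoc (S.C.τ 2), hp2, mul_assoc p (S.C.τ 3), S.C.mul, m32, ← mul_assoc, ← e,
        (commute_cent (S.C.mem 1) hdK).symm.right_comm, S.τ_sq (show 1 < 16 by norm_num), one_mul]
  obtain ⟨n, hn⟩ := hdo
  refine ⟨q * d ^ n, ?_, ?_⟩
  · rw [(hqd.pow_right n).symm.mul_mul_mul_comm, hq2, ← pow_add, ← pow_succ', ← two_mul, ← hn, pow_orderOf_eq_one]
  · have hz : d ^ n ∈ centralizer (L : Set G) := pow_mem hdK n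
    exact ⟨mul_mem hqA.mem (cent_le_normalizer hz), by
      rw [show q * d ^ n * S.C.η * (q * d ^ n)⁻¹ = q * (d ^ n * S.C.η * (d ^ n)⁻¹) * q⁻¹ by group,
        ← (commute_cent S.C.η_mem hz).eq, mul_inv_cancel_right]; exact hqA.η,
     fun i hi => by
      rw [show q * d ^ n * S.C.τ i * (q * d ^ n)⁻¹ = q * (d ^ n * S.C.τ i * (d ^ n)⁻¹) * q⁻¹ by group,
        ← (commute_cent (S.C.mem i) hz).eq, mul_inv_cancel_right]; exact hqA.τ i hi, hqA.k₁_mem, hqA.k₂_mem⟩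

theorem Swp.notN' (hh : S.Swp h) {x : G} (hx : ∀ i < 256, x * S.C.τ i * x⁻¹ = S.C.τ (hm i)) : S.Swp x := by
  refine ⟨fun hN => hh.notN (S.back h _ (S.τ_mem_K (show 1 < 4 by norm_num)) ?_ (S.τ_sq (by norm_num))
    (S.τ_ne (by norm_num) one_ne_zero)), hx⟩
  rw [hh.act 1 (by norm_num), ← hx 1 (by norm_num)]
  exact conj_mem_K hN (S.τ_mem_K (by norm_num))

/-- An element acting trivially on the Sylow subgroup. -/
theorem cent_T {g₀ k₀ : G} {a₀ : ℕ} (hg : S.Nrm g₀ k₀ a₀) {x : G} (hx : ∀ i < 256, Commute x (S.C.τ i)) :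
    ∃ y < 16, ∃ d ∈ dSub L, Odd (orderOf d) ∧ d ∈ centralizer (L : Set G) ∧ S.C.τ y * d = x := by
  obtain ⟨y, hy, d, hd, e⟩ := S.cent_R hg fun r hr => hx r (by omega)
  obtain ⟨hdK, hdo⟩ := ((S.K_split hg).1 d).1 hd
  refine ⟨y, ?_, d, hd, hdo, hdK, e⟩
  have key : ∀ p < 256, tmul y p = tmul p y := fun p hp => by
    refine S.C.inj _ (tmul_lt _ _) _ (tmul_lt _ _) ?_
    have hc := (hx p hp).mul_left (commute_cent (S.C.mem p) (inv_mem hdK)).symm
    rw [← e, mul_inv_cancel_right] at hc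
    rw [← S.C.mul, ← S.C.mul]
    exact hc.eq
  exact centre_fact y hy (key 16 (by norm_num)) (key 64 (by norm_num))

theorem Swp.mul_left (hh : S.Swp h) {z : G} (hz : ∀ i < 256, Commute z (S.C.τ i)) : S.Swp (z * h) :=
  hh.notN' S fun i hi => by
    rw [show z * h * S.C.τ i * (z * h)⁻¹ = z * (h * S.C.τ i * h⁻¹) * z⁻¹ by group, hh.act i hi,
      (hz _ (hm_lt i)).eq, mul_inv_cancel_right]

theorem exists_swp_invol (hh : S.Swp h) : ∃ h', S.Swp h' ∧ h' * h' = 1 := by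
  obtain ⟨-, -, -, -, hu, -, -⟩ := phi_consts
  obtain ⟨y, hy, d, -, hdo, hdK, e⟩ := S.cent_T hh.nrm (x := h * h) fun i hi => mul_inv_eq_iff_eq_mul.1 (by
    rw [show h * h * S.C.τ i * (h * h)⁻¹ = h * (h * S.C.τ i * h⁻¹) * h⁻¹ by group, hh.act i hi,
      hh.act _ (hm_lt i), hm_hm i hi])
  obtain ⟨n, hn⟩ := hdo
  have hp : (S.C.τ y * d) ^ orderOf d = S.C.τ y := by
    rw [(commute_cent (S.C.mem y) hdK).mul_pow, pow_orderOf_eq_one, mul_one, hn, pow_succ, pow_mul, sq,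
      S.τ_sq hy, one_pow, one_mul]
  have hfix : hm y = y := by
    have hc : Commute h (S.C.τ y) := hp ▸ (e.symm ▸ (Commute.refl h).mul_right (Commute.refl h) :
      Commute h (S.C.τ y * d)).pow_right _
    have := hh.act y (by omega)
    rw [hc.eq, mul_inv_cancel_right] at this
    exact S.C.inj _ (hm_lt y) y (by omega) this.symm
  obtain ⟨hu1, hu2⟩ := hu y hy hfix
  have hcy : cA y < 16 := by have := cA_lt y; omega
  have hsw : S.Swp (S.C.τ (cA y) * h) := hh.mul_left S fun i hi => S.C.centre_comm' hcy hi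
  generalize hf : S.C.τ (cA y) * h = f at hsw
  have hf2 : f * f = d := by
    rw [← hf, show S.C.τ (cA y) * h * (S.C.τ (cA y) * h) = S.C.τ (cA y) * (h * S.C.τ (cA y) * h⁻¹) * (h * h) by group,
      hh.act _ (by omega), S.C.mul, hu1, ← e, ← mul_assoc, S.C.mul, hu2, S.C.τ_zero, one_mul]
  refine ⟨d ^ n * f, hsw.mul_left S (fun i _ => ((commute_cent (S.C.mem i) (pow_mem hdK n))).symm), ?_⟩
  have hc : Commute f (d ^ n) := by
    rw [← hf2]; exact ((Commute.refl f).mul_right (Commute.refl f)).pow_right n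
  rw [hc.mul_mul_mul_comm, ← pow_add, hf2, ← pow_succ, ← two_mul, ← hn, pow_orderOf_eq_one]

/-- The pair exists. -/
theorem exists_pair (hh : S.Swp h) : ∃ h φ, S.Pair h φ := by
  obtain ⟨φ, hφ2, hφ⟩ := S.exists_field hh
  obtain ⟨f, hf, hf2⟩ := S.exists_swp_invol hh
  obtain ⟨-, -, -, -, -, h5, h10, h10', hcm⟩ := phi_consts
  have hfi : f⁻¹ = f := inv_eq_of_mul_eq_one_right hf2
  have hφi : φ⁻¹ = φ := inv_eq_of_mul_eq_one_right hφ2
  have hal : ∀ i, aMap false true 1 1 i < 256 := fun i => aMap_lt _ _ (by norm_num) (by norm_num) i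
  have hcT : ∀ f : G, S.Swp f → f * f = 1 → ∀ i < 256, Commute (f * φ * (f * φ)) (S.C.τ i) := fun f hf hf2 i hi =>
    mul_inv_eq_iff_eq_mul.1 (by
      rw [show f * φ * (f * φ) * S.C.τ i * (f * φ * (f * φ))⁻¹ =
        f * (φ * (f * (φ * S.C.τ i * φ⁻¹) * f⁻¹) * φ⁻¹) * f⁻¹ by group, hφ.τ i hi, hf.act _ (hal i),
        hφ.τ _ (hm_lt _), hf.act _ (hal _), ← hcm _ (hal _), hm_hm _ (hal _), (phi_consts).1 i hi])
  obtain ⟨f', hf', hf2', hodd⟩ : ∃ f', S.Swp f' ∧ f' * f' = 1 ∧ Odd (orderOf (f' * φ * (f' * φ))) ∧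
      f' * φ * (f' * φ) ∈ centralizer (L : Set G) := by
    obtain ⟨y, hy, d, -, hdo, hdK, e⟩ := S.cent_T hf.nrm (hcT f hf hf2)
    obtain ⟨n, hn⟩ := hdo
    have hdo : Odd (orderOf d) := ⟨n, hn⟩
    have hp : (S.C.τ y * d) ^ orderOf d = S.C.τ y := by
      rw [(commute_cent (S.C.mem y) hdK).mul_pow, pow_orderOf_eq_one, mul_one, hn, pow_succ, pow_mul, sq,
        S.τ_sq hy, one_pow, one_mul]
    have hinv : ∀ w : G, w * w = 1 → w * (f * φ * (f * φ)) * w⁻¹ = (f * φ * (f * φ))⁻¹ → w * S.C.τ y * w⁻¹ = S.C.τ y := by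
      intro w _ ew
      rw [← hp, ← conj_pow, e, ew, inv_pow, ← e, hp]
      exact inv_eq_of_mul_eq_one_right (S.τ_sq hy)
    have hi1 : hm y = y := S.C.inj _ (hm_lt y) y (by omega) (by
      rw [← hf.act y (by omega)]
      refine hinv f hf2 ?_
      rw [mul_inv_rev, mul_inv_rev, hfi, hφi]
      calc f * (f * φ * (f * φ)) * f = f * f * φ * f * φ * f := by simp only [mul_assoc]
        _ = _ := by rw [hf2, one_mul]; simp only [mul_assoc])
    have hi2 : aMap false true 1 1 y = y := S.C.inj _ (hal y) y (by omega) (by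
      rw [← hφ.τ y (by omega)]
      refine hinv φ hφ2 ?_
      rw [mul_inv_rev, mul_inv_rev, hfi, hφi]
      calc φ * (f * φ * (f * φ)) * φ = φ * f * φ * f * (φ * φ) := by simp only [mul_assoc]
        _ = _ := by rw [hφ2, mul_one]; simp only [mul_assoc])
    rcases h5 y hy hi1 hi2 with rfl | rfl
    · rw [S.C.τ_zero, one_mul] at e
      exact ⟨f, hf, hf2, e ▸ hdo, e ▸ hdK⟩
    · have hsw := hf.mul_left S (z := S.C.τ 10) fun i hi => S.C.centre_comm' (by norm_num) hi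
      refine ⟨_, hsw, ?_, ?_⟩
      · rw [show S.C.τ 10 * f * (S.C.τ 10 * f) = S.C.τ 10 * (f * S.C.τ 10 * f⁻¹) * (f * f) by group,
          hf.act 10 (by norm_num), S.C.mul, h10', hf2, S.C.τ_zero, one_mul]
      · have key : S.C.τ 10 * f * φ * (S.C.τ 10 * f * φ) = d := by
          rw [show S.C.τ 10 * f * φ * (S.C.τ 10 * f * φ) =
            S.C.τ 10 * (f * (φ * S.C.τ 10 * φ⁻¹) * f⁻¹) * (f * φ * (f * φ)) by group, hφ.τ 10 (by norm_num),
            hf.act _ (hal 10), S.C.mul, h10, ← e, ← mul_assoc, S.τ_sq hy, one_mul]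
        rw [key]; exact ⟨hdo, hdK⟩
  clear hfi hcT hf hf2 f
  obtain ⟨hodd, hcK⟩ := hodd
  obtain ⟨n, hn⟩ := hodd
  obtain ⟨c, hc⟩ : ∃ c, c = f' * φ * (f' * φ) := ⟨_, rfl⟩
  rw [← hc] at hn hcK
  have hfc : f' * c * f'⁻¹ = c⁻¹ := by
    rw [hc, mul_inv_rev, mul_inv_rev, inv_eq_of_mul_eq_one_right hf2', hφi]
    calc f' * (f' * φ * (f' * φ)) * f' = f' * f' * φ * f' * φ * f' := by simp only [mul_assoc]
      _ = _ := by rw [hf2', one_mul]; simp only [mul_assoc]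
  refine ⟨c ^ n * f', φ, hf'.mul_left S (fun i _ => ((commute_cent (S.C.mem i) (pow_mem hcK n))).symm), ?_, hφ2, hφ, ?_⟩
  · rw [show c ^ n * f' * (c ^ n * f') = c ^ n * (f' * c ^ n * f'⁻¹) * (f' * f') by group, ← conj_pow, hfc, hf2',
      mul_one, inv_pow, mul_inv_cancel]
  · have hcfφ : Commute (f' * φ) c := hc ▸ (Commute.refl _).mul_right (Commute.refl _)
    have h2 : c ^ n * f' * φ * (c ^ n * f' * φ) = 1 := by
      rw [mul_assoc (c ^ n) f' φ, (hcfφ.pow_right n).mul_mul_mul_comm, ← hc, ← pow_add, ← two_mul, ← pow_succ, ← hn,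
        pow_orderOf_eq_one]
    have hsq : c ^ n * f' * (c ^ n * f') = 1 := by
      rw [show c ^ n * f' * (c ^ n * f') = c ^ n * (f' * c ^ n * f'⁻¹) * (f' * f') by group, ← conj_pow, hfc, hf2',
        mul_one, inv_pow, mul_inv_cancel]
    show _ = _
    have e := eq_inv_of_mul_eq_one_left h2
    rw [e, mul_inv_rev, hφi, inv_eq_of_mul_eq_one_right hsq]

end Std

end CfsgLib.StdHe
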