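import Cfsg.Agent.Lib.CoprimeGen
import Mathlib.GroupTheory.Perm.Cycle.Type
import Mathlib.GroupTheory.Transfer
import Mathlib.GroupTheory.Nilpotent

/-!
Group-theoretic steps of the recursion: adjoining one element to a 2-subgroup, lifting 2-subgroups through a map
with kernel of odd order, and the bottom step.
-/

set_option autoImplicit false
set_option linter.unusedSectionVars false
set_option linter.style.haveILetI false

namespace CfsgLib.StdHe

open Subgroup

universe u v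

variable {G : Type u} [Group G]

/-- The subgroup generated by a subgroup and an element normalising it with square inside. -/
def adj (U : Subgroup G) (v : G) (hn : ∀ u ∈ U, v * u * v⁻¹ ∈ U) (hv : v * v ∈ U) : Subgroup G where
  carrier := {x | x ∈ U ∨ x * v ∈ U}
  one_mem' := Or.inl U.one_mem
  mul_mem' := by
    have hn' : ∀ u ∈ U, v⁻¹ * u * v ∈ U := fun u hu => by
      have := U.mul_mem (U.mul_mem (U.inv_mem hv) (hn u hu)) hv
      rwa [show (v * v)⁻¹ * (v * u * v⁻¹) * (v * v) = v⁻¹ * u * v by group] at this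
    rintro x y (hx | hx) (hy | hy)
    · exact Or.inl (U.mul_mem hx hy)
    · exact Or.inr (by rw [mul_assoc]; exact U.mul_mem hx hy)
    · refine Or.inr ?_
      rw [show x * y * v = x * v * (v⁻¹ * y * v) by group]
      exact U.mul_mem hx (hn' y hy)
    · refine Or.inl ?_
      rw [show x * y = x * v * (v⁻¹ * (y * v) * v) * (v * v)⁻¹ by group]
      exact U.mul_mem (U.mul_mem hx (hn' _ hy)) (U.inv_mem hv)
  inv_mem' := by
    rintro x (hx | hx)
    · exact Or.inl (U.inv_mem hx)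
    · refine Or.inr ?_
      rw [show x⁻¹ * v = v * (x * v)⁻¹ * v⁻¹ * (v * v) by group]
      exact U.mul_mem (hn _ (U.inv_mem hx)) hv

variable {U : Subgroup G} {v : G} {hn : ∀ u ∈ U, v * u * v⁻¹ ∈ U} {hv : v * v ∈ U}

theorem mem_adj {x : G} : x ∈ adj U v hn hv ↔ x ∈ U ∨ x * v ∈ U := Iff.rfl

theorem le_adj : U ≤ adj U v hn hv := fun _ hx => Or.inl hx

theorem self_mem_adj : v ∈ adj U v hn hv := Or.inr hv

theorem adj_pGroup (hU : IsPGroup 2 U) : IsPGroup 2 (adj U v hn hv) := by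
  rintro ⟨x, hx⟩
  have h2 : x * x ∈ U := by
    rcases hx with hx | hx
    · exact U.mul_mem hx hx
    · have := U.mul_mem (U.mul_mem hx (hn _ (U.inv_mem hv))) (hn _ hx)
      rwa [show x * v * (v * (v * v)⁻¹ * v⁻¹) * (v * (x * v) * v⁻¹) = x * x by group] at this
  obtain ⟨k, hk⟩ := hU ⟨x * x, h2⟩
  refine ⟨k + 1, Subtype.ext ?_⟩
  have := congrArg Subtype.val hk
  rw [SubgroupClass.coe_pow, OneMemClass.coe_one] at this ⊢
  rw [pow_succ', pow_mul, pow_two]
  exact this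

/-- A 2-subgroup over a given one mapping onto a given 2-subgroup. -/
theorem exists_lift {M : Type v} [Group M] [Finite G] {ρ : G →* M} (hρ : Function.Surjective ρ)
    (hk : Odd (Nat.card ρ.ker)) {V : Subgroup G} (hV : IsPGroup 2 V) {Q : Subgroup M} (hQ : IsPGroup 2 Q)
    (hle : V.map ρ ≤ Q) : ∃ P : Subgroup G, IsPGroup 2 P ∧ V ≤ P ∧ P.map ρ = Q := by
  haveI : Fact (Nat.Prime 2) := ⟨Nat.prime_two⟩
  haveI : Finite M := Finite.of_surjective ρ hρ
  set M0 := Q.comap ρ with hM0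
  have hVM : V ≤ M0 := fun x hx => hle ⟨x, hx, rfl⟩
  obtain ⟨P, hP⟩ := (hV.comap_of_injective M0.subtype M0.subtype_injective).exists_le_sylow
    (P := V.comap M0.subtype)
  refine ⟨(P : Subgroup M0).map M0.subtype, P.2.map _, fun x hx => ⟨⟨x, hVM hx⟩, hP hx, rfl⟩, ?_⟩
  have hcard : Nat.card M0 = Nat.card ρ.ker * Nat.card Q := by
    let ψ : M0 →* Q := (ρ.comp M0.subtype).codRestrict Q fun x => x.2
    have hψ : Function.Surjective ψ := fun q => by
      obtain ⟨x, hx⟩ := hρ q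
      exact ⟨⟨x, show ρ x ∈ Q from hx ▸ q.2⟩, Subtype.ext hx⟩
    have hker : Nat.card ψ.ker = Nat.card ρ.ker := Nat.card_congr
      { toFun := fun x => ⟨((x : M0) : G), congrArg Subtype.val (MonoidHom.mem_ker.mp x.2)⟩
        invFun := fun x => ⟨⟨x, show ρ x ∈ Q from (MonoidHom.mem_ker.mp x.2).symm ▸ Q.one_mem⟩,
          MonoidHom.mem_ker.mpr (Subtype.ext (MonoidHom.mem_ker.mp x.2))⟩
        left_inv := fun x => rfl
        right_inv := fun x => rfl }
    rw [Subgroup.card_eq_card_quotient_mul_card_subgroup ψ.ker,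
      Nat.card_congr (QuotientGroup.quotientKerEquivOfSurjective ψ hψ).toEquiv, hker, mul_comm]
  obtain ⟨n, hn⟩ := hQ.exists_card_eq
  have hPQ : 2 ^ n ∣ Nat.card (P : Subgroup M0) :=
    P.pow_dvd_card_of_pow_dvd_card (hcard ▸ hn ▸ dvd_mul_left _ _)
  refine Subgroup.eq_of_le_of_card_ge ?_ ?_
  · rintro _ ⟨_, ⟨x, -, rfl⟩, rfl⟩
    exact x.2
  · rw [Subgroup.map_map, hn]
    refine (Nat.le_of_dvd Nat.card_pos hPQ).trans_eq (Nat.card_congr (Equiv.ofBijective
      (fun x => ⟨(ρ.comp M0.subtype) x, ⟨x, x.2, rfl⟩⟩) ⟨fun x y h => ?_, fun ⟨_, x, hx, rfl⟩ => ⟨⟨x, hx⟩, rfl⟩⟩))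
    have e : ρ ((x : M0) : G) = ρ ((y : M0) : G) := congrArg Subtype.val h
    refine Subtype.ext (Subtype.ext ?_)
    have hz : ((x : M0) : G)⁻¹ * ((y : M0) : G) ∈ ρ.ker := by
      rw [MonoidHom.mem_ker, map_mul, map_inv, e, inv_mul_cancel]
    refine inv_mul_eq_one.mp (orderOf_eq_one_iff.mp ?_)
    obtain ⟨j, hj⟩ := (IsPGroup.iff_orderOf.mp P.2) (x⁻¹ * y)
    have hd : orderOf (((x : M0) : G)⁻¹ * ((y : M0) : G)) = 2 ^ j := by
      rw [← hj, ← Subgroup.orderOf_coe, ← Subgroup.orderOf_coe]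
      rfl
    refine Nat.eq_one_of_dvd_coprimes (a := 2 ^ j) ((Nat.coprime_two_left.mpr hk).pow_left j)
      (dvd_of_eq hd) (Subgroup.orderOf_dvd_natCard _ hz)

/-- Kernel elements of a 2-subgroup are trivial. -/
theorem eq_one_of_ker {M : Type v} [Group M] [Finite G] {ρ : G →* M} (hk : Odd (Nat.card ρ.ker))
    {P : Subgroup G} (hP : IsPGroup 2 P) {x : G} (hx : x ∈ P) (h : ρ x = 1) : x = 1 := by
  obtain ⟨j, hj⟩ := hP ⟨x, hx⟩
  have hd : orderOf x ∣ 2 ^ j := orderOf_dvd_of_pow_eq_one (congrArg Subtype.val hj)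
  exact orderOf_eq_one_iff.mp (Nat.eq_one_of_dvd_coprimes ((Nat.coprime_two_left.mpr hk).pow_left j) hd
    (Subgroup.orderOf_dvd_natCard _ (MonoidHom.mem_ker.mpr h)))

theorem odd_card_of_forall [Finite G] (T : Subgroup G) (h : ∀ x ∈ T, Odd (orderOf x)) : Odd (Nat.card T) := by
  haveI : Fact (Nat.Prime 2) := ⟨Nat.prime_two⟩
  rw [← Nat.not_even_iff_odd, even_iff_two_dvd]
  intro h2
  obtain ⟨x, hx⟩ := exists_prime_orderOf_dvd_card' 2 h2
  have := h x x.2
  rw [Subgroup.orderOf_coe, hx] at this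
  exact absurd this (by decide)

/-- The parity step: an involution acts on a group so that all fixed elements have odd order. -/
theorem odd_card_of_invol [Finite G] (R : Subgroup G) {e : G} (he : e * e = 1) (hn : ∀ r ∈ R, e * r * e⁻¹ ∈ R)
    (hfix : ∀ r ∈ R, Commute e r → Odd (orderOf r)) : Odd (Nat.card R) := by
  classical
  haveI : Fact (Nat.Prime 2) := ⟨Nat.prime_two⟩
  haveI := Fintype.ofFinite R
  let f : R → R := fun r => ⟨e * r * e⁻¹, hn r r.2⟩
  have hff : Function.Involutive f := fun r => Subtype.ext (by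
    show e * (e * r * e⁻¹) * e⁻¹ = (r : G)
    rw [show e * (e * (r : G) * e⁻¹) * e⁻¹ = (e * e) * r * (e * e)⁻¹ by group, he]; group)
  set σ := hff.toPerm f with hσ
  have hσ2 : σ ^ 2 ^ 1 = 1 := by
    refine Equiv.ext fun r => ?_
    rw [pow_one, pow_two]
    exact hff r
  have h := Equiv.Perm.card_compl_support_modEq hσ2
  have hfx : σ.supportᶜ.card = Nat.card ↥(R ⊓ Subgroup.centralizer ({e} : Set G)) := by
    rw [← Nat.card_eq_finsetCard]
    refine Nat.card_congr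
      { toFun := fun r => ⟨r.1, r.1.2, ?_⟩
        invFun := fun r => ⟨⟨r.1, r.2.1⟩, ?_⟩
        left_inv := fun r => rfl
        right_inv := fun r => rfl }
    · have h2 := r.2
      rw [Finset.mem_compl, Equiv.Perm.mem_support, not_not] at h2
      refine mem_centralizer_singleton_iff.mpr ?_
      exact (mul_inv_eq_iff_eq_mul.mp (congrArg Subtype.val h2)).symm
    · rw [Finset.mem_compl, Equiv.Perm.mem_support, not_not]
      refine Subtype.ext (mul_inv_eq_iff_eq_mul.mpr ?_)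
      exact (mem_centralizer_singleton_iff.mp r.2.2).symm
  have ho := odd_card_of_forall _ fun x (hx : x ∈ R ⊓ Subgroup.centralizer ({e} : Set G)) =>
    hfix x hx.1 (mem_centralizer_singleton_iff.mp hx.2).symm
  rw [← hfx, Nat.odd_iff, h, ← Nat.odd_iff, ← Nat.card_eq_fintype_card] at ho
  exact ho

/-- The four group on two commuting involutions, as an abelian non-cyclic 2-group normalising what both do. -/
theorem exists_four {M : Type*} [Group M] [Finite M] {x y : M} (hx : x * x = 1) (hy : y * y = 1)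
    (hxy : x * y = y * x) (x1 : x ≠ 1) (y1 : y ≠ 1) (xy1 : x * y ≠ 1) {R : Subgroup M}
    (hnx : ∀ r ∈ R, x * r * x⁻¹ ∈ R) (hny : ∀ r ∈ R, y * r * y⁻¹ ∈ R) :
    ∃ E : Subgroup M, IsMulCommutative E ∧ ¬ IsCyclic E ∧ IsPGroup 2 E ∧ E ≤ normalizer (R : Set M) ∧
      ∀ w ∈ E, w = 1 ∨ w = x ∨ w = y ∨ w = x * y := by
  classical
  have hxi : x⁻¹ = x := inv_eq_of_mul_eq_one_right hx
  have hyi : y⁻¹ = y := inv_eq_of_mul_eq_one_right hy
  have k1 : ∀ r : M, y * (x * r) = x * (y * r) := fun r => by rw [← mul_assoc, ← hxy, mul_assoc]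
  have k2 : ∀ r : M, x * (x * r) = r := fun r => by rw [← mul_assoc, hx, one_mul]
  have k3 : ∀ r : M, y * (y * r) = r := fun r => by rw [← mul_assoc, hy, one_mul]
  let E : Subgroup M :=
    { carrier := {w | w = 1 ∨ w = x ∨ w = y ∨ w = x * y}
      one_mem' := Or.inl rfl
      mul_mem' := by
        rintro p q (rfl | rfl | rfl | rfl) (rfl | rfl | rfl | rfl) <;>
          simp [mul_assoc, k1, k2, k3, hx, hy, ← hxy]
      inv_mem' := by
        rintro p (rfl | rfl | rfl | rfl) <;> simp [hxi, hyi, ← hxy] }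
  have hmem : ∀ w ∈ E, w = 1 ∨ w = x ∨ w = y ∨ w = x * y := fun w hw => hw
  have hsq : ∀ w : E, w ^ 2 = 1 := by
    rintro ⟨w, hw⟩
    refine Subtype.ext ?_
    rcases hmem w hw with rfl | rfl | rfl | rfl <;> simp [pow_two, mul_assoc, k1, k2, k3, hx, hy, ← hxy]
  refine ⟨E, ⟨⟨fun p q => Subtype.ext ?_⟩⟩, fun hc => ?_, fun w => ⟨1, by rw [pow_one]; exact hsq w⟩, ?_, hmem⟩
  · show (p : M) * q = q * p
    rcases hmem p p.2 with e | e | e | e <;> rcases hmem q q.2 with e' | e' | e' | e' <;> rw [e, e'] <;>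
      simp [mul_assoc, k1, k2, k3, hx, hy, ← hxy]
  · haveI := Fintype.ofFinite E
    have hxE : x ∈ E := Or.inr (Or.inl rfl)
    have hyE : y ∈ E := Or.inr (Or.inr (Or.inl rfl))
    have h2 := hc.card_pow_eq_one_le (n := 2) (by norm_num)
    have hsub : ({1, ⟨x, hxE⟩, ⟨y, hyE⟩} : Finset E) ⊆ Finset.univ.filter (fun w : E => w ^ 2 = 1) :=
      fun w _ => Finset.mem_filter.mpr ⟨Finset.mem_univ _, hsq w⟩
    have h3 := (Finset.card_le_card hsub).trans h2
    have hne : x ≠ y := fun h => xy1 (by rw [h, hy])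
    rw [Finset.card_insert_of_notMem (by simp [Subtype.ext_iff, x1.symm, y1.symm]),
      Finset.card_insert_of_notMem (by simp [Subtype.ext_iff, hne]), Finset.card_singleton] at h3
    omega
  · have key : ∀ e : M, e * e = 1 → (∀ r ∈ R, e * r * e⁻¹ ∈ R) → e ∈ normalizer (R : Set M) :=
      fun e he h => mem_normalizer_iff.mpr fun r => ⟨h r, fun hr => by
        have := h _ hr
        rwa [show e * (e * r * e⁻¹) * e⁻¹ = (e * e) * r * (e * e)⁻¹ by group, he, inv_one, mul_one, one_mul] at this⟩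
    intro w hw
    rcases hmem w hw with e | e | e | e <;> rw [e]
    exacts [one_mem _, key x hx hnx, key y hy hny, mul_mem (key x hx hnx) (key y hy hny)]

/-- The bottom step. -/
theorem le_of_four [Finite G] {H Y A : Subgroup G} {a b : G} (hAY : A ≤ Y) (hAH : A ≤ H) (hA : IsPGroup 2 A)
    (hAc : ∀ x ∈ A, ∀ y ∈ A, x * y = y * x) (ha : a * a = 1) (hb : b * b = 1) (hab : a * b = b * a)
    (hYn : ∀ e ∈ ({a, b} : Set G), ∀ y ∈ Y, e * y * e⁻¹ ∈ Y)
    (hAn : ∀ e ∈ ({a, b} : Set G), ∀ x ∈ A, e * x * e⁻¹ ∈ A)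
    (hcen : ∀ e ∈ ({a, b, a * b} : Set G), ∀ y ∈ Y, y * e * y⁻¹ * e⁻¹ ∈ A → y ∈ H)
    (hHY : ∀ y ∈ H, y ∈ Y → y ∈ normalizer (A : Set G) → (∀ x ∈ A, y * x = x * y) ∧ ∃ n, Odd n ∧ y ^ n ∈ A) :
    Y ≤ H := by
  classical
  haveI : Fact (Nat.Prime 2) := ⟨Nat.prime_two⟩
  have hN : ∀ e ∈ ({a, b, a * b} : Set G), e ∈ normalizer (A : Set G) := by
    have key : ∀ e : G, e * e = 1 → (∀ x ∈ A, e * x * e⁻¹ ∈ A) → e ∈ normalizer (A : Set G) := fun e he h =>
      mem_normalizer_iff.mpr fun x => ⟨h x, fun hx => by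
        have := h _ hx
        rwa [show e * (e * x * e⁻¹) * e⁻¹ = (e * e) * x * (e * e)⁻¹ by group, he, inv_one, mul_one, one_mul] at this⟩
    have h1 := key a ha (hAn a (Or.inl rfl))
    have h2 := key b hb (hAn b (Or.inr rfl))
    rintro e (rfl | rfl | rfl)
    exacts [h1, h2, mul_mem h1 h2]
  -- the normaliser of `A` in `Y` lies in `H`
  set R := Y ⊓ normalizer (A : Set G) with hR
  have hARn : A ≤ normalizer (A : Set G) := Subgroup.le_normalizer
  have hoddR : R ≤ H ∧ ∀ y ∈ R, ∀ j : ℕ, y ^ 2 ^ j ∈ A → y ∈ A := by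
    have fin : R ≤ H → R ≤ H ∧ ∀ y ∈ R, ∀ j : ℕ, y ^ 2 ^ j ∈ A → y ∈ A := fun h => ⟨h, fun y hy j hj => by
      obtain ⟨n, hn, hyn⟩ := (hHY y (h hy) hy.1 hy.2).2
      obtain ⟨p, q, hpq⟩ : ∃ p q : ℤ, (n : ℤ) * p + ((2 : ℤ) ^ j) * q = 1 := by
        have hc : IsCoprime (n : ℤ) ((2 : ℤ) ^ j) := by
          rw [show ((2 : ℤ) ^ j) = ((2 ^ j : ℕ) : ℤ) by push_cast; rfl]
          exact Nat.isCoprime_iff_coprime.mpr ((Nat.coprime_two_right.mpr hn).pow_right j)
        obtain ⟨p, q, h⟩ := hc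
        exact ⟨p, q, by linarith⟩
      have h1 : y = (y ^ n) ^ p * (y ^ 2 ^ j) ^ q := by
        rw [← zpow_natCast y n, ← zpow_mul, ← zpow_natCast y (2 ^ j), ← zpow_mul, ← zpow_add,
          show ((2 ^ j : ℕ) : ℤ) = (2 : ℤ) ^ j by push_cast; rfl, hpq, zpow_one]
      rw [h1]
      exact mul_mem (zpow_mem hyn p) (zpow_mem hj q)⟩
    -- an element of the four group inside `A`
    by_cases hin : a ∈ A ∨ b ∈ A ∨ a * b ∈ A
    · obtain ⟨e, he, heA⟩ : ∃ e ∈ ({a, b, a * b} : Set G), e ∈ A := by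
        rcases hin with h | h | h
        exacts [⟨a, Or.inl rfl, h⟩, ⟨b, Or.inr (Or.inl rfl), h⟩, ⟨a * b, Or.inr (Or.inr rfl), h⟩]
      exact fin fun y hy => hcen e he y hy.1 (mul_mem ((mem_normalizer_iff.mp hy.2 e).mp heA) (inv_mem heA))
    push Not at hin
    set N := normalizer (A : Set G)
    let An : Subgroup N := A.subgroupOf N
    let π := QuotientGroup.mk' An
    have hπ : ∀ x : N, π x = 1 ↔ (x : G) ∈ A := fun x => QuotientGroup.eq_one_iff x
    let Rb : Subgroup (N ⧸ An) := (R.subgroupOf N).map π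
    set ab : N ⧸ An := π ⟨a, hN a (Or.inl rfl)⟩ with hab'
    set bb : N ⧸ An := π ⟨b, hN b (Or.inr (Or.inl rfl))⟩ with hbb'
    have a2 : ab * ab = 1 := by rw [← map_mul, hπ]; show a * a ∈ A; rw [ha]; exact A.one_mem
    have b2 : bb * bb = 1 := by rw [← map_mul, hπ]; show b * b ∈ A; rw [hb]; exact A.one_mem
    have abc : ab * bb = bb * ab := by rw [← map_mul, ← map_mul]; exact congrArg π (Subtype.ext hab)
    have a1 : ab ≠ 1 := fun h => hin.1 ((hπ _).mp h)
    have b1 : bb ≠ 1 := fun h => hin.2.1 ((hπ _).mp h)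
    have ab1 : ab * bb ≠ 1 := fun h => hin.2.2 (by rw [← map_mul, hπ] at h; exact h)
    have hRn : ∀ e ∈ ({a, b} : Set G), ∀ (he : e ∈ N), ∀ r ∈ Rb, π ⟨e, he⟩ * r * (π ⟨e, he⟩)⁻¹ ∈ Rb := by
      rintro e he heN _ ⟨y, hy, rfl⟩
      refine ⟨⟨e, heN⟩ * y * ⟨e, heN⟩⁻¹, ?_, by rw [map_mul, map_mul, map_inv]⟩
      show e * (y : G) * e⁻¹ ∈ R
      exact ⟨hYn e he y (mem_subgroupOf.mp hy).1, N.mul_mem (N.mul_mem heN y.2) (N.inv_mem heN)⟩
    -- a fixed coset has a representative in `H`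
    have hlift : ∀ e ∈ ({a, b, a * b} : Set G), ∀ (he : e ∈ N), ∀ y : N, y ∈ R.subgroupOf N →
        Commute (π ⟨e, he⟩) (π y) → (y : G) ∈ H := by
      intro e he heN y hy hc
      refine hcen e he y (mem_subgroupOf.mp hy).1 ?_
      have h1 : π (y * ⟨e, heN⟩ * y⁻¹ * ⟨e, heN⟩⁻¹) = 1 := by
        rw [map_mul, map_mul, map_mul, map_inv, map_inv, ← hc.eq, mul_inv_cancel_right, mul_inv_cancel]
      exact (hπ _).mp h1
    have hodd : Odd (Nat.card Rb) := by
      refine odd_card_of_invol Rb a2 (hRn a (Or.inl rfl) _) ?_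
      rintro _ ⟨y, hy, rfl⟩ hc
      obtain ⟨n, hn, hyn⟩ := (hHY y (hlift a (Or.inl rfl) _ y hy hc) (mem_subgroupOf.mp hy).1 y.2).2
      refine hn.of_dvd_nat (orderOf_dvd_of_pow_eq_one ?_)
      rw [← map_pow, hπ]
      rw [SubgroupClass.coe_pow]
      exact hyn
    obtain ⟨E, _, hEc, hEp, hEn, hEmem⟩ :=
      exists_four a2 b2 abc a1 b1 ab1 (hRn a (Or.inl rfl) _) (hRn b (Or.inr rfl) _)
    obtain ⟨k, hk⟩ := hEp.exists_card_eq
    have hgen := coprime_generated_by_centralizers hEc hEn (hk ▸ (Nat.coprime_two_left.mpr hodd).pow_left k)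
    refine fin fun y hy => ?_
    have hmem : π ⟨y, hy.2⟩ ∈ ((H ⊓ R).subgroupOf N).map π := by
      have hy' : π ⟨y, hy.2⟩ ∈ Rb := ⟨⟨y, hy.2⟩, hy, rfl⟩
      rw [← hgen] at hy'
      refine (iSup₂_le ?_ : _ ≤ ((H ⊓ R).subgroupOf N).map π) hy'
      rintro x ⟨hx, hx1⟩ _ ⟨⟨w, hw, rfl⟩, hwc⟩
      refine ⟨w, ⟨?_, hw⟩, rfl⟩
      have hc : Commute x (π w) := (mem_centralizer_singleton_iff.mp hwc).symm
      rcases hEmem x hx with rfl | rfl | rfl | rfl
      · exact absurd rfl hx1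
      · exact hlift a (Or.inl rfl) _ w hw hc
      · exact hlift b (Or.inr (Or.inl rfl)) _ w hw hc
      · refine hlift (a * b) (Or.inr (Or.inr rfl)) (mul_mem (hN a (Or.inl rfl)) (hN b (Or.inr (Or.inl rfl)))) w hw ?_
        rwa [show (⟨a * b, _⟩ : N) = ⟨a, hN a (Or.inl rfl)⟩ * ⟨b, hN b (Or.inr (Or.inl rfl))⟩ from rfl, map_mul]
    obtain ⟨y', hy', e⟩ := hmem
    have h2 : y'⁻¹ * ⟨y, hy.2⟩ ∈ An := by
      show _ ∈ A.subgroupOf N
      rw [mem_subgroupOf]
      refine (hπ _).mp ?_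
      rw [map_mul, map_inv, e, inv_mul_cancel]
    have h3 := H.mul_mem hy'.1 (hAH (mem_subgroupOf.mp h2))
    simpa using h3
  obtain ⟨hRH, hA2⟩ := hoddR
  -- `A` is a Sylow subgroup of `Y`, central in its normaliser
  obtain ⟨S, hS⟩ := (hA.comap_of_injective Y.subtype Y.subtype_injective).exists_le_sylow
    (P := A.comap Y.subtype)
  have hSA : (S : Subgroup Y) = A.comap Y.subtype := by
    refine le_antisymm ?_ hS
    by_contra hlt
    have h1 : A.comap Y.subtype < (S : Subgroup Y) := lt_of_le_not_ge hS hlt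
    haveI : Finite (S : Subgroup Y) := inferInstance
    haveI := S.2.isNilpotent
    set A' := (A.comap Y.subtype).subgroupOf (S : Subgroup Y) with hA'
    have hA'top : A' < ⊤ := lt_top_iff_ne_top.mpr fun h => hlt (subgroupOf_eq_top.mp h)
    obtain ⟨y, hy, hyA⟩ := SetLike.exists_of_lt (Group.normalizerCondition_of_isNilpotent A' hA'top)
    have hyR : ((y : Y) : G) ∈ R := by
      refine ⟨(y : Y).2, mem_normalizer_iff.mpr fun x => ?_⟩
      constructor
      · intro hx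
        exact (mem_normalizer_iff.mp hy ⟨⟨x, hAY hx⟩, hS hx⟩).mp hx
      · intro hx
        have h := (mem_normalizer_iff.mp (inv_mem hy) ⟨⟨_, hAY hx⟩, hS hx⟩).mp hx
        have h' : ((y : Y) : G)⁻¹ * (((y : Y) : G) * x * ((y : Y) : G)⁻¹) * ((y : Y) : G) ∈ A := by
          simpa [hA', mem_subgroupOf] using h
        simpa [mul_assoc] using h'
    obtain ⟨j, hj⟩ := S.2 y
    refine hyA (hA2 _ hyR j ?_)
    have : (((y : Y) : G)) ^ 2 ^ j = 1 := congrArg (fun t : (S : Subgroup Y) => (((t : Y) : G))) hj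
    show ((y : Y) : G) ^ 2 ^ j ∈ A
    rw [this]
    exact A.one_mem
  have hSc : normalizer ((S : Subgroup Y) : Set Y) ≤ centralizer ((S : Subgroup Y) : Set Y) := by
    intro y hy
    rw [hSA] at hy
    have hyR : (y : G) ∈ R := by
      refine ⟨y.2, mem_normalizer_iff.mpr fun x => ?_⟩
      constructor
      · intro hx
        exact (mem_normalizer_iff.mp hy ⟨x, hAY hx⟩).mp hx
      · intro hx
        have h := (mem_normalizer_iff.mp (inv_mem hy) ⟨_, hAY hx⟩).mp hx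
        have h' : (y : G)⁻¹ * ((y : G) * x * (y : G)⁻¹) * (y : G) ∈ A := by simpa [mem_subgroupOf] using h
        simpa [mul_assoc] using h'
    refine mem_centralizer_iff.mpr fun x hx => ?_
    rw [SetLike.mem_coe, hSA] at hx
    exact Subtype.ext ((hHY y (hRH hyR) y.2 hyR.2).1 x hx).symm
  set O := (MonoidHom.transferSylow S hSc).ker with hO
  have hcompl := MonoidHom.ker_transferSylow_isComplement' S hSc
  have hOodd : Odd (Nat.card O) := by
    rw [← Nat.not_even_iff_odd, even_iff_two_dvd]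
    exact MonoidHom.not_dvd_card_ker_transferSylow S hSc
  have hOchar : ∀ y : Y, Odd (orderOf y) → y ∈ O := by
    intro y hy
    rw [← QuotientGroup.eq_one_iff, ← orderOf_eq_one_iff]
    obtain ⟨n, hn⟩ := S.2.exists_card_eq
    refine Nat.eq_one_of_dvd_coprimes ((Nat.coprime_two_left.mpr hy).pow_left n) ?_
      (orderOf_map_dvd (QuotientGroup.mk' O) y)
    rw [← hn, ← hcompl.symm.index_eq_card, Subgroup.index_eq_card]
    exact orderOf_dvd_natCard _
  set O' := O.map Y.subtype with hO'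
  have hO'odd : Odd (Nat.card O') := by rw [hO', card_map_of_injective Y.subtype_injective]; exact hOodd
  have hO'n : ∀ e ∈ ({a, b} : Set G), ∀ x ∈ O', e * x * e⁻¹ ∈ O' := by
    rintro e he _ ⟨x, hx, rfl⟩
    refine ⟨⟨_, hYn e he x x.2⟩, hOchar _ ?_, rfl⟩
    rw [← Subgroup.orderOf_coe]
    show Odd (orderOf (MulAut.conj e (x : G)))
    rw [MulEquiv.orderOf_eq, Subgroup.orderOf_coe]
    exact hOodd.of_dvd_nat (Subgroup.orderOf_dvd_natCard O hx)
  have hOH : O' ≤ H := by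
    -- elements of the odd part fixed by an element of the four group
    have hfixH : ∀ e ∈ ({a, b, a * b} : Set G), ∀ x ∈ O', x * e = e * x → x ∈ H := by
      rintro e he _ ⟨x, -, rfl⟩ hc
      refine hcen e he x x.2 ?_
      rw [show (x : G) * e = e * x from hc, mul_inv_cancel_right, mul_inv_cancel]
      exact A.one_mem
    by_cases h1 : a = 1 ∨ b = 1
    · obtain ⟨e, he, he1⟩ : ∃ e ∈ ({a, b, a * b} : Set G), e = 1 := by
        rcases h1 with h | h
        exacts [⟨a, Or.inl rfl, h⟩, ⟨b, Or.inr (Or.inl rfl), h⟩]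
      exact fun x hx => hfixH e he x hx (by rw [he1, mul_one, one_mul])
    by_cases h2 : a * b = 1
    · exact fun x hx => hfixH _ (Or.inr (Or.inr rfl)) x hx (by rw [h2, mul_one, one_mul])
    push Not at h1
    obtain ⟨E, _, hEc, hEp, hEn, hEmem⟩ :=
      exists_four ha hb hab h1.1 h1.2 h2 (hO'n a (Or.inl rfl)) (hO'n b (Or.inr rfl))
    obtain ⟨k, hk⟩ := hEp.exists_card_eq
    have hgen := coprime_generated_by_centralizers hEc hEn (hk ▸ (Nat.coprime_two_left.mpr hO'odd).pow_left k)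
    rw [← hgen]
    refine iSup₂_le fun x hx y hy => ?_
    have hy2 : y * x = x * y := mem_centralizer_singleton_iff.mp hy.2
    rcases hEmem x hx.1 with rfl | rfl | rfl | rfl
    · exact absurd rfl hx.2
    · exact hfixH _ (Or.inl rfl) y hy.1 hy2
    · exact hfixH _ (Or.inr (Or.inl rfl)) y hy.1 hy2
    · exact hfixH _ (Or.inr (Or.inr rfl)) y hy.1 hy2
  intro y hy
  obtain ⟨⟨o, s⟩, hos⟩ := hcompl.2 ⟨y, hy⟩
  have e : ((o : Y) : G) * ((s : Y) : G) = y := congrArg Subtype.val hos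
  rw [← e]
  refine H.mul_mem (hOH ⟨o, o.2, rfl⟩) (hAH ?_)
  have hs : (s : Y) ∈ A.comap Y.subtype := hSA ▸ s.2
  exact hs

end CfsgLib.StdHe
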