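import Cfsg.Agent.Lib.HeldRecog.Codes
import Cfsg.Agent.Lib.StdHe.Core
import Cfsg.Agent.Lib.StdHe.RecData

/-!
The model side of the recursion: classes of codes and the checks of the certificates.
-/

set_option autoImplicit false
set_option maxRecDepth 100000

namespace CfsgLib.StdHe

open CfsgLib.HeldRecog CfsgLib.HeCent CfsgLib.CosetEnum

theorem inv_mem_of_clsOf {c : ℕ} (h : clsOf c < 8) : ∃ l ∈ invT, ∃ e ∈ l, e.1 = c ∧ e.2.1 = clsOf c := by
  have key : ∀ l : List (ℕ × ℕ × ℕ), (List.rec 8 (fun e _ ih => cond (Nat.beq e.1 c) e.2.1 ih) l : ℕ) < 8 →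
      ∃ e ∈ l, e.1 = c ∧ e.2.1 = (List.rec 8 (fun e _ ih => cond (Nat.beq e.1 c) e.2.1 ih) l : ℕ) := by
    intro l
    induction l with
    | nil => intro h; exact absurd h (by simp)
    | cons e l ih =>
      intro hl
      by_cases he : e.1 = c
      · exact ⟨e, List.mem_cons_self, he, by simp [he]⟩
      · have hb : Nat.beq e.1 c = false := by
          rw [← Bool.not_eq_true]; exact fun h' => he (Nat.beq_eq.mp h')
        simp only [hb, cond_false] at hl ⊢
        obtain ⟨e', he', h1, h2⟩ := ih hl
        exact ⟨e', List.mem_cons_of_mem _ he', h1, h2⟩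
  obtain ⟨e, he, h1, h2⟩ := key _ h
  by_cases hi : Nat.mod (Nat.div c 32) 64 < invT.length
  · exact ⟨_, getD_mem hi [], e, he, h1, h2⟩
  · rw [List.getD_eq_default _ _ (Nat.le_of_not_lt hi)] at he
    exact absurd he List.not_mem_nil

/-- The classes of codes are invariant under the generators, and the representatives have their own class. -/
noncomputable def clsOK : Bool :=
  (invT.all fun l => l.all fun e => cgCodes.all fun g =>
    force (mulF (mulF g e.1) g) fun d => Nat.beq (clsOf d) e.2.1) &&
  (List.range 8).all fun k => Nat.beq (clsOf (clsCode k)) k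

theorem cls_ok : clsOK = true := by decide +kernel

theorem clsOf_of_inCls {k : ℕ} (hk : k < 8) {y : HS} {c : ℕ} (hy : InCls k y) (hc : HasCode y c) : clsOf c = k := by
  have h := cls_ok
  simp only [clsOK, Bool.and_eq_true, List.all_eq_true, List.mem_range, force_eq, Nat.beq_eq] at h
  have key : ∀ w : List ℕ, ∀ d, HasCode (wEl w * rep k * (wEl w)⁻¹) d → clsOf d = k := by
    intro w
    induction w with
    | nil =>
      intro d hd
      rw [show wEl [] = 1 from rfl, one_mul, inv_one, mul_one] at hd
      rw [hd.eq (rep_hasCode hk)]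
      exact h.2 k hk
    | cons i w ih =>
      intro d hd
      have e : wEl (i :: w) * rep k * (wEl (i :: w))⁻¹ = gen i * (wEl w * rep k * (wEl w)⁻¹) * gen i := by
        rw [show wEl (i :: w) = gen i * wEl w by simp [wEl], mul_inv_rev, inv_eq_of_mul_eq_one_right (gen_sq i)]
        group
      obtain ⟨p, hp⟩ := elt_surjective (wEl w * rep k * (wEl w)⁻¹)
      have hd' : HasCode (wEl w * rep k * (wEl w)⁻¹) (prodF p.1 p.2) := hp ▸ hasCode_elt p
      by_cases hi : i < 4
      · rw [e] at hd
        have h0 := ih _ hd'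
        obtain ⟨l, hl, en, hen, h1, h2⟩ := inv_mem_of_clsOf (c := prodF p.1 p.2) (h0 ▸ hk)
        have hlen : cgCodes.length = 4 := by
          have := cg_ok
          simp only [cgOK, Bool.and_eq_true] at this
          exact Nat.eq_of_beq_eq_true this.1
        have h3 := h.1 l hl en hen (cgCodes.getD i 0) (getD_mem (hlen.symm ▸ hi) 0)
        have hg : HasCode (gen i) (cgCodes.getD i 0) := by
          have := hasCode_gen i
          rwa [gcode, if_pos hi] at this
        rw [hd.eq ((hg.mul hd').mul hg), ← h1, h3, h2, h0]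
      · rw [e, show gen i = 1 by rw [gen, dif_neg hi], one_mul, mul_one] at hd
        exact ih _ hd
  obtain ⟨g, rfl⟩ := hy
  obtain ⟨w, rfl⟩ := exists_word g
  exact key w c hc

theorem inCls_of_clsOf {k : ℕ} (hk : k < 8) {y : HS} {c : ℕ} (hc : HasCode y c) (h : clsOf c = k) : InCls k y := by
  subst h
  exact inv_entry hc hk

/-- Membership in a list of codes. -/
noncomputable def inL (L : List ℕ) (c : ℕ) : Bool := L.any fun a => Nat.beq a c

theorem inL_iff {L : List ℕ} {c : ℕ} : inL L c = true ↔ c ∈ L := by
  simp [inL, List.any_eq_true]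

theorem commL_iff {L : List ℕ} {c : ℕ} : commL L c = true ↔ ∀ a ∈ L, mulF c a = mulF a c := by
  simp [commL, List.all_eq_true]

/-- The list is closed under products and has the identity. -/
noncomputable def subOK (L : List ℕ) : Bool := inL L oneCode && L.all fun a => L.all fun b => inL L (mulF a b)

/-- The subgroup of the elements with codes in a closed list. -/
noncomputable def codeSub (L : List ℕ) (h : subOK L = true) : Subgroup HS :=
  let M : Submonoid HS :=
    { carrier := {x | ∃ c ∈ L, HasCode x c}
      one_mem' := ⟨oneCode, inL_iff.mp (Bool.and_eq_true _ _ |>.mp h).1, HasCode.one⟩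
      mul_mem' := by
        rintro x y ⟨a, ha, hx⟩ ⟨b, hb, hy⟩
        exact ⟨_, inL_iff.mp (List.all_eq_true.mp (List.all_eq_true.mp (Bool.and_eq_true _ _ |>.mp h).2 a ha) b hb),
          hx.mul hy⟩ }
  { M with
    inv_mem' := fun {x} hx => by
      obtain ⟨k, hk⟩ := (mem_powers_iff_mem_zpowers.mpr (inv_mem (Subgroup.mem_zpowers x)) : x⁻¹ ∈ Submonoid.powers x)
      exact hk ▸ M.pow_mem hx k }

theorem mem_codeSub {L : List ℕ} {h : subOK L = true} {x : HS} : x ∈ codeSub L h ↔ ∃ c ∈ L, HasCode x c := Iff.rfl

/-- The code lies in one of the two classes. -/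
noncomputable def isTb (kQ c : ℕ) : Bool := force (clsOf c) fun k => Nat.beq k 0 || Nat.beq k kQ

theorem isTb_iff {kQ c : ℕ} : isTb kQ c = true ↔ clsOf c = 0 ∨ clsOf c = kQ := by
  simp [isTb, force_eq]

/-- The class which is sought. -/
def Node.sought (kQ : ℕ) (n : Node) : ℕ := cond n.q kQ 0

/-- An extension is covered by a later list, up to a conjugation. -/
noncomputable def actOK (Ls : List (List ℕ)) (i : ℕ) (L : List ℕ) (c : ℕ) (e : ℕ × ℕ × ℕ) : Bool :=
  Nat.beq e.1 c && (Nat.blt i e.2.1 && (Nat.blt e.2.1 Ls.length && force (codeN e.2.2) fun h =>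
    (Ls.getD e.2.1 []).all fun y => force (mulF y h) fun yh =>
      L.any fun x => Nat.beq (mulF h x) yh || Nat.beq (mulF h (mulF x c)) yh))

/-- The check of one extension of a node. -/
noncomputable def extOK (kQ : ℕ) (Ls : List (List ℕ)) (i : ℕ) (n : Node) (t c : ℕ) : Bool :=
  force (mulF c t) fun d => cond (Nat.beq (mulF d d) oneCode && (commL n.L c && (!inL n.L c &&
    inL n.L (mulF c c))))
    ((n.L.any fun x => isTb kQ (mulF x c)) || n.acts.any fun e => actOK Ls i n.L c e) true

/-- The check of a node. -/
noncomputable def nodeOK (kQ : ℕ) (Ls : List (List ℕ)) (i : ℕ) (n : Node) : Bool :=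
  subOK n.L && force (codeN n.t) fun t => force (codeN n.m) fun m =>
    (isTb kQ t && (commL n.L t && (commL n.L m && (Nat.beq (clsOf m) (n.sought kQ) &&
      n.L.all fun x => !Nat.beq (clsOf (mulF x t)) (n.sought kQ))))) && allCodes fun c => extOK kQ Ls i n t c

/-- A code normalises a list. -/
noncomputable def normL (L : List ℕ) (g : ℕ) : Bool :=
  L.all fun x => force (mulF g x) fun gx => L.any fun y => Nat.beq gx (mulF y g)

/-- The fourth iterated square of a code. -/
noncomputable def sq4 (c : ℕ) : ℕ :=
  force (mulF c c) fun a => force (mulF a a) fun b => force (mulF b b) fun d => mulF d d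

/-- The check of a bottom case. -/
noncomputable def leafOK (kQ : ℕ) (l : Leaf) : Bool :=
  subOK l.A && ((l.L.all fun x => inL l.A x) && ((l.A.all fun x => commL l.A x && Nat.beq (sq4 x) oneCode) &&
    force (codeN l.a) fun a => force (codeN l.b) fun b =>
      (isTb kQ a && (isTb kQ b && (isTb kQ (mulF a b) && (Nat.beq (mulF a b) (mulF b a) &&
        (normL l.L a && (normL l.L b && (normL l.A a && normL l.A b))))))) &&
      allCodes fun c => cond (commL l.L c) (inL l.A c) true))

/-- The nodes for a second class. -/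
def nodesOf (kQ : ℕ) : List Node := if kQ = 1 then nodes1 else nodes4

/-- The bottom cases for a second class. -/
def leavesOf (kQ : ℕ) : List Leaf := if kQ = 1 then leaves1 else leaves4

/-- All lists for a second class. -/
def listsOf (kQ : ℕ) : List (List ℕ) := (nodesOf kQ).map Node.L ++ (leavesOf kQ).map Leaf.L

end CfsgLib.StdHe
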