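import Cfsg.Agent.Lib.StdHe.Core
import Cfsg.Agent.Lib.StdHe.RecGroup
import Cfsg.Agent.Lib.StdHe.RecModel

/-!
Elementary consequences of the data: the two classes in `H`, and moving an element of one of them inside `H`.
-/

set_option autoImplicit false

namespace CfsgLib.StdHe

open Subgroup CfsgLib.HeldRecog CfsgLib.HeCent CfsgLib.CosetEnum

universe u

variable {G : Type u} [Group G] {t z : G}

theorem exists_code (y : HS) : ∃ c, HasCode y c := by
  obtain ⟨p, rfl⟩ := elt_surjective y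
  exact ⟨_, hasCode_elt p⟩

theorem hasCode_of_conj {h u : HS} {a x y : ℕ} (hh : HasCode h a) (hu : HasCode u x) (e : mulF a x = mulF y a)
    (hy : y < 2 ^ 25) : HasCode (h * u * h⁻¹) y := by
  refine ⟨?_, hy⟩
  rw [mx_mul, (hh.mul hu).1, e, ← mat_mulF, ← hh.1, Matrix.mul_assoc, ← mx_mul, mul_inv_cancel, mx_one,
    show mat oneCode = 1 from mat_one, Matrix.mul_one]

theorem IsT.conj {a : G} (h : IsT t a) (g : G) : IsT t (g * a * g⁻¹) := by
  obtain ⟨x, rfl⟩ := h
  exact ⟨g * x, by group⟩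

theorem IsT.of_conj {a g : G} (h : IsT t (g * a * g⁻¹)) : IsT t a := by
  have := h.conj g⁻¹
  rwa [show g⁻¹ * (g * a * g⁻¹) * g⁻¹⁻¹ = a by group] at this

theorem conj_mul_z {a g : G} (hg : Commute g z) : g * a * g⁻¹ * z = g * (a * z) * g⁻¹ := by
  rw [mul_assoc (g * a) g⁻¹ z, hg.inv_left.eq]; group

/-- One of the two classes, selected by a flag. -/
def IsC (t z : G) (q : Bool) (a : G) : Prop := cond q (IsQ t z a) (IsP t z a)

theorem IsC.or {q : Bool} {a : G} (h : IsC t z q a) : IsP t z a ∨ IsQ t z a := by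
  cases q
  exacts [Or.inl h, Or.inr h]

theorem IsC.isT {q : Bool} {a : G} (h : IsC t z q a) : IsT t a := by
  cases q
  exacts [(show IsP t z a from h).1, (show IsQ t z a from h).1]

theorem IsC.conj {q : Bool} {a g : G} (h : IsC t z q a) (hg : Commute g z) : IsC t z q (g * a * g⁻¹) := by
  cases q
  · exact ⟨(show IsP t z a from h).1.conj g, conj_mul_z hg ▸ (show IsP t z a from h).2.conj g⟩
  · refine ⟨(show IsQ t z a from h).1.conj g, fun e => (show IsQ t z a from h).2 ?_⟩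
    exact (conj_mul_z hg ▸ e).of_conj

theorem rep_sq_ok : ((List.range 8).all fun k => Nat.beq (mulF (clsCode k) (clsCode k)) oneCode &&
    !Nat.beq (clsCode k) oneCode) = true := by decide +kernel

theorem inCls_sq {k : ℕ} (hk : k < 8) {y : HS} (h : InCls k y) : y * y = 1 ∧ y ≠ 1 := by
  have h0 := List.all_eq_true.mp rep_sq_ok k (List.mem_range.mpr hk)
  simp only [Bool.and_eq_true, Bool.not_eq_true', ← Bool.not_eq_true, Nat.beq_eq] at h0
  obtain ⟨c, rfl⟩ := h
  have h2 : rep k * rep k = 1 := (((rep_hasCode hk).mul (rep_hasCode hk)).eq_iff HasCode.one).mpr h0.1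
  have h1 : rep k ≠ 1 := fun e => h0.2 (((rep_hasCode hk).eq_iff HasCode.one).mp e)
  refine ⟨?_, fun e => h1 ?_⟩
  · rw [show c * rep k * c⁻¹ * (c * rep k * c⁻¹) = c * (rep k * rep k) * c⁻¹ by group, h2]; group
  · rw [show rep k = c⁻¹ * (c * rep k * c⁻¹) * c by group, e]; group

namespace Core

variable {L : Subgroup G} (D : Core L t z)

/-- The class of a flag. -/
def kOf (q : Bool) : ℕ := cond q D.kQ 0

theorem kOf_lt (q : Bool) : D.kOf q < 8 := by
  rcases D.kQ_mem with h | h <;> cases q <;> simp [kOf, h]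

theorem sq_of_isC (D : Core L t z) {q : Bool} {a : G} (h : IsC t z q a) : a * a = 1 ∧ a ≠ 1 := by
  obtain ⟨g, rfl⟩ := h.isT
  have h2 : t * t = 1 := by rw [← pow_two, ← D.t_ord, pow_orderOf_eq_one]
  refine ⟨?_, fun e => ?_⟩
  · rw [show g * t * g⁻¹ * (g * t * g⁻¹) = g * (t * t) * g⁻¹ by group, h2]; group
  · have h1 : t = 1 := by rw [show t = g⁻¹ * (g * t * g⁻¹) * g by group, e]; group
    have := D.t_ord
    rw [h1, orderOf_one] at this
    exact absurd this (by norm_num)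

theorem z_comm {x : G} (hx : x ∈ D.H) : Commute x z :=
  mem_centralizer_singleton_iff.mp (D.le_cent hx)

theorem inCls_of_isC {q : Bool} {x : D.H} (h : IsC t z q (x : G)) : InCls (D.kOf q) (D.ρ x) := by
  obtain ⟨h2, h1⟩ := D.sq_of_isC h
  have e2 : x * x = 1 := Subtype.ext h2
  have e1 : x ≠ 1 := fun e => h1 (congrArg Subtype.val e)
  cases q
  · exact (D.p_iff x e2 e1).mp h
  · exact (D.q_iff x e2 e1).mp h

theorem isC_of_inCls {q : Bool} {x : D.H} (e2 : x * x = 1) (h : InCls (D.kOf q) (D.ρ x)) :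
    IsC t z q (x : G) := by
  have e1 : x ≠ 1 := fun e => (inCls_sq (D.kOf_lt q) h).2 (by rw [e, map_one])
  cases q
  · exact (D.p_iff x e2 e1).mpr h
  · exact (D.q_iff x e2 e1).mpr h

/-- An element whose code lies in the two classes. -/
theorem isC_of_isTb {x : D.H} (e2 : x * x = 1) {c : ℕ} (hc : HasCode (D.ρ x) c) (h : isTb D.kQ c = true) :
    ∃ q, IsC t z q (x : G) := by
  rcases isTb_iff.mp h with h | h
  · exact ⟨false, D.isC_of_inCls e2 (inCls_of_clsOf (D.kOf_lt false) hc h)⟩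
  · exact ⟨true, D.isC_of_inCls e2 (inCls_of_clsOf (D.kOf_lt true) hc h)⟩

/-- Elements of a 2-subgroup with the same image are equal. -/
theorem eq_of_code [Finite G] {P : Subgroup D.H} (hP : IsPGroup 2 P) {x y : D.H} (hx : x ∈ P) (hy : y ∈ P)
    (e : D.ρ x = D.ρ y) : x = y := by
  refine mul_inv_eq_one.mp (eq_one_of_ker D.ker_odd hP (P.mul_mem hx (P.inv_mem hy)) ?_)
  rw [map_mul, map_inv, e, mul_inv_cancel]

/-- Moving an element of one of the classes inside `H`. -/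
theorem move [Finite G] {q : Bool} {a d : G} (ha : a ∈ D.H) (hc : IsC t z q a) (hd : Commute d z)
    (hb : d * a * d⁻¹ ∈ D.H) : d ∈ D.H := by
  have hcb := hc.conj hd
  obtain ⟨c1, e1⟩ := D.inCls_of_isC (x := ⟨a, ha⟩) hc
  obtain ⟨c2, e2⟩ := D.inCls_of_isC (x := ⟨_, hb⟩) hcb
  obtain ⟨h, hh⟩ := D.surj (c2 * c1⁻¹)
  set x : D.H := h * ⟨a, ha⟩ * h⁻¹ with hx
  set y : D.H := ⟨_, hb⟩
  have e : D.ρ x = D.ρ y := by rw [hx, map_mul, map_mul, map_inv, hh, e1, e2]; group
  have a2 : (⟨a, ha⟩ : D.H) * ⟨a, ha⟩ = 1 := Subtype.ext (D.sq_of_isC hc).1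
  have x2 : x * x = 1 := by
    rw [hx, show h * ⟨a, ha⟩ * h⁻¹ * (h * ⟨a, ha⟩ * h⁻¹) = h * ((⟨a, ha⟩ : D.H) * ⟨a, ha⟩) * h⁻¹ by group, a2]
    group
  have y2 : y * y = 1 := Subtype.ext (D.sq_of_isC hcb).1
  set u := y * x with hu
  have hk : u ∈ D.ρ.ker := by rw [MonoidHom.mem_ker, hu, map_mul, e, ← map_mul, y2, map_one]
  obtain ⟨j, hj⟩ := D.ker_odd
  have hu1 : u ^ (2 * j + 1) = 1 := by
    have := congrArg Subtype.val (pow_card_eq_one' (G := D.ρ.ker) (x := ⟨u, hk⟩))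
    rwa [SubgroupClass.coe_pow, hj] at this
  have hxu : x * u * x⁻¹ = u⁻¹ := by
    clear_value x
    rw [hu, mul_inv_rev, inv_eq_of_mul_eq_one_right x2, inv_eq_of_mul_eq_one_right y2,
      show x * (y * x) * x = x * y * (x * x) by group, x2, mul_one]
  set g := u ^ (j + 1) with hg
  have hxg : x * g * x⁻¹ = g⁻¹ := by rw [hg, ← conj_pow, hxu, inv_pow]
  have key : g * x * g⁻¹ = y := by
    calc g * x * g⁻¹ = g * (x * g⁻¹ * x⁻¹) * x := by group
      _ = g * g * x := by rw [show x * g⁻¹ * x⁻¹ = (x * g * x⁻¹)⁻¹ by group, hxg, inv_inv]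
      _ = u ^ (2 * j + 1) * u * x := by rw [hg, ← pow_add, ← pow_succ, show j + 1 + (j + 1) = 2 * j + 1 + 1 by ring]
      _ = y := by rw [hu1, one_mul, hu, mul_assoc, x2, mul_one]
  set m : D.H := g * h
  have hm : (m : G) * a * (m : G)⁻¹ = d * a * d⁻¹ := by
    have : m * ⟨a, ha⟩ * m⁻¹ = y := by rw [← key, hx]; simp only [m]; group
    exact congrArg Subtype.val this
  have hmem : (m : G)⁻¹ * d ∈ centralizer ({z} : Set G) ⊓ centralizer ({a} : Set G) := by
    refine ⟨(centralizer ({z} : Set G)).mul_mem ((centralizer ({z} : Set G)).inv_mem (D.le_cent m.2))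
      (mem_centralizer_singleton_iff.mpr hd), ?_⟩
    refine mem_centralizer_singleton_iff.mpr ?_
    calc (m : G)⁻¹ * d * a = (m : G)⁻¹ * (d * a * d⁻¹) * d := by group
      _ = a * ((m : G)⁻¹ * d) := by rw [← hm]; group
  have := D.H.mul_mem m.2 (D.cent_le a ha hc.or hmem)
  rwa [mul_inv_cancel_left] at this

end Core

end CfsgLib.StdHe
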