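import Cfsg.Agent.Lib.StdHe.RecModel

/-!
The checks of the certificates for the representative `1` of the second class.
-/

set_option autoImplicit false
set_option maxRecDepth 100000

namespace CfsgLib.StdHe

theorem node1_0 :
    nodeOK 1 (listsOf 1) 0 ((nodesOf 1).getD 0 ⟨[], false, 0, 0, []⟩) = true := by
  decide +kernel

theorem node1_1 :
    nodeOK 1 (listsOf 1) 1 ((nodesOf 1).getD 1 ⟨[], false, 0, 0, []⟩) = true := by
  decide +kernel

theorem node1_2 :
    nodeOK 1 (listsOf 1) 2 ((nodesOf 1).getD 2 ⟨[], false, 0, 0, []⟩) = true := by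
  decide +kernel

theorem node1_3 :
    nodeOK 1 (listsOf 1) 3 ((nodesOf 1).getD 3 ⟨[], false, 0, 0, []⟩) = true := by
  decide +kernel

theorem node1_4 :
    nodeOK 1 (listsOf 1) 4 ((nodesOf 1).getD 4 ⟨[], false, 0, 0, []⟩) = true := by
  decide +kernel

theorem node1_5 :
    nodeOK 1 (listsOf 1) 5 ((nodesOf 1).getD 5 ⟨[], false, 0, 0, []⟩) = true := by
  decide +kernel

theorem node1_6 :
    nodeOK 1 (listsOf 1) 6 ((nodesOf 1).getD 6 ⟨[], false, 0, 0, []⟩) = true := by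
  decide +kernel

theorem node1_7 :
    nodeOK 1 (listsOf 1) 7 ((nodesOf 1).getD 7 ⟨[], false, 0, 0, []⟩) = true := by
  decide +kernel

theorem node1_8 :
    nodeOK 1 (listsOf 1) 8 ((nodesOf 1).getD 8 ⟨[], false, 0, 0, []⟩) = true := by
  decide +kernel

theorem leaf1_0 : leafOK 1 ((leavesOf 1).getD 0 ⟨[], [], 0, 0⟩) = true := by decide +kernel

theorem leaf1_1 : leafOK 1 ((leavesOf 1).getD 1 ⟨[], [], 0, 0⟩) = true := by decide +kernel

theorem leaf1_2 : leafOK 1 ((leavesOf 1).getD 2 ⟨[], [], 0, 0⟩) = true := by decide +kernel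

theorem leaf1_3 : leafOK 1 ((leavesOf 1).getD 3 ⟨[], [], 0, 0⟩) = true := by decide +kernel

theorem leaf1_4 : leafOK 1 ((leavesOf 1).getD 4 ⟨[], [], 0, 0⟩) = true := by decide +kernel

theorem leaf1_5 : leafOK 1 ((leavesOf 1).getD 5 ⟨[], [], 0, 0⟩) = true := by decide +kernel

theorem leaf1_6 : leafOK 1 ((leavesOf 1).getD 6 ⟨[], [], 0, 0⟩) = true := by decide +kernel

theorem leaf1_7 : leafOK 1 ((leavesOf 1).getD 7 ⟨[], [], 0, 0⟩) = true := by decide +kernel

theorem node_ok1 {i : ℕ} (hi : i < 9) :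
    nodeOK 1 (listsOf 1) i ((nodesOf 1).getD i ⟨[], false, 0, 0, []⟩) = true :=
  match i, hi with
  | 0, _ => node1_0
  | 1, _ => node1_1
  | 2, _ => node1_2
  | 3, _ => node1_3
  | 4, _ => node1_4
  | 5, _ => node1_5
  | 6, _ => node1_6
  | 7, _ => node1_7
  | 8, _ => node1_8
  | n + 9, h => absurd h (by omega)

theorem leaf_ok1 {i : ℕ} (hi : i < 8) : leafOK 1 ((leavesOf 1).getD i ⟨[], [], 0, 0⟩) = true :=
  match i, hi with
  | 0, _ => leaf1_0
  | 1, _ => leaf1_1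
  | 2, _ => leaf1_2
  | 3, _ => leaf1_3
  | 4, _ => leaf1_4
  | 5, _ => leaf1_5
  | 6, _ => leaf1_6
  | 7, _ => leaf1_7
  | n + 8, h => absurd h (by omega)

end CfsgLib.StdHe
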