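import Cfsg.Agent.Lib.StdHe.RecModel

/-!
The checks of the certificates for the representative `4` of the second class.
-/

set_option autoImplicit false
set_option maxRecDepth 100000

namespace CfsgLib.StdHe

theorem node4_0 :
    nodeOK 4 (listsOf 4) 0 ((nodesOf 4).getD 0 ⟨[], false, 0, 0, []⟩) = true := by
  decide +kernel

theorem node4_1 :
    nodeOK 4 (listsOf 4) 1 ((nodesOf 4).getD 1 ⟨[], false, 0, 0, []⟩) = true := by
  decide +kernel

theorem node4_2 :
    nodeOK 4 (listsOf 4) 2 ((nodesOf 4).getD 2 ⟨[], false, 0, 0, []⟩) = true := by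
  decide +kernel

theorem node4_3 :
    nodeOK 4 (listsOf 4) 3 ((nodesOf 4).getD 3 ⟨[], false, 0, 0, []⟩) = true := by
  decide +kernel

theorem node4_4 :
    nodeOK 4 (listsOf 4) 4 ((nodesOf 4).getD 4 ⟨[], false, 0, 0, []⟩) = true := by
  decide +kernel

theorem node4_5 :
    nodeOK 4 (listsOf 4) 5 ((nodesOf 4).getD 5 ⟨[], false, 0, 0, []⟩) = true := by
  decide +kernel

theorem node4_6 :
    nodeOK 4 (listsOf 4) 6 ((nodesOf 4).getD 6 ⟨[], false, 0, 0, []⟩) = true := by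
  decide +kernel

theorem node4_7 :
    nodeOK 4 (listsOf 4) 7 ((nodesOf 4).getD 7 ⟨[], false, 0, 0, []⟩) = true := by
  decide +kernel

theorem node4_8 :
    nodeOK 4 (listsOf 4) 8 ((nodesOf 4).getD 8 ⟨[], false, 0, 0, []⟩) = true := by
  decide +kernel

theorem leaf4_0 : leafOK 4 ((leavesOf 4).getD 0 ⟨[], [], 0, 0⟩) = true := by decide +kernel

theorem leaf4_1 : leafOK 4 ((leavesOf 4).getD 1 ⟨[], [], 0, 0⟩) = true := by decide +kernel

theorem leaf4_2 : leafOK 4 ((leavesOf 4).getD 2 ⟨[], [], 0, 0⟩) = true := by decide +kernel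

theorem leaf4_3 : leafOK 4 ((leavesOf 4).getD 3 ⟨[], [], 0, 0⟩) = true := by decide +kernel

theorem leaf4_4 : leafOK 4 ((leavesOf 4).getD 4 ⟨[], [], 0, 0⟩) = true := by decide +kernel

theorem leaf4_5 : leafOK 4 ((leavesOf 4).getD 5 ⟨[], [], 0, 0⟩) = true := by decide +kernel

theorem leaf4_6 : leafOK 4 ((leavesOf 4).getD 6 ⟨[], [], 0, 0⟩) = true := by decide +kernel

theorem leaf4_7 : leafOK 4 ((leavesOf 4).getD 7 ⟨[], [], 0, 0⟩) = true := by decide +kernel

theorem node_ok4 {i : ℕ} (hi : i < 9) :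
    nodeOK 4 (listsOf 4) i ((nodesOf 4).getD i ⟨[], false, 0, 0, []⟩) = true :=
  match i, hi with
  | 0, _ => node4_0
  | 1, _ => node4_1
  | 2, _ => node4_2
  | 3, _ => node4_3
  | 4, _ => node4_4
  | 5, _ => node4_5
  | 6, _ => node4_6
  | 7, _ => node4_7
  | 8, _ => node4_8
  | n + 9, h => absurd h (by omega)

theorem leaf_ok4 {i : ℕ} (hi : i < 8) : leafOK 4 ((leavesOf 4).getD i ⟨[], [], 0, 0⟩) = true :=
  match i, hi with
  | 0, _ => leaf4_0
  | 1, _ => leaf4_1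
  | 2, _ => leaf4_2
  | 3, _ => leaf4_3
  | 4, _ => leaf4_4
  | 5, _ => leaf4_5
  | 6, _ => leaf4_6
  | 7, _ => leaf4_7
  | n + 8, h => absurd h (by omega)

end CfsgLib.StdHe
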