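import Cfsg.Agent.Lib.StdHe.RecBasic
import Cfsg.Agent.Lib.StdHe.RecCheck1
import Cfsg.Agent.Lib.StdHe.RecCheck4

/-!
The centraliser of `z` is `H`.
-/

set_option autoImplicit false

namespace CfsgLib.StdHe

open Subgroup CfsgLib.HeldRecog CfsgLib.HeCent CfsgLib.CosetEnum

universe u

variable {G : Type u} [Group G] {t z : G}

/-- All lists are closed and consist of small numbers. -/
noncomputable def listsOK (kQ : ℕ) : Bool :=
  ((listsOf kQ).all fun L => subOK L && L.all fun y => Nat.blt y (2 ^ 25)) &&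
    (leavesOf kQ).all fun l => l.A.all fun y => Nat.blt y (2 ^ 25)

theorem lists_ok1 : listsOK 1 = true := by decide +kernel

theorem lists_ok4 : listsOK 4 = true := by decide +kernel

theorem lengths_ok (kQ : ℕ) : (nodesOf kQ).length = 9 ∧ (leavesOf kQ).length = 8 := by
  unfold nodesOf leavesOf
  split_ifs <;> exact ⟨rfl, rfl⟩

theorem listsOf_node {kQ i : ℕ} (hi : i < 9) :
    (listsOf kQ).getD i [] = ((nodesOf kQ).getD i ⟨[], false, 0, 0, []⟩).L := by
  rw [listsOf, List.getD_append _ _ _ _ (by rw [List.length_map, (lengths_ok kQ).1]; exact hi)]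
  exact List.getD_map (nodesOf kQ) (⟨[], false, 0, 0, []⟩ : Node) Node.L

theorem listsOf_leaf {kQ j : ℕ} :
    (listsOf kQ).getD (9 + j) [] = ((leavesOf kQ).getD j ⟨[], [], 0, 0⟩).L := by
  rw [listsOf, List.getD_append_right _ _ _ _ (by rw [List.length_map, (lengths_ok kQ).1]; omega),
    List.length_map, (lengths_ok kQ).1, Nat.add_sub_cancel_left]
  exact List.getD_map (leavesOf kQ) (⟨[], [], 0, 0⟩ : Leaf) Leaf.L

theorem sq4_spec {x : HS} {c : ℕ} (h : HasCode x c) : HasCode (x ^ 2 ^ 4) (sq4 c) := by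
  simp only [sq4, force_eq]
  have e : x ^ 2 ^ 4 = (((x * x) * (x * x)) * ((x * x) * (x * x))) * (((x * x) * (x * x)) * ((x * x) * (x * x))) := by
    simp only [← pow_two, ← pow_mul]
    norm_num
  rw [e]
  have h1 := h.mul h
  have h2 := h1.mul h1
  have h3 := h2.mul h2
  exact h3.mul h3

namespace Core

variable {L : Subgroup G} (D : Core L t z)

/-- Every element centralising `z` and a 2-subgroup with the given codes lies in `H`. -/
def Good (Lc : List ℕ) : Prop :=
  ∀ V : Subgroup D.H, IsPGroup 2 V → (∀ x ∈ V, ∃ c ∈ Lc, HasCode (D.ρ x) c) →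
    (∀ c ∈ Lc, ∃ x ∈ V, HasCode (D.ρ x) c) → ∀ d : G, Commute d z → (∀ x ∈ V, Commute d (x : G)) → d ∈ D.H

theorem node_checked {i : ℕ} (hi : i < 9) :
    nodeOK D.kQ (listsOf D.kQ) i ((nodesOf D.kQ).getD i ⟨[], false, 0, 0, []⟩) = true := by
  rcases D.kQ_mem with h | h <;> rw [h]
  exacts [node_ok1 hi, node_ok4 hi]

theorem leaf_checked {j : ℕ} (hj : j < 8) : leafOK D.kQ ((leavesOf D.kQ).getD j ⟨[], [], 0, 0⟩) = true := by
  rcases D.kQ_mem with h | h <;> rw [h]
  exacts [leaf_ok1 hj, leaf_ok4 hj]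

theorem lists_checked : listsOK D.kQ = true := by
  rcases D.kQ_mem with h | h <;> rw [h]
  exacts [lists_ok1, lists_ok4]

theorem list_sub {i : ℕ} (hi : i < 17) :
    subOK ((listsOf D.kQ).getD i []) = true ∧ ∀ y ∈ (listsOf D.kQ).getD i [], y < 2 ^ 25 := by
  have h := D.lists_checked
  simp only [listsOK, Bool.and_eq_true, List.all_eq_true, blt_iff] at h
  have hl : i < (listsOf D.kQ).length := by
    rw [listsOf, List.length_append, List.length_map, List.length_map, (lengths_ok _).1, (lengths_ok _).2]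
    exact hi
  exact h.1 _ (getD_mem hl [])

theorem leaf_small {j : ℕ} (hj : j < 8) : ∀ y ∈ ((leavesOf D.kQ).getD j ⟨[], [], 0, 0⟩).A, y < 2 ^ 25 := by
  have h := D.lists_checked
  simp only [listsOK, Bool.and_eq_true, List.all_eq_true, blt_iff] at h
  exact h.2 _ (getD_mem ((lengths_ok _).2.symm ▸ hj) _)

/-- An element with image in the centraliser of a 2-subgroup lifts into its centraliser as an involution. -/
theorem exists_invol [Finite G] {V : Subgroup D.H} (hV : IsPGroup 2 V) {y : HS} (hy : y * y = 1)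
    (hc : ∀ x ∈ V, Commute y (D.ρ x)) :
    ∃ x : D.H, D.ρ x = y ∧ x * x = 1 ∧ ∀ v ∈ V, Commute x v := by
  have hn : ∀ u ∈ V.map D.ρ, y * u * y⁻¹ ∈ V.map D.ρ := by
    rintro _ ⟨x, hx, rfl⟩
    rw [(hc x hx).eq, mul_inv_cancel_right]
    exact ⟨x, hx, rfl⟩
  have hy' : y * y ∈ V.map D.ρ := hy ▸ one_mem _
  obtain ⟨P, hP, hVP, hmap⟩ := exists_lift D.surj D.ker_odd hV (adj_pGroup (hn := hn) (hv := hy') (hV.map _)) le_adj
  obtain ⟨x, hx, e⟩ : y ∈ P.map D.ρ := hmap.symm ▸ self_mem_adj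
  refine ⟨x, e, D.eq_of_code hP (P.mul_mem hx hx) P.one_mem (by rw [map_mul, e, hy, map_one]), fun v hv => ?_⟩
  exact D.eq_of_code hP (P.mul_mem hx (hVP hv)) (P.mul_mem (hVP hv) hx) (by rw [map_mul, map_mul, e]; exact hc v hv)

theorem isTb_sq {c : ℕ} {y : HS} (hy : HasCode y c) (h : isTb D.kQ c = true) : y * y = 1 := by
  rcases isTb_iff.mp h with h | h
  exacts [(inCls_sq (D.kOf_lt false) (inCls_of_clsOf (D.kOf_lt false) hy h)).1,
    (inCls_sq (D.kOf_lt true) (inCls_of_clsOf (D.kOf_lt true) hy h)).1]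

theorem good_leaf [Finite G] {j : ℕ} (hj : j < 8) : D.Good ((listsOf D.kQ).getD (9 + j) []) := by
  rw [listsOf_leaf]
  have hsmallA := D.leaf_small hj
  have hsmallL : ∀ y ∈ ((leavesOf D.kQ).getD j ⟨[], [], 0, 0⟩).L, y < 2 ^ 25 :=
    listsOf_leaf ▸ (D.list_sub (i := 9 + j) (by omega)).2
  have h := D.leaf_checked hj
  generalize (leavesOf D.kQ).getD j ⟨[], [], 0, 0⟩ = l at h hsmallA hsmallL ⊢
  simp only [leafOK, normL, Bool.and_eq_true, List.all_eq_true, List.any_eq_true, force_eq, Nat.beq_eq,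
    inL_iff, commL_iff] at h
  obtain ⟨hA, hLA, hAA, ⟨hta, htb, htab, hcab, hnLa, hnLb, hnAa, hnAb⟩, hcent⟩ := h
  intro V hV hsub hsup
  set AS := codeSub l.A hA with hAS
  set α := eltN l.a with hα
  set β := eltN l.b with hβ
  have ha := hasCode_eltN l.a
  have hb := hasCode_eltN l.b
  have α2 : α * α = 1 := D.isTb_sq ha hta
  have β2 : β * β = 1 := D.isTb_sq hb htb
  have αβ : α * β = β * α := ((ha.mul hb).eq_iff (hb.mul ha)).mpr hcab
  have hnorm : ∀ (g : HS) (c : ℕ) (K : List ℕ), HasCode g c → (∀ y ∈ K, y < 2 ^ 25) →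
      (∀ x ∈ K, ∃ y ∈ K, mulF c x = mulF y c) → ∀ u x, x ∈ K → HasCode u x →
      ∃ y ∈ K, HasCode (g * u * g⁻¹) y := by
    intro g c K hg hK hn u x hx hu
    obtain ⟨y, hy, e⟩ := hn x hx
    exact ⟨y, hy, hasCode_of_conj hg hu e (hK y hy)⟩
  have hAn : ∀ g ∈ ({α, β} : Set HS), ∀ u ∈ AS, g * u * g⁻¹ ∈ AS := by
    rintro g (rfl | rfl) u hu <;> obtain ⟨x, hx, hux⟩ := mem_codeSub.mp hu
    exacts [mem_codeSub.mpr (hnorm _ _ _ ha hsmallA hnAa u x hx hux),
      mem_codeSub.mpr (hnorm _ _ _ hb hsmallA hnAb u x hx hux)]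
  have hAcomm : ∀ u ∈ AS, ∀ w ∈ AS, u * w = w * u := by
    rintro u ⟨x, hx, hu⟩ w ⟨y, hy, hw⟩
    exact ((hu.mul hw).eq_iff (hw.mul hu)).mpr ((hAA x hx).1 y hy)
  have hAp : IsPGroup 2 AS := by
    rintro ⟨u, x, hx, hu⟩
    exact ⟨4, Subtype.ext (((sq4_spec hu).eq_iff HasCode.one).mpr (hAA x hx).2)⟩
  have α2' : α * α ∈ AS := α2 ▸ one_mem _
  set Q1 := adj AS α (fun u hu => hAn α (Or.inl rfl) u hu) α2' with hQ1
  have hn2 : ∀ u ∈ Q1, β * u * β⁻¹ ∈ Q1 := by
    rintro u (hu | hu)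
    · exact Or.inl (hAn β (Or.inr rfl) u hu)
    · refine Or.inr ?_
      have := hAn β (Or.inr rfl) _ hu
      have e : β⁻¹ * α = α * β⁻¹ := (Commute.inv_right (show Commute α β from αβ)).eq.symm
      rwa [mul_assoc β u α |>.symm, mul_assoc (β * u) α β⁻¹, ← e, ← mul_assoc] at this
  have β2' : β * β ∈ Q1 := β2 ▸ one_mem _
  set Q := adj Q1 β hn2 β2' with hQ
  have hQp : IsPGroup 2 Q := adj_pGroup (adj_pGroup hAp)
  have hVA : V.map D.ρ ≤ AS := by
    rintro _ ⟨x, hx, rfl⟩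
    obtain ⟨c, hc, hxc⟩ := hsub x hx
    exact mem_codeSub.mpr ⟨c, hLA c hc, hxc⟩
  obtain ⟨P, hP, hVP, hPQ⟩ := exists_lift D.surj D.ker_odd hV hQp (hVA.trans (le_adj.trans le_adj))
  obtain ⟨a, haP, ea⟩ : α ∈ P.map D.ρ := hPQ.symm ▸ le_adj self_mem_adj
  obtain ⟨b, hbP, eb⟩ : β ∈ P.map D.ρ := hPQ.symm ▸ self_mem_adj
  set A0 : Subgroup D.H := P ⊓ AS.comap D.ρ with hA0
  have hmapA : ∀ u ∈ AS, ∃ x ∈ A0, D.ρ x = u := by
    intro u hu
    obtain ⟨x, hx, e⟩ : u ∈ P.map D.ρ := hPQ.symm ▸ le_adj (le_adj hu)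
    exact ⟨x, ⟨hx, show D.ρ x ∈ AS from e ▸ hu⟩, e⟩
  have a2 : a * a = 1 := D.eq_of_code hP (P.mul_mem haP haP) P.one_mem (by rw [map_mul, ea, α2, map_one])
  have b2 : b * b = 1 := D.eq_of_code hP (P.mul_mem hbP hbP) P.one_mem (by rw [map_mul, eb, β2, map_one])
  have hab : a * b = b * a :=
    D.eq_of_code hP (P.mul_mem haP hbP) (P.mul_mem hbP haP) (by rw [map_mul, map_mul, ea, eb, αβ])
  have hab2 : a * b * (a * b) = 1 := by
    rw [show a * b * (a * b) = a * (b * a) * b by group, ← hab, show a * (a * b) * b = a * a * (b * b) by group,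
      a2, b2, one_mul]
  obtain ⟨qa, hqa⟩ := D.isC_of_isTb a2 (ea ▸ ha) hta
  obtain ⟨qb, hqb⟩ := D.isC_of_isTb b2 (eb ▸ hb) htb
  obtain ⟨qc, hqc⟩ := D.isC_of_isTb hab2 (by rw [map_mul, ea, eb]; exact ha.mul hb) htab
  have hVn : ∀ g ∈ ({a, b} : Set D.H), ∀ v ∈ V, g * v * g⁻¹ ∈ V := by
    intro g hg v hv
    obtain ⟨x, hx, hvx⟩ := hsub v hv
    obtain ⟨y, hy, hgy⟩ : ∃ y ∈ l.L, HasCode (D.ρ g * D.ρ v * (D.ρ g)⁻¹) y := by
      rcases hg with rfl | rfl
      · rw [ea]; exact hnorm _ _ _ ha hsmallL hnLa _ x hx hvx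
      · rw [eb]; exact hnorm _ _ _ hb hsmallL hnLb _ x hx hvx
    obtain ⟨w, hw, hwy⟩ := hsup y hy
    have hgP : g ∈ P := by rcases hg with rfl | rfl <;> assumption
    rwa [D.eq_of_code hP (P.mul_mem (P.mul_mem hgP (hVP hv)) (P.inv_mem hgP)) (hVP hw)
      (by rw [map_mul, map_mul, map_inv]; exact hgy.unique hwy)]
  set Vg : Subgroup G := V.map D.H.subtype with hVg
  set Y : Subgroup G := centralizer (Vg : Set G) ⊓ centralizer ({z} : Set G) with hY
  have hAY : A0.map D.H.subtype ≤ Y := by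
    rintro _ ⟨x, hx, rfl⟩
    refine ⟨?_, D.le_cent x.2⟩
    rintro _ ⟨v, hv, rfl⟩
    show (v : G) * x = x * v
    exact congrArg Subtype.val (D.eq_of_code hP (P.mul_mem (hVP hv) hx.1) (P.mul_mem hx.1 (hVP hv))
      (by rw [map_mul, map_mul]; exact hAcomm _ (hVA ⟨v, hv, rfl⟩) _ hx.2))
  have key : Y ≤ D.H := by
    refine le_of_four (A := A0.map D.H.subtype) (a := (a : G)) (b := (b : G)) hAY (map_subtype_le _)
      ((hP.to_le inf_le_left).map _) ?_ (congrArg Subtype.val a2) (congrArg Subtype.val b2)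
      (congrArg Subtype.val hab) ?_ ?_ ?_ ?_
    · rintro _ ⟨x, hx, rfl⟩ _ ⟨y, hy, rfl⟩
      exact congrArg Subtype.val (D.eq_of_code hP (P.mul_mem hx.1 hy.1) (P.mul_mem hy.1 hx.1)
        (by rw [map_mul, map_mul]; exact hAcomm _ hx.2 _ hy.2))
    · have hY' : ∀ g ∈ ({a, b} : Set D.H), g * g = 1 → ∀ y ∈ Y, (g : G) * y * (g : G)⁻¹ ∈ Y := by
        intro g hg g2 y hy
        refine ⟨?_, (centralizer ({z} : Set G)).mul_mem ((centralizer ({z} : Set G)).mul_mem (D.le_cent g.2) hy.2)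
          ((centralizer ({z} : Set G)).inv_mem (D.le_cent g.2))⟩
        rintro _ ⟨v, hv, rfl⟩
        have hc : (g : G) * v * (g : G)⁻¹ * y = y * ((g : G) * v * (g : G)⁻¹) := hy.1 _ ⟨_, hVn g hg v hv, rfl⟩
        have gi : (g : G)⁻¹ = g := inv_eq_of_mul_eq_one_right (congrArg Subtype.val g2)
        show (v : G) * ((g : G) * y * (g : G)⁻¹) = (g : G) * y * (g : G)⁻¹ * v
        rw [gi] at hc ⊢
        calc (v : G) * (g * y * g) = (g * g) * v * g * y * g := by
              rw [show (g : G) * g = 1 from congrArg Subtype.val g2]; group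
          _ = g * (g * v * g * y) * g := by group
          _ = g * y * g * v * (g * g) := by rw [hc]; group
          _ = g * y * g * v := by rw [show (g : G) * g = 1 from congrArg Subtype.val g2, mul_one]
      rintro e (rfl | rfl)
      exacts [hY' a (Or.inl rfl) a2, hY' b (Or.inr rfl) b2]
    · have hA' : ∀ g ∈ ({a, b} : Set D.H), ∀ x ∈ A0.map D.H.subtype, (g : G) * x * (g : G)⁻¹ ∈ A0.map D.H.subtype := by
        rintro g hg _ ⟨x, hx, rfl⟩
        refine ⟨g * x * g⁻¹, ⟨?_, ?_⟩, rfl⟩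
        · have hgP : g ∈ P := by rcases hg with rfl | rfl <;> assumption
          exact P.mul_mem (P.mul_mem hgP hx.1) (P.inv_mem hgP)
        · show D.ρ (g * x * g⁻¹) ∈ AS
          rw [map_mul, map_mul, map_inv]
          refine hAn _ ?_ _ hx.2
          rcases hg with rfl | rfl
          exacts [Or.inl ea, Or.inr eb]
      rintro e (rfl | rfl)
      exacts [hA' a (Or.inl rfl), hA' b (Or.inr rfl)]
    · have hmove : ∀ (g : D.H) (q : Bool), IsC t z q (g : G) → ∀ y ∈ Y,
          y * (g : G) * y⁻¹ * (g : G)⁻¹ ∈ A0.map D.H.subtype → y ∈ D.H := by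
        intro g q hq y hy hA'
        refine D.move g.2 hq (mem_centralizer_singleton_iff.mp hy.2) ?_
        have := D.H.mul_mem (map_subtype_le _ hA') g.2
        rwa [inv_mul_cancel_right] at this
      rintro e (rfl | rfl | rfl)
      exacts [hmove a _ hqa, hmove b _ hqb, hmove (a * b) _ hqc]
    · intro y hyH hyY hyN
      obtain ⟨c, hc⟩ := exists_code (D.ρ ⟨y, hyH⟩)
      have hcA : c ∈ l.A := by
        have h1 := allCodes_elim hcent hc
        have h2 : commL l.L c = true := by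
          refine commL_iff.mpr fun x hx => ?_
          obtain ⟨v, hv, hvx⟩ := hsup x hx
          refine (hc.mul hvx).eq ?_
          have e : (⟨y, hyH⟩ : D.H) * v = v * ⟨y, hyH⟩ := Subtype.ext (hyY.1 _ ⟨v, hv, rfl⟩).symm
          rw [← map_mul, e, map_mul]
          exact hvx.mul hc
        rw [h2, cond_true] at h1
        exact inL_iff.mp h1
      obtain ⟨x0, hx0, e0⟩ := hmapA (D.ρ ⟨y, hyH⟩) (mem_codeSub.mpr ⟨c, hcA, hc⟩)
      set k : D.H := x0⁻¹ * ⟨y, hyH⟩ with hk
      have hkk : k ∈ D.ρ.ker := by rw [MonoidHom.mem_ker, hk, map_mul, map_inv, e0, inv_mul_cancel]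
      have hkN : (k : G) ∈ normalizer ((A0.map D.H.subtype : Subgroup G) : Set G) :=
        (normalizer ((A0.map D.H.subtype : Subgroup G) : Set G)).mul_mem
          ((normalizer ((A0.map D.H.subtype : Subgroup G) : Set G)).inv_mem (le_normalizer ⟨x0, hx0, rfl⟩)) hyN
      have hkc : ∀ x ∈ A0, k * x = x * k := by
        intro x hx
        obtain ⟨x', hx', e'⟩ := (mem_normalizer_iff.mp hkN (x : G)).mp ⟨x, hx, rfl⟩
        have e2 : x' = k * x * k⁻¹ := Subtype.ext e'
        have hxx : x' = x := D.eq_of_code hP hx'.1 hx.1 (by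
          rw [e2, map_mul, map_mul, map_inv, MonoidHom.mem_ker.mp hkk, inv_one, mul_one, one_mul])
        rw [← mul_inv_eq_iff_eq_mul, ← e2, hxx]
      have hy0 : (⟨y, hyH⟩ : D.H) = x0 * k := by rw [hk, mul_inv_cancel_left]
      refine ⟨?_, Nat.card D.ρ.ker, D.ker_odd, ?_⟩
      · rintro _ ⟨x, hx, rfl⟩
        have hx0x : x0 * x = x * x0 := D.eq_of_code hP (P.mul_mem hx0.1 hx.1) (P.mul_mem hx.1 hx0.1)
          (by rw [map_mul, map_mul]; exact hAcomm _ hx0.2 _ hx.2)
        have e : (⟨y, hyH⟩ : D.H) * x = x * ⟨y, hyH⟩ := by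
          rw [hy0, mul_assoc, hkc x hx, ← mul_assoc, hx0x, mul_assoc]
        exact congrArg Subtype.val e
      · have hcm : Commute x0 k := (hkc x0 hx0).symm
        have e : (⟨y, hyH⟩ : D.H) ^ Nat.card D.ρ.ker = x0 ^ Nat.card D.ρ.ker := by
          have := congrArg Subtype.val (pow_card_eq_one' (G := D.ρ.ker) (x := ⟨k, hkk⟩))
          rw [SubgroupClass.coe_pow] at this
          rw [hy0, hcm.mul_pow, this, OneMemClass.coe_one, mul_one]
        exact ⟨x0 ^ Nat.card D.ρ.ker, A0.pow_mem hx0 _, congrArg Subtype.val e.symm⟩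
  intro d hdz hdV
  refine key ⟨?_, mem_centralizer_singleton_iff.mpr hdz⟩
  rintro _ ⟨v, hv, rfl⟩
  exact (hdV v hv).symm

/-- The sought class meets no coset: an element of that class centralising `V` lies in `H`. -/
theorem class_step [Finite G] {i : ℕ} (hi : i < 9) (ih : ∀ j, i < j → j < 17 → D.Good ((listsOf D.kQ).getD j []))
    {n : Node} (hn : (nodesOf D.kQ).getD i ⟨[], false, 0, 0, []⟩ = n)
    {V : Subgroup D.H} (hV : IsPGroup 2 V) (hsub : ∀ x ∈ V, ∃ c ∈ n.L, HasCode (D.ρ x) c)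
    (hsup : ∀ c ∈ n.L, ∃ x ∈ V, HasCode (D.ρ x) c) {s : G} (hsz : Commute s z)
    (hsV : ∀ x ∈ V, Commute s (x : G)) (hs : IsC t z n.q s) : s ∈ D.H := by
  classical
  have h := D.node_checked hi
  rw [hn] at h
  simp only [nodeOK, Bool.and_eq_true, List.all_eq_true, force_eq, Nat.beq_eq, commL_iff, Bool.not_eq_true',
    ← Bool.not_eq_true] at h
  obtain ⟨-, ⟨hTt, hct, -, -, hne⟩, hall⟩ := h
  have htc := hasCode_eltN n.t
  obtain ⟨t0, et, t2, htV⟩ := D.exists_invol hV (D.isTb_sq htc hTt) (fun x hx => by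
    obtain ⟨c, hc, hxc⟩ := hsub x hx
    exact ((htc.mul hxc).eq_iff (hxc.mul htc)).mpr (hct c hc))
  obtain ⟨qt, hqt⟩ := D.isC_of_isTb t2 (et ▸ htc) hTt
  by_contra hsH
  set Vg : Subgroup G := V.map D.H.subtype with hVg
  have ht2 : (t0 : G) * t0 = 1 := congrArg Subtype.val t2
  obtain ⟨hs2, -⟩ := D.sq_of_isC hs
  set w : G := s * t0 with hw
  have hwz : Commute w z := hsz.mul_left (D.z_comm t0.2)
  have hwV : ∀ x ∈ V, Commute w (x : G) := fun x hx =>
    (hsV x hx).mul_left (show (t0 : G) * x = x * t0 from congrArg Subtype.val (htV x hx).eq)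
  have hwH : w ∉ D.H := fun e => hsH (by
    have := D.H.mul_mem e t0.2
    rwa [hw, mul_assoc, ht2, mul_one] at this)
  have hflip : ∀ k : ℕ, (t0 : G) * w ^ k * (t0 : G)⁻¹ = (w ^ k)⁻¹ := fun k => by
    rw [← conj_pow, hw, show (t0 : G) * (s * t0) * (t0 : G)⁻¹ = t0 * s by group, ← inv_pow, mul_inv_rev,
      inv_eq_of_mul_eq_one_right hs2, inv_eq_of_mul_eq_one_right ht2]
  have hex : ∃ k, 0 < k ∧ w ^ k ∈ Vg := ⟨orderOf w, orderOf_pos w, by rw [pow_orderOf_eq_one]; exact Vg.one_mem⟩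
  set N := Nat.find hex
  obtain ⟨hN0, hNV⟩ := Nat.find_spec hex
  obtain ⟨v0, hv0, ev0⟩ := hNV
  have hw0 : (v0 : G) = w ^ N := ev0
  rcases Nat.even_or_odd N with ⟨m, hm⟩ | ⟨j, hj⟩
  swap
  · -- conjugate to an element of the coset
    set c := w ^ (j + 1) with hc
    have h1 : c * t0 * c⁻¹ = w ^ N * s := by
      calc c * t0 * c⁻¹ = c * (t0 * c⁻¹ * (t0 : G)⁻¹) * t0 := by group
        _ = c * c * t0 := by
          rw [show (t0 : G) * c⁻¹ * (t0 : G)⁻¹ = ((t0 : G) * c * (t0 : G)⁻¹)⁻¹ by group, hc, hflip, inv_inv]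
        _ = w ^ N * w * t0 := by rw [hc, ← pow_add, ← pow_succ, show j + 1 + (j + 1) = N + 1 by omega]
        _ = w ^ N * s := by rw [mul_assoc, show w * t0 = s by rw [hw, mul_assoc, ht2, mul_one]]
    have hs' : c⁻¹ * s * c = (w ^ N)⁻¹ * t0 := by
      have hcc : Commute c (w ^ N) := Commute.pow_pow_self w _ _
      calc c⁻¹ * s * c = c⁻¹ * (w ^ N)⁻¹ * (w ^ N * s) * c := by group
        _ = c⁻¹ * (w ^ N)⁻¹ * c * t0 := by rw [← h1]; group
        _ = (w ^ N)⁻¹ * t0 := by rw [mul_assoc c⁻¹, hcc.symm.inv_left.eq]; group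
    have hcls : IsC t z n.q ((v0⁻¹ * t0 : D.H) : G) := by
      show IsC t z n.q ((v0 : G)⁻¹ * t0)
      rw [hw0, ← hs']
      have := hs.conj (g := c⁻¹) (hwz.pow_left _).inv_left
      rwa [inv_inv] at this
    obtain ⟨x, hx, hxc⟩ := hsub v0⁻¹ (V.inv_mem hv0)
    refine hne x hx (clsOf_of_inCls (D.kOf_lt n.q) (D.inCls_of_isC hcls) ?_)
    rw [map_mul, et]
    exact hxc.mul htc
  · -- an extension by a power of the product
    set v := w ^ m with hv
    have hvV : v ∉ Vg := fun e => Nat.find_min hex (m := m) (by omega) ⟨by omega, e⟩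
    have hvz : Commute v z := hwz.pow_left _
    have hvv : v * v = (v0 : G) := by rw [hw0, hm, pow_add]
    have hconj : v * t0 * v⁻¹ = v0 * t0 := by
      calc v * t0 * v⁻¹ = v * (t0 * v⁻¹ * (t0 : G)⁻¹) * t0 := by group
        _ = v * v * t0 := by
          rw [show (t0 : G) * v⁻¹ * (t0 : G)⁻¹ = ((t0 : G) * v * (t0 : G)⁻¹)⁻¹ by group, hv, hflip, inv_inv]
        _ = v0 * t0 := by rw [hvv]
    have hvH : v ∈ D.H := D.move t0.2 hqt hvz (hconj ▸ D.H.mul_mem v0.2 t0.2)
    set v' : D.H := ⟨v, hvH⟩ with hv'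
    have hvx : ∀ x ∈ V, v' * x = x * v' := fun x hx => Subtype.ext ((hwV x hx).pow_left m).eq
    have hn' : ∀ x ∈ V, v' * x * v'⁻¹ ∈ V := fun x hx => by rwa [hvx x hx, mul_inv_cancel_right]
    have hvv' : v' * v' ∈ V := by rwa [show v' * v' = v0 from Subtype.ext hvv]
    set W := adj V v' hn' hvv' with hW
    have hWp : IsPGroup 2 W := adj_pGroup hV
    have hwW : ∀ x ∈ W, Commute w (x : G) := by
      intro x hx
      rcases hx with hx | hx
      · exact hwV x hx
      · have h1 : Commute w ((x * v' : D.H) : G) := hwV _ hx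
        have h2 : Commute w v := Commute.self_pow w m
        have := h1.mul_right h2.inv_right
        rwa [show ((x * v' : D.H) : G) * v⁻¹ = x by
          show (x : G) * v * v⁻¹ = x
          exact mul_inv_cancel_right _ _] at this
    obtain ⟨c, hc⟩ := exists_code (D.ρ v')
    have hext := allCodes_elim hall hc
    have hpre : (Nat.beq (mulF (mulF c (codeN n.t)) (mulF c (codeN n.t))) oneCode &&
        (commL n.L c && (!inL n.L c && inL n.L (mulF c c)))) = true := by
      simp only [Bool.and_eq_true, Nat.beq_eq, Bool.not_eq_true', ← Bool.not_eq_true, inL_iff, commL_iff]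
      refine ⟨?_, fun x hx => ?_, fun hcL => ?_, ?_⟩
      · refine ((hc.mul htc).mul (hc.mul htc)).eq ?_
        have e : v' * t0 * (v' * t0) = 1 := Subtype.ext (by
          show v * t0 * (v * t0) = 1
          calc v * t0 * (v * t0) = v * (t0 * v * (t0 : G)⁻¹) * (t0 * t0) := by group
            _ = 1 := by rw [hv, hflip, ht2, mul_inv_cancel, one_mul])
        rw [← et, ← map_mul, ← map_mul, e, map_one]
        exact HasCode.one
      · obtain ⟨u, hu, hux⟩ := hsup x hx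
        refine (hc.mul hux).eq ?_
        rw [← map_mul, hvx u hu, map_mul]
        exact hux.mul hc
      · obtain ⟨u, hu, huc⟩ := hsup c hcL
        have := D.eq_of_code hWp self_mem_adj (le_adj hu) (hc.unique huc)
        exact hvV ⟨u, hu, (congrArg Subtype.val this).symm⟩
      · obtain ⟨c', hc', hcc⟩ := hsub _ hvv'
        rw [map_mul] at hcc
        exact (hc.mul hc).eq hcc ▸ hc'
    rw [extOK, force_eq, hpre, cond_true, Bool.or_eq_true, List.any_eq_true, List.any_eq_true] at hext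
    rcases hext with ⟨x, hx, hT⟩ | ⟨⟨e1, e2, e3⟩, -, hact⟩
    · obtain ⟨u, hu, hux⟩ := hsup x hx
      have huv : u * v' ∈ W := mul_mem (le_adj hu) self_mem_adj
      have hcode : HasCode (D.ρ (u * v')) (mulF x c) := by rw [map_mul]; exact hux.mul hc
      have e2 : u * v' * (u * v') = 1 :=
        D.eq_of_code hWp (mul_mem huv huv) (one_mem _) (by rw [map_mul, map_one]; exact D.isTb_sq hcode hT)
      obtain ⟨q, hq⟩ := D.isC_of_isTb e2 hcode hT
      exact hwH (D.cent_le _ (u * v').2 hq.or ⟨mem_centralizer_singleton_iff.mpr hwz,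
        mem_centralizer_singleton_iff.mpr (hwW _ huv).eq⟩)
    · simp only [actOK, force_eq, Bool.and_eq_true, blt_iff, List.all_eq_true, List.any_eq_true, Bool.or_eq_true,
        Nat.beq_eq] at hact
      obtain ⟨-, hij, hjl, hcov⟩ := hact
      rw [listsOf, List.length_append, List.length_map, List.length_map, (lengths_ok _).1, (lengths_ok _).2] at hjl
      obtain ⟨hsubj, hsmall⟩ := D.list_sub (i := e2) hjl
      obtain ⟨g, hg⟩ := D.surj (eltN e3)
      set V' : Subgroup D.H := W.map (MulAut.conj g).toMonoidHom ⊓ (codeSub _ hsubj).comap D.ρ with hV'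
      have hV'p : IsPGroup 2 V' := (hWp.map _).to_le inf_le_left
      have hcodes : ∀ y ∈ (listsOf D.kQ).getD e2 [], ∃ x ∈ V', HasCode (D.ρ x) y := by
        intro y hy
        obtain ⟨x, hx, hcase⟩ := hcov y hy
        obtain ⟨u, hu, hux⟩ := hsup x hx
        obtain ⟨u', hu', hc'⟩ : ∃ u' ∈ W, HasCode (D.ρ (g * u' * g⁻¹)) y := by
          rcases hcase with hh | hh
          · refine ⟨u, le_adj hu, ?_⟩
            rw [map_mul, map_mul, map_inv, hg]
            exact hasCode_of_conj (hasCode_eltN e3) hux hh (hsmall y hy)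
          · refine ⟨u * v', mul_mem (le_adj hu) self_mem_adj, ?_⟩
            rw [map_mul, map_mul, map_inv, hg]
            exact hasCode_of_conj (hasCode_eltN e3) (by rw [map_mul]; exact hux.mul hc) hh (hsmall y hy)
        exact ⟨g * u' * g⁻¹, ⟨⟨u', hu', rfl⟩, show D.ρ _ ∈ codeSub _ hsubj from ⟨y, hy, hc'⟩⟩, hc'⟩
      have hd : (g : G) * w * (g : G)⁻¹ ∈ D.H := by
        refine ih e2 hij hjl V' hV'p (fun x hx => (mem_codeSub (h := hsubj)).mp hx.2) hcodes _ ?_ ?_
        · exact ((D.z_comm g.2).mul_left hwz).mul_left (D.z_comm g.2).inv_left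
        · rintro _ ⟨⟨u, hu, rfl⟩, -⟩
          show Commute ((g : G) * w * (g : G)⁻¹) ((g : G) * u * (g : G)⁻¹)
          exact (hwW u hu).map (MulAut.conj (g : G)).toMonoidHom
      refine hwH ?_
      have := D.H.mul_mem (D.H.mul_mem (D.H.inv_mem g.2) hd) g.2
      rwa [show (g : G)⁻¹ * ((g : G) * w * (g : G)⁻¹) * g = w by group] at this

theorem good_node [Finite G] {i : ℕ} (hi : i < 9) (ih : ∀ j, i < j → j < 17 → D.Good ((listsOf D.kQ).getD j [])) :
    D.Good ((listsOf D.kQ).getD i []) := by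
  rw [listsOf_node hi]
  set n := (nodesOf D.kQ).getD i ⟨[], false, 0, 0, []⟩ with hn
  intro V hV hsub hsup d hdz hdV
  have h := D.node_checked hi
  rw [← hn] at h
  simp only [nodeOK, Bool.and_eq_true, List.all_eq_true, force_eq, Nat.beq_eq, commL_iff] at h
  obtain ⟨-, ⟨-, -, hcm, hm, -⟩, -⟩ := h
  have hmc := hasCode_eltN n.m
  have hcls : InCls (D.kOf n.q) (eltN n.m) := inCls_of_clsOf (D.kOf_lt _) hmc hm
  obtain ⟨a, ea, a2, haV⟩ := D.exists_invol hV (inCls_sq (D.kOf_lt _) hcls).1 (fun x hx => by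
    obtain ⟨c, hc, hxc⟩ := hsub x hx
    exact ((hmc.mul hxc).eq_iff (hxc.mul hmc)).mpr (hcm c hc))
  have hqa : IsC t z n.q (a : G) := D.isC_of_inCls a2 (ea ▸ hcls)
  refine D.move a.2 hqa hdz (D.class_step hi ih hn.symm hV hsub hsup ?_ (fun x hx => ?_) (hqa.conj hdz))
  · exact (hdz.mul_left (D.z_comm a.2)).mul_left hdz.inv_left
  · exact ((hdV x hx).mul_left (show (a : G) * x = x * a from congrArg Subtype.val (haV x hx).eq)).mul_left
      (hdV x hx).inv_left

theorem good_all [Finite G] : ∀ i < 17, D.Good ((listsOf D.kQ).getD i []) := by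
  have key : ∀ r i, i < 17 → 17 ≤ i + r → D.Good ((listsOf D.kQ).getD i []) := by
    intro r
    induction r with
    | zero => intro i hi h; omega
    | succ r ih =>
      intro i hi _
      rcases Nat.lt_or_ge i 9 with h9 | h9
      · exact D.good_node h9 fun j hij hj => ih j hj (by omega)
      · obtain ⟨j, rfl⟩ := Nat.exists_eq_add_of_le h9
        exact D.good_leaf (by omega)
  exact fun i hi => key 17 i hi (by omega)

theorem root_ok : ((listsOf 1).getD 0 [] = [oneCode, sCode]) ∧ ((listsOf 4).getD 0 [] = [oneCode, sCode]) := by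
  decide +kernel

/-- The centraliser of `z` is `H`. -/
theorem cent_eq [Finite G] : centralizer ({z} : Set G) = D.H := by
  refine le_antisymm (fun d hd => ?_) D.le_cent
  set z0 : D.H := ⟨z, D.z_mem⟩ with hz0
  have hz2 : z0 * z0 = 1 := Subtype.ext (show z * z = 1 by rw [← pow_two, ← D.z_ord, pow_orderOf_eq_one])
  have hroot : (listsOf D.kQ).getD 0 [] = [oneCode, sCode] := by
    rcases D.kQ_mem with h | h <;> rw [h]
    exacts [root_ok.1, root_ok.2]
  have hmem : ∀ x ∈ zpowers z0, x = 1 ∨ x = z0 := by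
    intro x hx
    obtain ⟨k, rfl⟩ := mem_zpowers_iff.mp hx
    rcases Int.even_or_odd k with ⟨r, rfl⟩ | ⟨r, rfl⟩
    · exact Or.inl (by rw [← two_mul, zpow_mul, zpow_two, hz2, one_zpow])
    · exact Or.inr (by rw [zpow_add, zpow_mul, zpow_two, hz2, one_zpow, one_mul, zpow_one])
  refine D.good_all 0 (by norm_num) (zpowers z0) ?_ ?_ ?_ d (mem_centralizer_singleton_iff.mp hd) ?_
  · rintro ⟨x, hx⟩
    refine ⟨1, Subtype.ext ?_⟩
    show x ^ 2 ^ 1 = 1
    rcases hmem x hx with rfl | rfl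
    exacts [one_pow _, by rw [pow_one, pow_two]; exact hz2]
  · intro x hx
    rw [hroot]
    rcases hmem x hx with rfl | rfl
    exacts [⟨_, List.mem_cons_self, by rw [map_one]; exact HasCode.one⟩,
      ⟨_, List.mem_cons_of_mem _ List.mem_cons_self, by rw [D.ρ_z]; exact Zh_code⟩]
  · intro c hc
    rw [hroot] at hc
    rcases List.mem_cons.mp hc with rfl | hc
    · exact ⟨1, one_mem _, by rw [map_one]; exact HasCode.one⟩
    · rcases List.mem_cons.mp hc with rfl | hc
      · exact ⟨z0, mem_zpowers z0, by rw [D.ρ_z]; exact Zh_code⟩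
      · exact absurd hc List.not_mem_nil
  · intro x hx
    rcases hmem x hx with rfl | rfl
    exacts [Commute.one_right d, mem_centralizer_singleton_iff.mp hd]

end Core

end CfsgLib.StdHe
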