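import Cfsg.Agent.Lib.StdHe.CzCode

/-!
The relations among the elements, in an abstract group.
-/

set_option autoImplicit false
set_option maxRecDepth 100000
set_option synthInstance.maxSize 4096

namespace CfsgLib.StdHe

universe u

/-- Conjugation formula for two braided pairs. -/
theorem braid_swap {M : Type u} [Group M] {a b c : M} (ha : a * a = 1) (hb : b * b = 1) (hc : c * c = 1)
    (hac : Commute a c) (h1 : (b * a) ^ 3 = 1) (h2 : (b * c) ^ 3 = 1) :
    b * c * a * b * a * (b * c * a * b)⁻¹ = c ∧ b * c * a * b * c * (b * c * a * b)⁻¹ = a ∧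
      (b * c * a * b) * (b * c * a * b) = 1 := by
  have ai : a⁻¹ = a := inv_eq_of_mul_eq_one_right ha
  have bi : b⁻¹ = b := inv_eq_of_mul_eq_one_right hb
  have ci : c⁻¹ = c := inv_eq_of_mul_eq_one_right hc
  have hba : b * a * b = a * b * a := by
    have : (b * a * b) * (a * b * a) = 1 := by rw [← h1, pow_three]; simp only [mul_assoc]
    have := eq_inv_of_mul_eq_one_left this
    rwa [mul_inv_rev, mul_inv_rev, ai, bi, ← mul_assoc] at this
  have hbc : b * c * b = c * b * c := by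
    have : (b * c * b) * (c * b * c) = 1 := by rw [← h2, pow_three]; simp only [mul_assoc]
    have := eq_inv_of_mul_eq_one_left this
    rwa [mul_inv_rev, mul_inv_rev, ci, bi, ← mul_assoc] at this
  have key : ∀ {a c : M}, a * a = 1 → c * c = 1 → Commute a c → b * a * b = a * b * a → b * c * b = c * b * c →
      b * c * a * b * a * (b * c * a * b)⁻¹ = c := by
    intro a c ha hc hac hba hbc
    rw [mul_inv_rev, mul_inv_rev, mul_inv_rev, inv_eq_of_mul_eq_one_right ha, inv_eq_of_mul_eq_one_right hc, bi]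
    calc b * c * a * b * a * (b * (a * (c * b))) = b * c * a * (b * a * b) * (a * c * b) := by simp only [mul_assoc]
      _ = b * c * (a * a) * b * (a * a) * (c * b) := by rw [hba]; simp only [mul_assoc]
      _ = b * (c * b * c) * b := by rw [ha]; simp only [mul_one, mul_assoc]
      _ = b * b * c * (b * b) := by rw [← hbc]; simp only [mul_assoc]
      _ = _ := by rw [hb, one_mul, mul_one]
  refine ⟨key ha hc hac hba hbc, ?_, ?_⟩
  · have := key hc ha hac.symm hbc hba
    rwa [mul_assoc b a c, hac.eq, ← mul_assoc] at this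
  · calc b * c * a * b * (b * c * a * b) = b * c * a * (b * b) * (c * a) * b := by simp only [mul_assoc]
      _ = b * (c * a * (c * a)) * b := by rw [hb]; simp only [mul_one, mul_assoc]
      _ = _ := by rw [hac.mul_mul_mul_comm, hc, ha, one_mul, mul_one, hb]

/-- The relations. -/
structure Rel (M : Type u) [Group M] where
  /-- the Sylow subgroup -/
  τ : ℕ → M
  /-- the torus element -/
  η : M
  /-- the exchange -/
  h : M
  /-- the field automorphism -/
  p : M
  /-- the first monomial element -/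
  w₁ : M
  /-- the second monomial element -/
  w₂ : M
  mul : ∀ x y, τ x * τ y = τ (tmul x y)
  η_conj : ∀ x < 256, η * τ x * η⁻¹ = τ (tEta x)
  w₁_sq : w₁ * w₁ = 1
  w₁_conj : ∀ x < 256, cN x = 0 → w₁ * τ x * w₁⁻¹ = τ (tW1 x)
  w₁_braid : (w₁ * τ 64) ^ 3 = 1
  w₂_sq : w₂ * w₂ = 1
  w₂_conj : ∀ x < 256, cL x = 0 → w₂ * τ x * w₂⁻¹ = τ (tW2 x)
  w₂_braid : (w₂ * τ 16) ^ 3 = 1
  h_sq : h * h = 1
  p_sq : p * p = 1
  comm : Commute h p
  h_conj : ∀ x < 256, h * τ x * h⁻¹ = τ (hm x)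
  p_conj : ∀ x < 256, p * τ x * p⁻¹ = τ (pm x)
  p_w₁ : Commute p w₁
  p_w₂ : Commute p w₂
  cube₁ : (w₁ * h) ^ 3 = 1
  cube₂ : (w₂ * h * p) ^ 3 = 1
  inj : ∀ x < 256, ∀ o < 4, τ x * ((if Nat.beq (o % 2) 1 then p else 1) * (if Nat.beq (o / 2) 1 then h else 1)) = 1 →
    x = 0 ∧ o = 0

namespace Rel

variable {M : Type u} [Group M] (W : Rel M)

/-- The outer part. -/
def out (o : ℕ) : M := (if Nat.beq (o % 2) 1 then W.p else 1) * (if Nat.beq (o / 2) 1 then W.h else 1)

/-- The element of a code. -/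
def el (n : ℕ) : M := W.τ (n % 256) * W.out (n / 256)

theorem τ_zero : W.τ 0 = 1 := by
  have h := W.mul 0 0
  rw [show tmul 0 0 = 0 from rfl] at h
  exact mul_left_cancel (h.trans (mul_one _).symm)

theorem el_τ {x : ℕ} (hx : x < 256) : W.el x = W.τ x := by
  rw [el, Nat.mod_eq_of_lt hx, Nat.div_eq_of_lt hx, out]
  simp

theorem el_zero : W.el 0 = 1 := by rw [W.el_τ (by norm_num), W.τ_zero]

theorem el_p : W.el 256 = W.p := by
  rw [el, show 256 % 256 = 0 from rfl, W.τ_zero, one_mul, show 256 / 256 = 1 from rfl, out]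
  simp

theorem el_h : W.el 512 = W.h := by
  rw [el, show 512 % 256 = 0 from rfl, W.τ_zero, one_mul, show 512 / 256 = 2 from rfl, out]
  simp

theorem el_hp : W.el 768 = W.h * W.p := by
  rw [el, show 768 % 256 = 0 from rfl, W.τ_zero, one_mul, show 768 / 256 = 3 from rfl, out]
  simp [W.comm.eq]

theorem out_mul : ∀ o < 4, ∀ o' < 4, W.out o * W.out o' = W.out (o ^^^ o') := by
  intro o ho o' ho'
  have e0 : W.out 0 = 1 := by simp [out]
  have e1 : W.out 1 = W.p := by simp [out]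
  have e2 : W.out 2 = W.h := by simp [out]
  have e3 : W.out 3 = W.p * W.h := by simp [out]
  have a1 : W.p * (W.p * W.h) = W.h := by rw [← mul_assoc, W.p_sq, one_mul]
  have a2 : W.h * (W.p * W.h) = W.p := by rw [← mul_assoc, W.comm.eq, mul_assoc, W.h_sq, mul_one]
  have a3 : W.p * W.h * W.p = W.h := by rw [mul_assoc, W.comm.eq, a1]
  have a4 : W.p * W.h * W.h = W.p := by rw [mul_assoc, W.h_sq, mul_one]
  have a5 : W.p * W.h * (W.p * W.h) = 1 := by rw [mul_assoc, a2, W.p_sq]
  interval_cases o <;> interval_cases o' <;>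
    simp only [Nat.reduceXor, e0, e1, e2, e3, one_mul, mul_one, W.p_sq, W.h_sq, W.comm.eq, a1, a2, a3, a4, a5]

theorem out_conj {o : ℕ} (ho : o < 4) {x : ℕ} (hx : x < 256) : W.out o * W.τ x = W.τ (actS o x) * W.out o := by
  have e1 := mul_inv_eq_iff_eq_mul.1 (W.p_conj x hx)
  have e2 := mul_inv_eq_iff_eq_mul.1 (W.h_conj x hx)
  have e3 := mul_inv_eq_iff_eq_mul.1 (W.p_conj _ (hm_lt x))
  interval_cases o
  · simp [out, actS, Nat.mod_eq_of_lt hx]
  · simpa [out, actS] using e1
  · simpa [out, actS] using e2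
  · have : actS 3 x = pm (hm x) := by rw [← (outer_facts.2 x hx).1]; rfl
    simp only [out, this, show Nat.beq (3 % 2) 1 = true from rfl, show Nat.beq (3 / 2) 1 = true from rfl, if_true]
    rw [mul_assoc, e2, ← mul_assoc, e3, mul_assoc]

theorem el_scode {x o : ℕ} (hx : x < 256) (ho : o < 4) : W.el (scode x o) = W.τ x * W.out o := by
  obtain ⟨a, b, -⟩ := scode_parts hx ho
  rw [el, a, b]

theorem el_mul {n m : ℕ} (hn : n < 1024) (hm : m < 1024) : W.el n * W.el m = W.el (smul n m) := by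
  rw [smul, W.el_scode (tmul_lt _ _) (outer_facts.1 _ (by omega) _ (by omega)).1, el, el,
    ← W.out_mul _ (by omega) _ (by omega), ← W.mul,
    mul_assoc, ← mul_assoc (W.out (n / 256)), W.out_conj (by omega) (Nat.mod_lt _ (by norm_num))]
  simp only [mul_assoc]

theorem el_inv {n : ℕ} (hn : n < 1024) : (W.el n)⁻¹ = W.el (sinv n) :=
  inv_eq_of_mul_eq_one_right (by rw [W.el_mul hn (sinv_lt hn), sinv_spec n hn, W.el_zero])

theorem el_conj {g n : ℕ} (hg : g < 1024) (hn : n < 1024) : W.el g * W.el n * (W.el g)⁻¹ = W.el (scj g n) := by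
  rw [W.el_inv hg, W.el_mul hg hn, W.el_mul (smul_lt hg hn) (sinv_lt hg), scj]

theorem el_eq_one {n : ℕ} (hn : n < 1024) (h : W.el n = 1) : n = 0 := by
  obtain ⟨a, b⟩ := W.inj _ (Nat.mod_lt n (by norm_num)) _ (show n / 256 < 4 by omega) h
  omega

theorem actS_twice : ∀ o < 4, ∀ x < 256, actS o (actS o x) = x := by decide +kernel

theorem tmul_tinv_eq {a b : ℕ} (ha : a < 256) (hb : b < 256) (h : tmul a (tinv b) = 0) : a = b := by
  obtain ⟨p, q, l, r⟩ := parts_tmul a (tinv b)
  obtain ⟨p', q', l', r'⟩ := tc_parts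
    (xor_lt_four _ (cA_lt b) _ (fm_lt _ (cL_lt b) _ (fq_lt (cN_lt b))))
    (xor_lt_four _ (cB_lt b) _ (fm_lt _ (cL_lt b) _ (cN_lt b))) (cL_lt b) (cN_lt b)
  rw [h] at p q l r
  have eb : tinv b = tc (cA b ^^^ fm (cL b) (fq (cN b))) (cB b ^^^ fm (cL b) (cN b)) (cL b) (cN b) := rfl
  rw [eb, p', l'] at p
  rw [eb, q', l'] at q
  rw [eb, l'] at l
  rw [eb, r'] at r
  have hL : cL a = cL b := Nat.xor_eq_zero_iff.1 l.symm
  have hN : cN a = cN b := Nat.xor_eq_zero_iff.1 r.symm
  rw [hN] at p q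
  simp only [Nat.xor_assoc, Nat.xor_self, Nat.xor_zero, show cA 0 = 0 from rfl] at p
  simp only [Nat.xor_assoc, Nat.xor_self, Nat.xor_zero, show cB 0 = 0 from rfl] at q
  rw [← tc_self ha, ← tc_self hb, hL, hN, Nat.xor_eq_zero_iff.1 p.symm, Nat.xor_eq_zero_iff.1 q.symm]

theorem el_inj {n m : ℕ} (hn : n < 1024) (hm : m < 1024) (h : W.el n = W.el m) : n = m := by
  have e := W.el_eq_one (smul_lt hn (sinv_lt hm))
    (by rw [← W.el_mul hn (sinv_lt hm), ← W.el_inv hm, h, mul_inv_cancel])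
  have hi := actS_lt (m / 256) (tinv (m % 256))
  have ho' : m / 256 < 4 := by omega
  obtain ⟨s1, s2, -⟩ := scode_parts hi ho'
  unfold smul sinv at e
  rw [s1, s2, scode] at e
  have hx := tmul_lt (n % 256) (actS (n / 256) (actS (m / 256) (tinv (m % 256))))
  have ho : n / 256 = m / 256 := Nat.xor_eq_zero_iff.1 (by omega)
  rw [ho, actS_twice _ ho' _ (tmul_group _ (Nat.mod_lt _ (by norm_num))).2.2.1] at e hx
  have hz : tmul (n % 256) (tinv (m % 256)) = 0 := by omega
  have := tmul_tinv_eq (Nat.mod_lt _ (by norm_num)) (Nat.mod_lt _ (by norm_num)) hz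
  omega

end Rel

end CfsgLib.StdHe
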