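import Cfsg.Agent.Lib.StdHe.UModel
import Cfsg.Agent.Lib.StdHe.WModel
import Cfsg.Agent.Lib.StdHe.CMod

/-!
Facts about the codes for the exchanging element.
-/

set_option autoImplicit false
set_option synthInstance.maxSize 4096
set_option maxRecDepth 20000

namespace CfsgLib.StdHe

/-- The action of the exchanging element. -/
def hm (x : ℕ) : ℕ := tc (cB x) (cA x) (cL x) (fq (cN x))

theorem parts_hm (x : ℕ) :
    cA (hm x) = cB x ∧ cB (hm x) = cA x ∧ cL (hm x) = cL x ∧ cN (hm x) = fq (cN x) :=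
  tc_parts (cB_lt x) (cA_lt x) (cL_lt x) (fq_lt (cN_lt x))

theorem hm_lt (x : ℕ) : hm x < 256 := tc_lt (cB_lt x) (cA_lt x) (cL_lt x) (fq_lt (cN_lt x))

theorem fq_fq : ∀ a < 4, fq (fq a) = a := by decide

theorem hm_hom (x y : ℕ) : hm (tmul x y) = tmul (hm x) (hm y) := by
  obtain ⟨a, b, l, n⟩ := parts_tmul x y
  obtain ⟨a₁, b₁, l₁, n₁⟩ := parts_hm x
  obtain ⟨a₂, b₂, l₂, n₂⟩ := parts_hm y
  show tc _ _ _ _ = tc _ _ _ _
  rw [a, b, l, n, a₁, a₂, b₁, b₂, l₁, l₂, n₁, n₂, fq_fq _ (cN_lt x), fq_xor _ (cN_lt x) _ (cN_lt y)]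

theorem hm_hm : ∀ x < 256, hm (hm x) = x := by decide +kernel

theorem sides_of_three {p q : ℕ} (hp : p < 256) (hq : q < 256) (hp16 : 16 ≤ p) (hq16 : 16 ≤ q)
    (hp2 : tmul p p = 0) (hq2 : tmul q q = 0) (hpq : tmul (tmul p q) (tmul p q) = 0) (hn : cN p = 0) :
    cN q = 0 := by
  by_contra hne
  have hlp : cL p ≠ 0 := by unfold cL cN at *; omega
  obtain ⟨-, -, l, n⟩ := parts_tmul p q
  have hlq : cL q = 0 := (invol_side q hq hq2).resolve_right hne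
  rcases invol_side _ (tmul_lt p q) hpq with e | e
  · rw [l, hlq, Nat.xor_zero] at e; exact hlp e
  · rw [n, hn, Nat.zero_xor] at e; exact hne e

theorem cross_sides : ∀ p < 256, ∀ q < 256, cN p = 0 → cN q = 0 → tmul p q = tmul q p := by
  intro p _ q _ hp hq
  show tc _ _ _ _ = tc _ _ _ _
  have f0 : ∀ a < 4, fm a (fq 0) = 0 ∧ fm a 0 = 0 := by decide
  rw [hp, hq, (f0 _ (cL_lt q)).1, (f0 _ (cL_lt q)).2, (f0 _ (cL_lt p)).1, (f0 _ (cL_lt p)).2]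
  simp only [Nat.xor_zero, Nat.xor_comm (cA p), Nat.xor_comm (cB p), Nat.xor_comm (cL p)]

/-- Two elements of one piece of the hyperoval and their product. -/
theorem align_fact : ∀ p < 64, ∀ q < 64, 16 ≤ p → 16 ≤ q →
    (Nat.beq (lab₁' p) 0 && Nat.beq (lab₁' q) 0 && Nat.beq (lab₁' (tmul p q)) 0 &&
      !Nat.beq (cL p) (cL q)) = true →
      ∃ n < 4, tmul (tmul (64 * n) p) (64 * n) = 16 * cL p ∧ tmul (tmul (64 * n) q) (64 * n) = 16 * cL q := by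
  decide +kernel

/-- The two possible actions on the root parts. -/
def rootTypes (p₁ p₂ q₁ q₂ : ℕ) : Bool :=
  (Nat.beq p₂ (fm 2 p₁) && Nat.beq q₂ (fm 3 q₁)) || (Nat.beq p₂ (fm 3 p₁) && Nat.beq q₂ (fm 2 q₁))

/-- The exchange condition. -/
def exchanges (p₁ p₂ q₁ q₂ : ℕ) : Bool :=
  Nat.beq (cA (tmul (cm p₂ q₁) (cm p₁ q₂))) 0 &&
    Nat.beq (cA (tmul (tmul (cm p₂ q₁) (cm p₁ q₁)) (cm p₂ q₂))) 0 &&
    Nat.beq (cB (tmul (tmul (cm p₁ q₁) (cm p₂ q₁)) (cm p₁ q₂))) 0 &&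
    Nat.beq (cB (tmul (cm p₁ q₁) (cm p₂ q₂))) 0

theorem type_fact : ∀ p₁ < 4, ∀ p₂ < 4, ∀ q₁ < 4, ∀ q₂ < 4, 1 ≤ p₁ → 1 ≤ p₂ → 1 ≤ q₁ → 1 ≤ q₂ →
    (!Nat.beq p₁ p₂ && !Nat.beq q₁ q₂ && exchanges p₁ p₂ q₁ q₂) = true → rootTypes p₁ p₂ q₁ q₂ = true := by
  decide +kernel

theorem cm_gens : tmul (cm 2 1) (cm 1 2) = 1 ∧ tmul (tmul (cm 2 1) (cm 1 1)) (cm 2 2) = 2 ∧
    tmul (tmul (cm 1 1) (cm 2 1)) (cm 1 2) = 4 ∧ tmul (cm 1 1) (cm 2 2) = 8 := by decide +kernel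

theorem conj_root_fact : ∀ y < 256, ∀ a < 4, ∀ k < 4, 1 ≤ a →
    ((tmul (tmul y (16 * a)) (tinv y) = 16 * k → cN y = 0 ∧ k = a) ∧
      tmul (tmul y (16 * a)) (tinv y) ≠ 64 * k) ∧
    (tmul (tmul y (64 * a)) (tinv y) = 64 * k → cL y = 0 ∧ k = a) ∧
      tmul (tmul y (64 * a)) (tinv y) ≠ 16 * k := by
  decide +kernel

theorem root_eta : ∀ a < 4, 1 ≤ a → tEp true (16 * a) ≠ 16 * fm 2 a ∧ tEp false (16 * a) = 16 * fm 2 a ∧
    fm 2 a < 4 ∧ fm 3 a < 4 ∧ 1 ≤ fm 2 a ∧ 1 ≤ fm 3 a ∧ fm 2 a ≠ a := by decide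

theorem scale_root : ∀ k < 4, ∀ m < 4, 1 ≤ k → 1 ≤ m → ∀ l < 4,
    aMap false false k m (16 * l) = 16 * fm k l ∧ aMap false false k m (64 * l) = 64 * fm m l := by
  decide +kernel

end CfsgLib.StdHe
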