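import Cfsg.Agent.Lib.StdHe.FusedD
import Cfsg.Agent.Lib.StdHe.Mirror
import Cfsg.Agent.Lib.StdHe.SwModel

/-!
An element exchanging the centre with the moved part, in normal form.
-/

set_option autoImplicit false
set_option linter.unusedSectionVars false

namespace CfsgLib.StdHe

open Subgroup

universe u

variable {G : Type u} [Group G] {L : Subgroup G}

theorem tMir_eq_zero_side : ∀ x < 256, cL x = 0 → cN (tMir x) = 0 := fun x hx h => (tMir_weyl x hx h).1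

namespace Std

/-- The element scales the root parts. -/
structure Scales (S : Std L) (x : G) (k m : ℕ) : Prop where
  mem : x ∈ normalizer (L : Set G)
  normT : S.NormT x
  k_lt : k < 4
  m_lt : m < 4
  left : ∀ l < 4, x * S.C.τ (16 * l) * x⁻¹ = S.C.τ (16 * fm k l)
  right : ∀ n < 4, x * S.C.τ (64 * n) * x⁻¹ = S.C.τ (64 * fm m n)

/-- The exchanging element in normal form. -/
structure Swp (S : Std L) (h : G) : Prop where
  notN : h ∉ normalizer (L : Set G)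
  act : ∀ i < 256, h * S.C.τ i * h⁻¹ = S.C.τ (hm i)

variable [Finite G] {S : Std L}

theorem Swp.normT {h : G} (hh : S.Swp h) : S.NormT h := fun i hi => ⟨hm i, hm_lt i, hh.act i hi⟩

theorem Swp.nrm {h : G} (hh : S.Swp h) : S.Nrm h 1 1 :=
  ⟨le_rfl, by norm_num, hh.notN, one_mem _, one_mul 1, by
    rw [hh.act 1 (by norm_num), mul_one, show hm 1 = 4 by decide]⟩

variable (S)

include S

theorem normT_mul {x y : G} (hx : S.NormT x) (hy : S.NormT y) : S.NormT (x * y) := fun i hi => by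
  obtain ⟨j, hj, e⟩ := hy i hi
  obtain ⟨k, hk, e'⟩ := hx j hj
  exact ⟨k, hk, by rw [← e', ← e]; group⟩

theorem normT_τ {y : ℕ} (hy : y < 256) : S.NormT (S.C.τ y) := fun i hi =>
  ⟨_, tmul_lt _ _, S.C.conj_τ_τ hy i⟩

theorem normT_mirror {x : G} (hx : S.NormT x) : S.mirror.NormT x := fun i hi => by
  obtain ⟨j, hj, e⟩ := hx (tMir i) (tMir_lt i)
  exact ⟨tMir j, tMir_lt j, show _ = S.C.τ (tMir (tMir j)) by rw [(tMir_spec j hj).2.1]; exact e⟩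

theorem Scales.mul {x y : G} {k m k' m' : ℕ} (hx : S.Scales x k m) (hy : S.Scales y k' m') :
    S.Scales (x * y) (fm k k') (fm m m') := by
  have assoc : ∀ a < 4, ∀ b < 4, ∀ c < 4, fm (fm a b) c = fm a (fm b c) := by decide
  refine ⟨mul_mem hx.mem hy.mem, S.normT_mul hx.normT hy.normT, fm_lt _ hx.k_lt _ hy.k_lt, fm_lt _ hx.m_lt _ hy.m_lt,
    fun l hl => ?_, fun n hn => ?_⟩
  · rw [assoc _ hx.k_lt _ hy.k_lt _ hl, ← hx.left _ (fm_lt _ hy.k_lt _ hl), ← hy.left l hl]; group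
  · rw [assoc _ hx.m_lt _ hy.m_lt _ hn, ← hx.right _ (fm_lt _ hy.m_lt _ hn), ← hy.right n hn]; group

theorem scales_η : S.Scales S.C.η 2 2 := by
  have f : ∀ l < 4, tEta (16 * l) = 16 * fm 2 l ∧ tEta (64 * l) = 64 * fm 2 l := by decide
  exact ⟨le_normalizer S.C.η_mem, fun i _ => ⟨tEta i, tEta_lt i, S.C.η_conj i⟩, by norm_num, by norm_num,
    fun l hl => by rw [S.C.η_conj, (f l hl).1], fun n hn => by rw [S.C.η_conj, (f n hn).2]⟩

/-- An element of the normaliser given on the root parts. -/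
theorem act_of_roots {x : G} (hx : x ∈ normalizer (L : Set G)) (hT : S.NormT x) {a b : ℕ} (ha : a < 4) (hb : b < 4)
    (ha1 : 1 ≤ a) (hb1 : 1 ≤ b) (e16 : x * S.C.τ 16 * x⁻¹ = S.C.τ (16 * a))
    (e32 : x * S.C.τ 32 * x⁻¹ = S.C.τ (16 * fm 2 a)) (e64 : x * S.C.τ 64 * x⁻¹ = S.C.τ (64 * b)) :
    ∃ y < 16, S.C.HasAct (S.C.τ y * x) false false a b := by
  obtain ⟨y, hy, σ, s, k, m, hA⟩ := S.C.exists_act_T hx hT
  have hτ : ∀ {i j : ℕ}, i < 256 → x * S.C.τ i * x⁻¹ = S.C.τ j →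
      tmul (tmul y j) (tinv y) = aMap σ s k m i := fun {i j} hi e =>
    S.C.inj _ (tmul_lt _ _) _ (aMap_lt σ s hA.k₁_mem.2 hA.k₂_mem.2 i) (by
      rw [← hA.τ i hi, ← S.C.conj_τ_τ hy, ← e]; group)
  obtain ⟨f16, f64, f32, -, -⟩ := aMap_roots σ s k hA.k₁_mem.2 m hA.k₂_mem.2
  have h16 := hτ (by norm_num) e16
  have h64 := hτ (by norm_num) e64
  have h32 := hτ (by norm_num) e32
  rw [f32, f16] at h32
  rw [f16] at h16
  rw [f64] at h64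
  obtain ⟨⟨c1, c2⟩, -⟩ := conj_root_fact y hy a ha k hA.k₁_mem.2 ha1
  cases σ with
  | true => exact absurd (by simpa using h16) c2
  | false =>
    obtain ⟨-, d1, -⟩ := conj_root_fact y hy b hb m hA.k₂_mem.2 hb1
    obtain ⟨hn, rfl⟩ := c1 (by simpa using h16)
    obtain ⟨hl, rfl⟩ := d1 (by simpa using h64)
    have hy16 : y < 16 := by unfold cN cL at *; omega
    obtain ⟨r1, r2, r3, -⟩ := root_eta k ha ha1
    cases s with
    | false => exact ⟨y, hy16, hA⟩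
    | true =>
      exfalso
      refine r1 ?_
      rw [show tmul (tmul y (16 * fm 2 k)) (tinv y) = 16 * fm 2 k from S.C.inj _ (tmul_lt _ _) _ (by omega) (by
        rw [← S.C.conj_τ_τ hy, (S.C.centre_comm' hy16 (show 16 * fm 2 k < 256 by omega)).eq,
          mul_inv_cancel_right])] at h32
      simpa using h32.symm

/-- Images of pairs of root elements aligned. -/
theorem align {p q : ℕ} (hp : p < 256) (hq : q < 256) (hp16 : 16 ≤ p) (hq16 : 16 ≤ q) (hnp : cN p = 0) (hnq : cN q = 0)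
    (hne : cL p ≠ cL q) (h1 : S.C.Lab₀ (S.C.τ p)) (h2 : S.C.Lab₀ (S.C.τ q)) (h3 : S.C.Lab₀ (S.C.τ (tmul p q))) :
    ∃ n < 4, S.C.τ (64 * n) * S.C.τ p * (S.C.τ (64 * n))⁻¹ = S.C.τ (16 * cL p) ∧
      S.C.τ (64 * n) * S.C.τ q * (S.C.τ (64 * n))⁻¹ = S.C.τ (16 * cL q) := by
  have hnpq : cN (tmul p q) = 0 := by rw [(parts_tmul p q).2.2.2, hnp, hnq]; rfl
  have lab : ∀ r < 256, cN r = 0 → S.C.Lab₀ (S.C.τ r) → lab₁' r = 0 := fun r hr hn h =>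
    Nat.eq_zero_of_not_pos fun hl => S.C.not_lab₀_E₁ hr hn hl h
  obtain ⟨n, hn, e1, e2⟩ := align_fact p (by unfold cN at hnp; omega) q (by unfold cN at hnq; omega) hp16 hq16 (by
    rw [lab p hp hnp h1, lab q hq hnq h2, lab _ (tmul_lt p q) hnpq h3,
      Bool.eq_false_iff.2 fun h => hne (Nat.eq_of_beq_eq_true h)]
    rfl)
  have hi : (S.C.τ (64 * n))⁻¹ = S.C.τ (64 * n) := inv_eq_of_mul_eq_one_right (by
    rw [S.C.mul, (root_sq n hn).2.1, S.C.τ_zero])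
  exact ⟨n, hn, by rw [hi, S.C.mul, S.C.mul, e1], by rw [hi, S.C.mul, S.C.mul, e2]⟩

section

variable {g₀ k₀ : G} {a₀ : ℕ} {h : G}

/-- An element exchanging the two parts of the centre of the Sylow subgroup. -/
structure Exch (S : Std L) (h : G) : Prop where
  notN : h ∉ normalizer (L : Set G)
  normT : S.NormT h
  zu : ∀ a < 4, ∃ b < 4, h * S.C.τ a * h⁻¹ = S.C.τ (4 * b)
  uz : ∀ b < 4, ∃ a < 4, h * S.C.τ (4 * b) * h⁻¹ = S.C.τ a

theorem Exch.inv (hh : S.Exch h) : (∀ a < 4, ∃ b < 4, h⁻¹ * S.C.τ a * h = S.C.τ (4 * b)) ∧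
    ∀ b < 4, ∃ a < 4, h⁻¹ * S.C.τ (4 * b) * h = S.C.τ a := by
  obtain ⟨hN, hT, hzu, huz⟩ := hh
  choose! f hf hf' using hzu
  choose! g hg hg' using huz
  have key : ∀ (f : ℕ → ℕ), (∀ a < 4, f a < 4) → (∀ a < 4, ∀ b < 4, f a = f b → a = b) →
      ∀ b < 4, ∃ a < 4, f a = b := by
    intro f hf hinj b hb
    obtain ⟨a, e⟩ := (Finite.injective_iff_surjective.1 (fun (i j : Fin 4) e => Fin.ext (hinj i i.2 j j.2
      (congrArg Fin.val e))) : Function.Surjective fun i : Fin 4 => (⟨f i, hf i i.2⟩ : Fin 4)) ⟨b, hb⟩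
    exact ⟨a, a.2, congrArg Fin.val e⟩
  have fi : ∀ a < 4, ∀ b < 4, f a = f b → a = b := fun a ha b hb e => S.C.inj a (by omega) b (by omega)
    (mul_left_cancel (mul_right_cancel (by rw [hf' a ha, hf' b hb, e] : h * S.C.τ a * h⁻¹ = h * S.C.τ b * h⁻¹)))
  have gi : ∀ a < 4, ∀ b < 4, g a = g b → a = b := fun a ha b hb e => by
    have := S.C.inj (4 * a) (by omega) (4 * b) (by omega) (mul_left_cancel (mul_right_cancel
      (by rw [hg' a ha, hg' b hb, e] : h * S.C.τ (4 * a) * h⁻¹ = h * S.C.τ (4 * b) * h⁻¹)))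
    omega
  refine ⟨fun a ha => ?_, fun b hb => ?_⟩
  · obtain ⟨b, hb, rfl⟩ := key g hg gi a ha
    exact ⟨b, hb, by rw [← hg' b hb]; group⟩
  · obtain ⟨a, ha, rfl⟩ := key f hf fi b hb
    exact ⟨a, ha, by rw [← hf' a ha]; group⟩

theorem Exch.root_image (hh : S.Exch h) {l : ℕ} (hl : l < 4) (h0 : l ≠ 0) {r : ℕ}
    (hr : r = 16 * l ∨ r = 64 * l) {j : ℕ} (hj : j < 256) (e : h * S.C.τ r * h⁻¹ = S.C.τ j) :
    16 ≤ j ∧ tmul j j = 0 ∧ S.C.Lab₀ (S.C.τ j) := by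
  have hr16 : 16 ≤ r ∧ r < 256 := by omega
  have hr2 : tmul r r = 0 := by
    rcases hr with rfl | rfl
    exacts [(root_sq l hl).1, (root_sq l hl).2.1]
  have hj16 : 16 ≤ j := by
    by_contra! hlt
    obtain ⟨z, hz, ez⟩ := S.normT_R (S.normT_inv hh.normT) hlt
    rw [← e, show h⁻¹ * (h * S.C.τ r * h⁻¹) * h⁻¹⁻¹ = S.C.τ r by group] at ez
    have := S.C.inj r hr16.2 z (by omega) ez
    omega
  refine ⟨hj16, S.C.sq_eq_one hj (by
    rw [← e, show h * S.C.τ r * h⁻¹ * (h * S.C.τ r * h⁻¹) = h * (S.C.τ r * S.C.τ r) * h⁻¹ by group,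
      S.C.mul, hr2, S.C.τ_zero, mul_one, mul_inv_cancel]), ?_⟩
  have hlab : S.C.Lab₀ (S.C.τ r) := by
    rcases hr with rfl | rfl
    exacts [(S.C.lab₀_root hl h0).1, (S.C.lab₀_root hl h0).2]
  obtain ⟨c, hc, x, hx, hx4, hx0, ec⟩ := hlab
  obtain ⟨a, ha, ea⟩ := hh.uz (cB x) (cB_lt x)
  rw [show 4 * cB x = x by unfold cA cB at *; omega, ← ec] at ea
  have eg : h * c⁻¹ * h⁻¹ * S.C.τ a * (h * c⁻¹ * h⁻¹)⁻¹ = S.C.τ j := by rw [← ea, ← e]; group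
  rw [← eg]
  refine S.fused_lab₀ ha (eg ▸ S.C.mem j) fun hK => ?_
  rw [eg] at hK
  obtain ⟨d, hd, ed⟩ := S.inf_cases (S.C.mem j) hK
  have := S.C.inj d (by omega) j hj ed
  omega

theorem Exch.sides (hh : S.Exch h) {r : ℕ} (hr : r = 16 ∨ r = 64) {p q : ℕ} (hp : p < 256) (hq : q < 256)
    (ep : h * S.C.τ r * h⁻¹ = S.C.τ p) (eq : h * S.C.τ (2 * r) * h⁻¹ = S.C.τ q) :
    (cN p = 0 → cN q = 0 ∧ S.C.Lab₀ (S.C.τ p) ∧ S.C.Lab₀ (S.C.τ q) ∧ S.C.Lab₀ (S.C.τ (tmul p q)) ∧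
      16 ≤ p ∧ 16 ≤ q ∧ cL p ≠ cL q) ∧ (cN p ≠ 0 → cL p = 0) := by
  have hr' : ∀ l, r * l = 16 * l ∨ r * l = 64 * l := fun l => by
    rcases hr with rfl | rfl
    exacts [.inl rfl, .inr rfl]
  obtain ⟨a1, a2, a3⟩ := hh.root_image S (show 1 < 4 by norm_num) one_ne_zero (by simpa using hr' 1) hp ep
  obtain ⟨b1, b2, b3⟩ := hh.root_image S (show 2 < 4 by norm_num) two_ne_zero (by simpa [mul_comm] using hr' 2) hq eq
  have e3 : h * S.C.τ (3 * r) * h⁻¹ = S.C.τ (tmul p q) := by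
    rw [← S.C.mul, ← ep, ← eq, show 3 * r = tmul r (2 * r) by rcases hr with rfl | rfl <;> decide, ← S.C.mul]
    group
  obtain ⟨c1, c2, c3⟩ := hh.root_image S (show 3 < 4 by norm_num) (by norm_num) (by simpa [mul_comm] using hr' 3)
    (tmul_lt p q) e3
  refine ⟨fun hn => ?_, fun hn => (invol_side p hp a2).resolve_right hn⟩
  have hnq := sides_of_three hp hq a1 b1 a2 b2 c2 hn
  refine ⟨hnq, a3, b3, c3, a1, b1, fun e => ?_⟩
  obtain ⟨-, -, hl, hn'⟩ := parts_tmul p q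
  rw [e, Nat.xor_self] at hl
  rw [hn, hnq, Nat.xor_self] at hn'
  unfold cL at hl
  unfold cN at hn'
  have := tmul_lt p q
  omega

/-- The side can be fixed. -/
theorem Exch.fix (hg : S.Nrm g₀ k₀ a₀) (hh : S.Exch h) :
    ∃ h' p, S.Exch h' ∧ p < 256 ∧ cN p = 0 ∧ h' * S.C.τ 16 * h'⁻¹ = S.C.τ p := by
  obtain ⟨p, hp, ep⟩ := hh.normT 16 (by norm_num)
  by_cases hnp : cN p = 0
  · exact ⟨h, p, hh, hp, hnp, ep⟩
  have hlp := (hh.sides S (.inl rfl) hp (hh.normT 32 (by norm_num)).choose_spec.1 ep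
    (hh.normT 32 (by norm_num)).choose_spec.2).2 hnp
  obtain ⟨P, hP, eP⟩ := hh.normT 64 (by norm_num)
  obtain ⟨Q, hQ, eQ⟩ := hh.normT 128 (by norm_num)
  obtain ⟨sP, sP'⟩ := hh.sides S (.inr rfl) hP hQ eP eQ
  have hnP : cN P = 0 := by
    by_contra hne
    refine tEta_facts.2.2.2 (S.C.inj _ (tmul_lt _ _) _ (tmul_lt _ _) ?_)
    have hm := S.mirror.C.inj
    have := cross_sides (tMir p) (tMir_lt p) (tMir P) (tMir_lt P) (tMir_eq_zero_side p hp hlp)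
      (tMir_eq_zero_side P hP (sP' hne))
    have e : tmul p P = tmul P p := by
      rw [← (tMir_spec (tmul p P) (tmul_lt _ _)).2.1, tMir_hom, this, ← tMir_hom, (tMir_spec _ (tmul_lt _ _)).2.1]
    have e' : h * (S.C.τ 16 * S.C.τ 64) * h⁻¹ = h * (S.C.τ 64 * S.C.τ 16) * h⁻¹ := by
      rw [show h * (S.C.τ 16 * S.C.τ 64) * h⁻¹ = h * S.C.τ 16 * h⁻¹ * (h * S.C.τ 64 * h⁻¹) by group,
        show h * (S.C.τ 64 * S.C.τ 16) * h⁻¹ = h * S.C.τ 64 * h⁻¹ * (h * S.C.τ 16 * h⁻¹) by group,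
        ep, eP, S.C.mul, S.C.mul, e]
    rw [← S.C.mul, ← S.C.mul]
    exact mul_left_cancel (mul_right_cancel e')
  obtain ⟨hnQ, l1, l2, l3, P16, Q16, hne⟩ := sP hnP
  obtain ⟨n, hn, e1, e2⟩ := S.align hP hQ P16 Q16 hnP hnQ hne l1 l2 l3
  obtain ⟨f, hf⟩ : ∃ f, f = S.C.τ (64 * n) * h := ⟨_, rfl⟩
  have hn' : 64 * n < 256 := by omega
  have fR : ∀ r < 16, ∀ z < 16, h * S.C.τ r * h⁻¹ = S.C.τ z → f * S.C.τ r * f⁻¹ = S.C.τ z := fun r _ z hz e => by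
    rw [hf, show S.C.τ (64 * n) * h * S.C.τ r * (S.C.τ (64 * n) * h)⁻¹ =
      S.C.τ (64 * n) * (h * S.C.τ r * h⁻¹) * (S.C.τ (64 * n))⁻¹ by group, e, ← (S.C.centre_comm' hz hn').eq,
      mul_inv_cancel_right]
  have fz : S.Exch f := by
    refine ⟨fun hfN => hh.notN ?_, hf ▸ S.normT_mul (S.normT_τ hn') hh.normT, fun a ha => ?_, fun b hb => ?_⟩
    · rw [hf] at hfN
      simpa using mul_mem (inv_mem (le_normalizer (S.C.mem (64 * n)))) hfN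
    · obtain ⟨b, hb, e⟩ := hh.zu a ha; exact ⟨b, hb, fR a (by omega) _ (by omega) e⟩
    · obtain ⟨a, ha, e⟩ := hh.uz b hb; exact ⟨a, ha, fR _ (by omega) a (by omega) e⟩
  -- the images of the second root part
  have hroot : ∀ b < 4, ∃ c < 4, f * S.C.τ (64 * b) * f⁻¹ = S.C.τ (16 * c) := by
    have f1 : f * S.C.τ 64 * f⁻¹ = S.C.τ (16 * cL P) := by rw [hf, ← e1, ← eP]; group
    have f2 : f * S.C.τ 128 * f⁻¹ = S.C.τ (16 * cL Q) := by rw [hf, ← e2, ← eQ]; group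
    intro b hb
    interval_cases b
    · exact ⟨0, by norm_num, by simp [S.C.τ_zero]⟩
    · exact ⟨_, cL_lt P, f1⟩
    · exact ⟨_, cL_lt Q, f2⟩
    · have h16 : ∀ a < 4, ∀ b < 4, tmul (16 * a) (16 * b) = 16 * (a ^^^ b) := by decide
      refine ⟨cL P ^^^ cL Q, xor_lt_four _ (cL_lt P) _ (cL_lt Q), ?_⟩
      rw [show (64 * 3) = tmul 64 128 by decide, ← S.C.mul, ← h16 _ (cL_lt P) _ (cL_lt Q), ← S.C.mul, ← f1, ← f2]
      group
  obtain ⟨iz, iu⟩ := fz.inv S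
  have w1i : S.C.w₁⁻¹ = S.C.w₁ := inv_eq_of_mul_eq_one_right S.C.w₁_sq
  have w1c : ∀ b < 4, S.C.w₁ * S.C.τ b * S.C.w₁⁻¹ = S.C.τ b ∧ S.C.w₁ * S.C.τ (4 * b) * S.C.w₁⁻¹ = S.C.τ (16 * b) ∧
      S.C.w₁ * S.C.τ (16 * b) * S.C.w₁⁻¹ = S.C.τ (4 * b) := by
    have f : ∀ b < 4, cN b = 0 ∧ cN (4 * b) = 0 ∧ cN (16 * b) = 0 ∧ tW1 b = b ∧ tW1 (4 * b) = 16 * b ∧
        tW1 (16 * b) = 4 * b := by decide
    intro b hb
    obtain ⟨a1, a2, a3, a4, a5, a6⟩ := f b hb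
    exact ⟨by rw [S.C.w₁_conj _ a1, a4], by rw [S.C.w₁_conj _ a2, a5], by rw [S.C.w₁_conj _ a3, a6]⟩
  have w2c : ∀ b < 4, S.C.w₂ * S.C.τ b * S.C.w₂⁻¹ = S.C.τ b ∧ S.C.w₂ * S.C.τ (4 * b) * S.C.w₂⁻¹ = S.C.τ (64 * b) ∧
      S.C.w₂ * S.C.τ (64 * b) * S.C.w₂⁻¹ = S.C.τ (4 * b) := by
    have f : ∀ b < 4, cL b = 0 ∧ cL (4 * b) = 0 ∧ cL (64 * b) = 0 ∧ tW2 b = b ∧ tW2 (4 * b) = 64 * b ∧
        tW2 (64 * b) = 4 * b := by decide
    intro b hb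
    obtain ⟨a1, a2, a3, a4, a5, a6⟩ := f b hb
    exact ⟨by rw [S.C.w₂_conj _ a1, a4], by rw [S.C.w₂_conj _ a2, a5], by rw [S.C.w₂_conj _ a3, a6]⟩
  obtain ⟨x, hx⟩ : ∃ x, x = S.C.w₁ * f * S.C.w₂ * f⁻¹ * S.C.w₁ := ⟨_, rfl⟩
  have hconj : ∀ v : G, x * v * x⁻¹ =
      S.C.w₁ * (f * (S.C.w₂ * (f⁻¹ * (S.C.w₁ * v * S.C.w₁⁻¹) * f) * S.C.w₂⁻¹) * f⁻¹) * S.C.w₁⁻¹ := fun v => by
    rw [hx, w1i]; simp [mul_assoc, w1i]
  have xe : ∀ l < 4, x * S.C.τ (16 * l) * x⁻¹ = S.C.τ (16 * l) := fun l hl => by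
    obtain ⟨a, ha, e⟩ := iu l hl
    rw [hconj, (w1c l hl).2.2, e, (w2c a ha).1,
      show f * S.C.τ a * f⁻¹ = S.C.τ (4 * l) by rw [← e]; group, (w1c l hl).2.1]
  have xu : ∀ b < 4, ∃ a < 4, x * S.C.τ (4 * b) * x⁻¹ = S.C.τ a := fun b hb => by
    obtain ⟨c, hc, e⟩ : ∃ c < 4, f⁻¹ * S.C.τ (16 * b) * f = S.C.τ (64 * c) := by
      choose! φ hφ hφ' using hroot
      obtain ⟨a, e⟩ := (Finite.injective_iff_surjective.1 (fun (i j : Fin 4) e => Fin.ext (by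
        have h' := S.C.inj (64 * i) (by omega) (64 * j) (by omega) (mul_left_cancel (mul_right_cancel
          (by rw [hφ' i i.2, hφ' j j.2, show φ i = φ j from congrArg Fin.val e] :
            f * S.C.τ (64 * i) * f⁻¹ = f * S.C.τ (64 * j) * f⁻¹)))
        omega)) : Function.Surjective fun i : Fin 4 => (⟨φ i, hφ i i.2⟩ : Fin 4)) ⟨b, hb⟩
      exact ⟨a, a.2, by rw [← show φ a = b from congrArg Fin.val e, ← hφ' a a.2]; group⟩
    obtain ⟨a, ha, e'⟩ := fz.uz c hc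
    exact ⟨a, ha, by rw [hconj, (w1c b hb).2.1, e, (w2c c hc).2.2, e', (w1c a ha).1]⟩
  have xz : ∀ a < 4, ∃ b < 4, x * S.C.τ a * x⁻¹ = S.C.τ (4 * b) := fun a ha => by
    obtain ⟨b, hb, e⟩ := iz a ha
    obtain ⟨c, hc, e'⟩ := hroot b hb
    exact ⟨c, hc, by rw [hconj, (w1c a ha).1, e, (w2c b hb).2.1, e', (w1c c hc).2.2]⟩
  have xR : ∀ r < 16, ∃ z < 16, x * S.C.τ r * x⁻¹ = S.C.τ z := fun r hr => by
    obtain ⟨hs1, hs2, hs3, hs4⟩ := small_facts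
    obtain ⟨a, ha, ea⟩ := xu (cB r) (cB_lt r)
    obtain ⟨b, hb, eb⟩ := xz (cA r) (cA_lt r)
    refine ⟨tmul a (4 * b), (hs3 a (by omega) (4 * b) (by omega)).1, ?_⟩
    rw [← (hs4 r hr).1, ← S.C.mul, ← S.C.mul, ← ea, ← eb]; group
  have xN : S.NormT x := by
    intro i hi
    have hc : ∀ r < 16, Commute (x * S.C.τ i * x⁻¹) (S.C.τ r) := by
      choose! φ hφ hφ' using xR
      intro r hr
      obtain ⟨a, e⟩ := (Finite.injective_iff_surjective.1 (fun (i j : Fin 16) e => Fin.ext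
        (S.C.inj i (by omega) j (by omega) (mul_left_cancel (mul_right_cancel
          (by rw [hφ' i i.2, hφ' j j.2, show φ i = φ j from congrArg Fin.val e] :
            x * S.C.τ i * x⁻¹ = x * S.C.τ j * x⁻¹))))) : Function.Surjective fun i : Fin 16 => (⟨φ i, hφ i i.2⟩ : Fin 16))
        ⟨r, hr⟩
      rw [← show φ a = r from congrArg Fin.val e, ← hφ' a a.2]
      exact (Commute.conj_iff x).2 (S.C.centre_comm' a.2 hi).symm
    obtain ⟨y, hy, d, hd, e⟩ := S.cent_R hg hc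
    obtain ⟨hdK, hdo⟩ := ((S.K_split hg).1 d).1 hd
    have h4 : (x * S.C.τ i * x⁻¹) ^ 2 ^ 2 = 1 := by rw [conj_pow, S.τ_four_pow hi, mul_one, mul_inv_cancel]
    rw [← e, (commute_cent (S.C.mem y) hdK).mul_pow, S.τ_four_pow hy, one_mul] at h4
    have hd1 : d = 1 := orderOf_eq_one_iff.1 (Nat.eq_one_of_dvd_coprimes
      (Nat.Coprime.pow_right 2 (Nat.coprime_two_right.2 hdo)) dvd_rfl (orderOf_dvd_of_pow_eq_one h4))
    exact ⟨y, hy, by rw [← e, hd1, mul_one]⟩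
  refine ⟨x, 16, ⟨fun hxN => ?_, xN, xz, xu⟩, by norm_num, by decide, by simpa using xe 1 (by norm_num)⟩
  obtain ⟨b, hb, e⟩ := xz 1 (by norm_num)
  obtain ⟨d, hd, ed⟩ := S.inf_cases (S.C.mem (4 * b)) (e ▸ conj_mem_K hxN (S.τ_mem_K (by norm_num)))
  have := S.C.inj d (by omega) _ (by omega) ed
  obtain rfl : b = 0 := by omega
  rw [mul_zero, S.C.τ_zero] at e
  exact S.τ_ne (by norm_num) one_ne_zero (conj_eq_one_iff.1 e)

end

end Std

end CfsgLib.StdHe
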