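import Cfsg.Agent.Lib.StdHe.Swap

/-!
Existence of the exchanging element in normal form.
-/

set_option autoImplicit false
set_option linter.unusedSectionVars false
set_option synthInstance.maxSize 4096

namespace CfsgLib.StdHe

open Subgroup

universe u

variable {G : Type u} [Group G] {L : Subgroup G}

theorem root_sums : ∀ a < 4, ∀ b < 4, tmul (16 * a) (16 * b) = 16 * (a ^^^ b) ∧
    tmul (64 * a) (64 * b) = 64 * (a ^^^ b) := by decide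

theorem unit_facts : ∀ k < 4, 1 ≤ k → fm k 1 = k ∧ fm k 2 = fm 2 k ∧ fm k 3 = k ^^^ fm 2 k ∧
    fm k (fq 1) = k ∧ fm k (fq 2) = fm 3 k ∧ fm k (fq 3) = k ^^^ fm 3 k ∧ fm k 0 = 0 ∧ fm k (fq 0) = 0 ∧
    1 ≤ fq k ∧ fm (fq k) k = 1 ∧ fm (fq k) (fm 2 k) = 2 ∧ fm (fq k) (fm 3 k) = 3 ∧
    ∀ l < 4, fm k (fm (fq k) l) = l ∧ fm k (fm 2 (fm (fq k) l)) = fm 2 l ∧
      fm k (fq (fq (fm (fq k) l))) = l ∧ fm k (fq (fm 2 (fq (fm (fq k) l)))) = fm 3 l := by decide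

theorem code_small : (∀ a < 4, tMir (tMir a) = a ∧ tMir (4 * a) = 4 * a ∧ tMir a < 4) ∧
    hm 0 = 0 ∧ hm 16 = 16 ∧ hm 32 = 32 ∧ hm 64 = 64 ∧ hm 128 = 192 := by decide

namespace Std

variable [Finite G] (S : Std L) {f : G}

include S

theorem exch_mirror (h : S.Exch f) : S.mirror.Exch f := by
  refine ⟨h.notN, S.normT_mirror h.normT, fun a ha => ?_, fun b hb => ?_⟩
  · obtain ⟨b, hb, e⟩ := h.zu (tMir a) (code_small.1 a ha).2.2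
    exact ⟨b, hb, show _ = S.C.τ (tMir (4 * b)) by rw [(code_small.1 b hb).2.1]; exact e⟩
  · obtain ⟨a, ha, e⟩ := h.uz b hb
    refine ⟨tMir a, (code_small.1 a ha).2.2, show _ = S.C.τ (tMir (tMir a)) from ?_⟩
    rw [(code_small.1 a ha).1, ← e, mirror_τ, (code_small.1 b hb).2.1]

/-- Alignment of the first root part. -/
theorem Exch.align₁ (hh : S.Exch f) {p : ℕ} (hp : p < 256) (hn : cN p = 0) (e : f * S.C.τ 16 * f⁻¹ = S.C.τ p) :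
    ∃ n < 4, S.Exch (S.C.τ (64 * n) * f) ∧ ∃ a < 4, ∃ b < 4, 1 ≤ a ∧ 1 ≤ b ∧ a ≠ b ∧
      S.C.τ (64 * n) * f * S.C.τ 16 * (S.C.τ (64 * n) * f)⁻¹ = S.C.τ (16 * a) ∧
      S.C.τ (64 * n) * f * S.C.τ 32 * (S.C.τ (64 * n) * f)⁻¹ = S.C.τ (16 * b) := by
  obtain ⟨q, hq, eq⟩ := hh.normT 32 (by norm_num)
  obtain ⟨hnq, l1, l2, l3, p16, q16, hne⟩ := (hh.sides S (.inl rfl) hp hq e eq).1 hn
  obtain ⟨n, hn4, e1, e2⟩ := S.align hp hq p16 q16 hn hnq hne l1 l2 l3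
  have hn' : 64 * n < 256 := by omega
  have fR : ∀ r, ∀ z < 16, f * S.C.τ r * f⁻¹ = S.C.τ z →
      S.C.τ (64 * n) * f * S.C.τ r * (S.C.τ (64 * n) * f)⁻¹ = S.C.τ z := fun r z hz e => by
    rw [show S.C.τ (64 * n) * f * S.C.τ r * (S.C.τ (64 * n) * f)⁻¹ =
      S.C.τ (64 * n) * (f * S.C.τ r * f⁻¹) * (S.C.τ (64 * n))⁻¹ by group, e, ← (S.C.centre_comm' hz hn').eq,
      mul_inv_cancel_right]
  refine ⟨n, hn4, ⟨fun hfN => hh.notN (by simpa using mul_mem (inv_mem (le_normalizer (S.C.mem (64 * n)))) hfN),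
    S.normT_mul (S.normT_τ hn') hh.normT, fun a ha => ?_, fun b hb => ?_⟩, cL p, cL_lt p, cL q, cL_lt q, ?_, ?_, hne,
    by rw [← e1, ← e]; group, by rw [← e2, ← eq]; group⟩
  · obtain ⟨b, hb, e⟩ := hh.zu a ha; exact ⟨b, hb, fR _ _ (by omega) e⟩
  · obtain ⟨a, ha, e⟩ := hh.uz b hb; exact ⟨a, ha, fR _ a (by omega) e⟩
  · unfold cL; unfold cN at hn; omega
  · unfold cL; unfold cN at hnq; omega

theorem exists_roots {g₀ k₀ : G} {a₀ : ℕ} (hg : S.Nrm g₀ k₀ a₀) (hh : S.Exch f) :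
    ∃ f', S.Exch f' ∧ ∃ p₁ < 4, ∃ p₂ < 4, ∃ q₁ < 4, ∃ q₂ < 4, (1 ≤ p₁ ∧ 1 ≤ p₂ ∧ p₁ ≠ p₂) ∧
      (1 ≤ q₁ ∧ 1 ≤ q₂ ∧ q₁ ≠ q₂) ∧ f' * S.C.τ 16 * f'⁻¹ = S.C.τ (16 * p₁) ∧
      f' * S.C.τ 32 * f'⁻¹ = S.C.τ (16 * p₂) ∧ f' * S.C.τ 64 * f'⁻¹ = S.C.τ (64 * q₁) ∧
      f' * S.C.τ 128 * f'⁻¹ = S.C.τ (64 * q₂) := by
  obtain ⟨f₁, p, hh₁, hp, hn, e⟩ := hh.fix S hg
  obtain ⟨n, hn4, hh₂, a, ha, b, hb, ha1, hb1, hab, ea, eb⟩ := hh₁.align₁ S hp hn e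
  generalize S.C.τ (64 * n) * f₁ = f₂ at hh₂ ea eb
  obtain ⟨P, hP, eP⟩ := hh₂.normT 64 (by norm_num)
  have hlP : cL P = 0 := by
    obtain ⟨Q, hQ, eQ⟩ := hh₂.normT 128 (by norm_num)
    refine (hh₂.sides S (.inr rfl) hP hQ eP eQ).2 fun hnP => ?_
    refine tEta_facts.2.2.2 (S.C.inj _ (tmul_lt _ _) _ (tmul_lt _ _) ?_)
    have hna : cN (16 * a) = 0 := by unfold cN; omega
    rw [← S.C.mul, ← S.C.mul]
    refine mul_left_cancel (mul_right_cancel (?_ : f₂ * (S.C.τ 16 * S.C.τ 64) * f₂⁻¹ = f₂ * (S.C.τ 64 * S.C.τ 16) * f₂⁻¹))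
    rw [show f₂ * (S.C.τ 16 * S.C.τ 64) * f₂⁻¹ = f₂ * S.C.τ 16 * f₂⁻¹ * (f₂ * S.C.τ 64 * f₂⁻¹) by group,
      show f₂ * (S.C.τ 64 * S.C.τ 16) * f₂⁻¹ = f₂ * S.C.τ 64 * f₂⁻¹ * (f₂ * S.C.τ 16 * f₂⁻¹) by group,
      ea, eP, S.C.mul, S.C.mul, cross_sides _ (by omega) P hP hna hnP]
  obtain ⟨m, hm4, hh₃, c, hc, d, hd, hc1, hd1, hcd, ec, ed⟩ :=
    (S.exch_mirror hh₂).align₁ S.mirror (tMir_lt P) (tMir_eq_zero_side P hP hlP)
      (show _ = S.C.τ (tMir (tMir P)) by rw [(tMir_spec P hP).2.1]; exact eP)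
  have hr := fun l (hl : l < 4) => tMir_root l hl
  rw [mirror_τ, mirror_τ, mirror_τ, (hr m hm4).2, (hr c hc).1, show tMir 16 = 64 by decide] at ec
  rw [mirror_τ, mirror_τ, mirror_τ, (hr m hm4).2, (hr d hd).1, show tMir 32 = 128 by decide] at ed
  rw [mirror_τ, (hr m hm4).2] at hh₃
  have hh₄ : S.Exch (S.C.τ (16 * m) * f₂) := by
    refine ⟨hh₃.notN, S.normT_mul (S.normT_τ (by omega)) hh₂.normT, fun a ha => ?_, fun b hb => ?_⟩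
    · obtain ⟨b, hb, e⟩ := hh₂.zu a ha
      exact ⟨b, hb, by rw [show S.C.τ (16 * m) * f₂ * S.C.τ a * (S.C.τ (16 * m) * f₂)⁻¹ =
        S.C.τ (16 * m) * (f₂ * S.C.τ a * f₂⁻¹) * (S.C.τ (16 * m))⁻¹ by group, e,
        ← (S.C.centre_comm' (show 4 * b < 16 by omega) (show 16 * m < 256 by omega)).eq, mul_inv_cancel_right]⟩
    · obtain ⟨a, ha, e⟩ := hh₂.uz b hb
      exact ⟨a, ha, by rw [show S.C.τ (16 * m) * f₂ * S.C.τ (4 * b) * (S.C.τ (16 * m) * f₂)⁻¹ =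
        S.C.τ (16 * m) * (f₂ * S.C.τ (4 * b) * f₂⁻¹) * (S.C.τ (16 * m))⁻¹ by group, e,
        ← (S.C.centre_comm' (show a < 16 by omega) (show 16 * m < 256 by omega)).eq, mul_inv_cancel_right]⟩
  have hfix : ∀ r j, j < 4 → f₂ * S.C.τ r * f₂⁻¹ = S.C.τ (16 * j) →
      S.C.τ (16 * m) * f₂ * S.C.τ r * (S.C.τ (16 * m) * f₂)⁻¹ = S.C.τ (16 * j) := fun r j hj e => by
    have hcm : Commute (S.C.τ (16 * m)) (S.C.τ (16 * j)) := by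
      show _ = _
      rw [S.C.mul, S.C.mul, (roots_comm m hm4 j hj).1]
    rw [show S.C.τ (16 * m) * f₂ * S.C.τ r * (S.C.τ (16 * m) * f₂)⁻¹ =
      S.C.τ (16 * m) * (f₂ * S.C.τ r * f₂⁻¹) * (S.C.τ (16 * m))⁻¹ by group, e, hcm.eq, mul_inv_cancel_right]
  exact ⟨_, hh₄, a, ha, b, hb, c, hc, d, hd, ⟨ha1, hb1, hab⟩, ⟨hc1, hd1, hcd⟩,
    hfix _ _ ha ea, hfix _ _ hb eb, ec, ed⟩

/-- The normal form for the first type. -/
theorem swp_of_type {k m : ℕ} (hh : S.Exch f) (hk : k < 4) (hm' : m < 4) (hk1 : 1 ≤ k) (hm1 : 1 ≤ m)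
    (e16 : f * S.C.τ 16 * f⁻¹ = S.C.τ (16 * k)) (e32 : f * S.C.τ 32 * f⁻¹ = S.C.τ (16 * fm 2 k))
    (e64 : f * S.C.τ 64 * f⁻¹ = S.C.τ (64 * m)) (e128 : f * S.C.τ 128 * f⁻¹ = S.C.τ (64 * fm 3 m)) :
    ∃ h, S.Swp h := by
  obtain ⟨a1, a2, a3, -, -, -, a0, -, k1, kk, kk2, -, kl⟩ := unit_facts k hk hk1
  obtain ⟨-, -, -, b1, b2, b3, -, b0, m1, mm, -, mm3, ml⟩ := unit_facts m hm' hm1
  have hl : ∀ l < 4, f * S.C.τ (16 * l) * f⁻¹ = S.C.τ (16 * fm k l) := by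
    intro l hl
    interval_cases l
    · rw [mul_zero, a0, mul_zero, S.C.τ_zero, mul_one, mul_inv_cancel]
    · rw [a1]; exact e16
    · rw [a2]; exact e32
    · rw [a3, show (16 * 3) = tmul 16 32 by decide, ← (root_sums k hk _ (fm_lt _ (by norm_num) _ hk)).1, ← S.C.mul,
        ← S.C.mul, ← e16, ← e32]
      group
  have hr : ∀ n < 4, f * S.C.τ (64 * n) * f⁻¹ = S.C.τ (64 * fm m (fq n)) := by
    intro n hn
    interval_cases n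
    · rw [mul_zero, b0, mul_zero, S.C.τ_zero, mul_one, mul_inv_cancel]
    · rw [b1]; exact e64
    · rw [b2]; exact e128
    · rw [b3, show (64 * 3) = tmul 64 128 by decide, ← (root_sums m hm' _ (fm_lt _ (by norm_num) _ hm')).2, ← S.C.mul,
        ← S.C.mul, ← e64, ← e128]
      group
  have heta : ∀ l < 4, tEta (16 * l) = 16 * fm 2 l ∧ tEta (64 * l) = 64 * fm 2 l ∧ tEta (4 * l) = 4 * fm 3 l := by decide
  have hδ : S.Scales (f * S.C.η * f⁻¹) 2 3 := by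
    have hT : S.NormT (f * S.C.η * f⁻¹) :=
      S.normT_mul (S.normT_mul hh.normT fun i _ => ⟨tEta i, tEta_lt i, S.C.η_conj i⟩) (S.normT_inv hh.normT)
    have hcj : ∀ v : G, f * S.C.η * f⁻¹ * v * (f * S.C.η * f⁻¹)⁻¹ = f * (S.C.η * (f⁻¹ * v * f) * S.C.η⁻¹) * f⁻¹ :=
      fun v => by group
    refine ⟨?_, hT, by norm_num, by norm_num, fun l hl' => ?_, fun n hn => ?_⟩
    · obtain ⟨b, hb, e⟩ := (hh.inv S).1 1 (by norm_num)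
      obtain ⟨a, ha, e'⟩ := hh.uz (fm 3 b) (fm_lt _ (by norm_num) _ hb)
      refine S.back _ _ (S.τ_mem_K (show 1 < 4 by norm_num)) ?_ (S.τ_sq (by norm_num)) (S.τ_ne (by norm_num) one_ne_zero)
      rw [hcj, e, S.C.η_conj, (heta b hb).2.2, e']
      exact S.τ_mem_K ha
    · have hlt := fm_lt _ (fq_lt hk) _ hl'
      obtain ⟨c1, c2, -, -⟩ := kl l hl'
      have e : f⁻¹ * S.C.τ (16 * l) * f = S.C.τ (16 * fm (fq k) l) := by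
        rw [show 16 * l = 16 * fm k (fm (fq k) l) by rw [c1], ← hl _ hlt]; group
      rw [hcj, e, S.C.η_conj, (heta _ hlt).1, hl _ (fm_lt _ (by norm_num) _ hlt), c2]
    · have hlt := fq_lt (fm_lt _ (fq_lt hm') _ hn)
      obtain ⟨-, -, c3, c4⟩ := ml n hn
      have e : f⁻¹ * S.C.τ (64 * n) * f = S.C.τ (64 * fq (fm (fq m) n)) := by
        rw [show 64 * n = 64 * fm m (fq (fq (fm (fq m) n))) by rw [c3], ← hr _ hlt]; group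
      rw [hcj, e, S.C.η_conj, (heta _ hlt).2.1, hr _ (fm_lt _ (by norm_num) _ hlt), c4]
  obtain ⟨x, hx⟩ : ∃ x, S.Scales x (fq k) (fq m) := by
    have hη := S.scales_η
    have h31 : S.Scales _ 3 1 := Scales.mul S hη hδ
    have h32 : S.Scales _ 3 2 := Scales.mul S hδ hδ
    have h13 : S.Scales _ 1 3 := Scales.mul S hη h32
    have hk' : fq k < 4 := fq_lt hk
    have hm'' : fq m < 4 := fq_lt hm'
    interval_cases (fq k) <;> interval_cases (fq m)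
    exacts [⟨_, Scales.mul S hη (Scales.mul S hη hη)⟩, ⟨_, Scales.mul S h13 h13⟩, ⟨_, h13⟩,
      ⟨_, Scales.mul S h31 h31⟩, ⟨_, hη⟩, ⟨_, hδ⟩, ⟨_, h31⟩, ⟨_, h32⟩, ⟨_, Scales.mul S hη hη⟩]
  refine ⟨x * f, fun hN => hh.notN (by simpa using mul_mem (inv_mem hx.mem) hN), ?_⟩
  have hT := S.normT_mul hx.normT hh.normT
  choose! φ hφ hφ' using hT
  have hcj : ∀ v : G, x * f * v * (x * f)⁻¹ = x * (f * v * f⁻¹) * x⁻¹ := fun v => by group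
  have hom : ∀ i < 256, ∀ j < 256, φ (tmul i j) = tmul (φ i) (φ j) := fun i hi j hj =>
    S.C.inj _ (hφ _ (tmul_lt i j)) _ (tmul_lt _ _) (by
      rw [← hφ' _ (tmul_lt i j), ← S.C.mul, ← S.C.mul, ← hφ' i hi, ← hφ' j hj]; group)
  obtain ⟨-, z0, z16, z32, z64, z128⟩ := code_small
  have val : ∀ i j, i < 256 → j < 256 → x * f * S.C.τ i * (x * f)⁻¹ = S.C.τ j → φ i = j := fun i j hi hj e =>
    S.C.inj _ (hφ i hi) j hj (by rw [← hφ' i hi, e])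
  have hall := hom_eq hom (fun i _ j _ => hm_hom i j)
    (z0.symm ▸ val 0 0 (by norm_num) (by norm_num) (by rw [S.C.τ_zero, mul_one, mul_inv_cancel]))
    (z16.symm ▸ val 16 16 (by norm_num) (by norm_num) (by rw [hcj, e16, hx.left k hk, kk]))
    (z32.symm ▸ val 32 32 (by norm_num) (by norm_num) (by
      rw [hcj, e32, hx.left _ (fm_lt _ (by norm_num) _ hk), kk2]))
    (z64.symm ▸ val 64 64 (by norm_num) (by norm_num) (by rw [hcj, e64, hx.right m hm', mm]))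
    (z128.symm ▸ val 128 192 (by norm_num) (by norm_num) (by
      rw [hcj, e128, hx.right _ (fm_lt _ (by norm_num) _ hm'), mm3]))
  intro i hi
  rw [hφ' i hi, hall i hi]

/-- The exchanging element exists for suitable coordinates. -/
theorem exists_swp {g₀ k₀ : G} {a₀ : ℕ} (hg : S.Nrm g₀ k₀ a₀) : ∃ (S' : Std L) (h : G), S'.Swp h := by
  obtain ⟨h, hN, hT, -, hzu, huz⟩ := S.nrm_swap hg
  obtain ⟨f, hf, p₁, hp₁, p₂, hp₂, q₁, hq₁, q₂, hq₂, ⟨p1, p2, pne⟩, ⟨q1, q2, qne⟩, e16, e32, e64, e128⟩ :=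
    S.exists_roots hg ⟨hN, hT, hzu, huz⟩
  have hc : ∀ l n : ℕ, ∀ u v : ℕ, f * S.C.τ (16 * l) * f⁻¹ = S.C.τ (16 * u) →
      f * S.C.τ (64 * n) * f⁻¹ = S.C.τ (64 * v) → f * S.C.τ (cm l n) * f⁻¹ = S.C.τ (cm u v) := by
    intro l n u v eu ev
    rw [cm, cm, ← S.C.mul, ← S.C.mul, ← S.C.mul, ← S.C.mul, ← eu, ← ev]; group
  have c11 := hc 1 1 _ _ e16 e64
  have c21 := hc 2 1 _ _ e32 e64
  have c12 := hc 1 2 _ _ e16 e128
  have c22 := hc 2 2 _ _ e32 e128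
  obtain ⟨g1, g2, g4, g8⟩ := cm_gens
  obtain ⟨b₁, hb₁, u₁⟩ := hf.zu 1 (by norm_num)
  obtain ⟨b₂, hb₂, u₂⟩ := hf.zu 2 (by norm_num)
  obtain ⟨a₁, ha₁, v₁⟩ := hf.uz 1 (by norm_num)
  obtain ⟨a₂, ha₂, v₂⟩ := hf.uz 2 (by norm_num)
  have m2 : ∀ {i j i' j' : ℕ}, f * S.C.τ i * f⁻¹ = S.C.τ i' → f * S.C.τ j * f⁻¹ = S.C.τ j' →
      f * S.C.τ (tmul i j) * f⁻¹ = S.C.τ (tmul i' j') := fun ei ej => by
    rw [← S.C.mul, ← S.C.mul, ← ei, ← ej]; group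
  rw [← g1, m2 c21 c12] at u₁
  rw [← g2, m2 (m2 c21 c11) c22] at u₂
  rw [show 4 * 1 = 4 from rfl, ← g4, m2 (m2 c11 c21) c12] at v₁
  rw [show 4 * 2 = 8 from rfl, ← g8, m2 c11 c22] at v₂
  have i₁ := S.C.inj _ (tmul_lt _ _) _ (by omega) u₁
  have i₂ := S.C.inj _ (tmul_lt _ _) _ (by omega) u₂
  have j₁ := S.C.inj _ (tmul_lt _ _) _ (by omega) v₁
  have j₂ := S.C.inj _ (tmul_lt _ _) _ (by omega) v₂
  have hA : ∀ b < 4, cA (4 * b) = 0 ∧ cB b = 0 := by decide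
  have hex : exchanges p₁ p₂ q₁ q₂ = true := by
    rw [exchanges, i₁, i₂, j₁, j₂, (hA _ hb₁).1, (hA _ hb₂).1, (hA _ ha₁).2, (hA _ ha₂).2]; rfl
  have ht := type_fact p₁ hp₁ p₂ hp₂ q₁ hq₁ q₂ hq₂ p1 p2 q1 q2 (by
    rw [hex, Bool.eq_false_iff.2 fun h => pne (Nat.eq_of_beq_eq_true h),
      Bool.eq_false_iff.2 fun h => qne (Nat.eq_of_beq_eq_true h)]
    rfl)
  rw [rootTypes, Bool.or_eq_true, Bool.and_eq_true, Bool.and_eq_true] at ht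
  rcases ht with ⟨t1, t2⟩ | ⟨t1, t2⟩
  · obtain ⟨x, hx⟩ := S.swp_of_type hf hp₁ hq₁ p1 q1 e16 (by rw [← Nat.eq_of_beq_eq_true t1]; exact e32) e64
      (by rw [← Nat.eq_of_beq_eq_true t2]; exact e128)
    exact ⟨S, x, hx⟩
  · have r := fun l (hl : l < 4) => tMir_root l hl
    obtain ⟨x, hx⟩ := S.mirror.swp_of_type (S.exch_mirror hf) hq₁ hp₁ q1 p1
      (by rw [mirror_τ, mirror_τ, (r _ hq₁).1, show tMir 16 = 64 by decide]; exact e64)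
      (by rw [← Nat.eq_of_beq_eq_true t2, mirror_τ, mirror_τ, (r _ hq₂).1, show tMir 32 = 128 by decide]; exact e128)
      (by rw [mirror_τ, mirror_τ, (r _ hp₁).2, show tMir 64 = 16 by decide]; exact e16)
      (by rw [← Nat.eq_of_beq_eq_true t1, mirror_τ, mirror_τ, (r _ hp₂).2, show tMir 128 = 32 by decide]; exact e32)
    exact ⟨S.mirror, x, hx⟩

end Std

end CfsgLib.StdHe
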